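import Cfsg.Agent.Lib.Grp.PGrp

/-!
# `2`-groups without a normal four-subgroup

Such a group has a cyclic subgroup of index at most two, and if it is not cyclic its
abelianization is elementary abelian.
-/

set_option autoImplicit false
set_option linter.unusedSectionVars false

namespace GT

open Cfsg Subgroup
open scoped commutatorElement

variable {G : Type*} [Group G] [Finite G]

/-- `S` has no normal four-subgroup through the central involution `z`. -/
def NoFour (S : Subgroup G) (z : G) : Prop :=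
  ∀ t ∈ S, t * t = 1 → (∀ g ∈ S, g * t * g⁻¹ = t ∨ g * t * g⁻¹ = z * t) → t = 1 ∨ t = z

theorem noFour_exists_cyclic (hG : IsPGroup 2 G) {z : G} (hz : z ∈ center G) (hz1 : z ≠ 1)
    (hzz : z * z = 1) (h : NoFour ⊤ z) :
    ∃ a : G, (zpowers a).Normal ∧ centralizer (zpowers a : Set G) = zpowers a ∧ z ∈ zpowers a := by
  have : Fact (Nat.Prime 2) := ⟨Nat.prime_two⟩
  have := hG.isNilpotent
  have hzc : ∀ g : G, g * z = z * g := mem_center_iff.1 hz
  have hZn : (zpowers z).Normal := ⟨fun n hn g => by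
    obtain ⟨i, rfl⟩ := mem_zpowers_iff.1 hn
    rw [← conj_zpow, hzc g, mul_inv_cancel_right]; exact zpow_mem (mem_zpowers z) i⟩
  obtain ⟨A, hAn, hAc, hZA, hA⟩ := exists_self_centralizing_normal (A := zpowers z)
  have hcyc : IsCyclic A := by
    by_contra hnc
    obtain ⟨x, hx, y, hy, hx2, hy2, hy1, hxy⟩ :=
      exists_pair_of_not_isCyclic_of_isPGroup (hG.to_subgroup A) hnc
    have hAcomm : ∀ a ∈ A, ∀ b ∈ A, a * b = b * a := fun a ha b hb =>
      congrArg Subtype.val (hAc.is_comm.comm ⟨a, ha⟩ ⟨b, hb⟩)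
    let L : Subgroup G :=
      { carrier := {g | g ∈ A ∧ g * g = 1}
        mul_mem' := fun {a b} ha hb => ⟨mul_mem ha.1 hb.1, by
          calc a * b * (a * b) = a * (b * a) * b := by group
            _ = (a * a) * (b * b) := by rw [← hAcomm a ha.1 b hb.1]; group
            _ = 1 := by rw [ha.2, hb.2, one_mul]⟩
        one_mem' := ⟨one_mem _, one_mul 1⟩
        inv_mem' := fun {a} ha => ⟨inv_mem ha.1, by rw [← mul_inv_rev, ha.2, inv_one]⟩ }
    have hLn : L.Normal := ⟨fun n hn g => ⟨hAn.conj_mem n hn.1 g, by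
      calc g * n * g⁻¹ * (g * n * g⁻¹) = g * (n * n) * g⁻¹ := by group
        _ = 1 := by rw [hn.2]; group⟩⟩
    have hzmem : ∀ u ∈ zpowers z, u = 1 ∨ u = z := by
      intro u hu
      obtain ⟨i, rfl⟩ := mem_zpowers_iff.1 hu
      have h2 : z ^ (2 : ℤ) = 1 := by rw [zpow_two, hzz]
      rcases Int.even_or_odd' i with ⟨c, rfl | rfl⟩
      · left; rw [zpow_mul, h2, one_zpow]
      · right; rw [zpow_add, zpow_mul, h2, one_zpow, one_mul, zpow_one]
    have hlt : zpowers z < L := by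
      refine lt_of_le_of_ne (fun u hu => ⟨hZA hu, ?_⟩) fun he => ?_
      · rcases hzmem u hu with rfl | rfl
        · exact one_mul 1
        · exact hzz
      · have hx' : x ∈ zpowers z := he ▸ (⟨hx, by rw [← pow_two, hx2]⟩ : x ∈ L)
        have hy' : y ∈ zpowers z := he ▸ (⟨hy, by rw [← pow_two, hy2]⟩ : y ∈ L)
        rcases hzmem y hy' with rfl | rfl
        · exact hy1 rfl
        · exact hxy hx'
    obtain ⟨M, -, hKM, hML, hidx, hcomm⟩ := exists_normal_relIndex_eq_of_lt hG hlt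
    have hne : ¬ M ≤ zpowers z := fun hle => by
      rw [relIndex_eq_one.2 hle] at hidx; exact absurd hidx (by norm_num)
    obtain ⟨t, htM, htz⟩ := SetLike.not_le_iff_exists.1 hne
    have := h t (mem_top t) (hML htM).2 fun g _ => by
      have h1 : ⁅t, g⁆ ∈ zpowers z := hcomm (commutator_mem_commutator htM (mem_top g))
      have h2 : ⁅t, g⁆⁻¹ ∈ zpowers z := inv_mem h1
      rw [commutatorElement_inv, commutatorElement_def] at h2
      rcases hzmem _ h2 with h3 | h3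
      · left; exact mul_inv_eq_one.1 h3
      · right; exact mul_inv_eq_iff_eq_mul.1 h3
    rcases this with rfl | rfl
    · exact htz (one_mem _)
    · exact htz (mem_zpowers _)
  obtain ⟨a, rfl⟩ := isCyclic_iff_exists_zpowers_eq.1 hcyc
  exact ⟨a, hAn, hA, hZA (mem_zpowers z)⟩

theorem noFour_structure (hG : IsPGroup 2 G) {z : G} (hz : z ∈ center G) (hz1 : z ≠ 1)
    (hzz : z * z = 1) (h : NoFour ⊤ z) :
    ∃ a : G, (∀ u ∈ zpowers a, u * u = 1 → u = 1 ∨ u = z) ∧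
      (∀ g ∉ zpowers a, ∀ g' ∉ zpowers a, g * g' ∈ zpowers a) ∧
      ∀ g ∉ zpowers a, a * a ∈ commutator G ∧ g * g ∈ zpowers (a * a) ∧ z ∈ zpowers (a * a) := by
  have : Fact (Nat.Prime 2) := ⟨Nat.prime_two⟩
  obtain ⟨a, hAn, hA, hza⟩ := noFour_exists_cyclic hG hz hz1 hzz h
  have hzc : ∀ g : G, g * z = z * g := mem_center_iff.1 hz
  have hzconj : ∀ g : G, g * z * g⁻¹ = z := fun g => by rw [hzc, mul_inv_cancel_right]
  obtain ⟨k, hk⟩ := IsPGroup.iff_orderOf.1 hG a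
  have pw : ∀ n : ℤ, a ^ n = 1 ↔ (2 : ℤ) ^ k ∣ n := fun n => by
    rw [← orderOf_dvd_iff_zpow_eq_one, hk]; push_cast; rfl
  have pw2 : ∀ m n : ℤ, a ^ m = a ^ n ↔ (2 : ℤ) ^ k ∣ m - n := fun m n => by
    rw [← pw, zpow_sub, mul_inv_eq_one]
  have hcent : ∀ g : G, g * a * g⁻¹ = a → g ∈ zpowers a := fun g hg => by
    rw [← hA]
    intro u hu
    obtain ⟨i, rfl⟩ := mem_zpowers_iff.1 hu
    have : Commute a g := (mul_inv_eq_iff_eq_mul.1 hg).symm
    exact (this.zpow_left i).eq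
  have hconj : ∀ g : G, ∃ i : ℤ, g * a * g⁻¹ = a ^ i := fun g => by
    obtain ⟨i, hi⟩ := mem_zpowers_iff.1 (hAn.conj_mem a (mem_zpowers a) g)
    exact ⟨i, hi.symm⟩
  obtain ⟨m, hm⟩ := mem_zpowers_iff.1 hza
  cases k with
  | zero =>
    exfalso; apply hz1; rw [← hm, pw]; simp
  | succ l =>
  have inv2 : ∀ n : ℤ, a ^ n * a ^ n = 1 → a ^ n = 1 ∨ a ^ n = a ^ ((2 : ℤ) ^ l) := by
    intro n hn
    rw [← zpow_add, pw, pow_succ, ← two_mul, mul_comm 2 n] at hn
    obtain ⟨c, rfl⟩ := (mul_dvd_mul_iff_right (two_ne_zero)).1 hn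
    rcases Int.even_or_odd' c with ⟨d, rfl | rfl⟩
    · left; rw [pw]; exact ⟨d, by ring⟩
    · right; rw [pw2]; exact ⟨d, by ring⟩
  have hzl : z = a ^ ((2 : ℤ) ^ l) := by
    rcases inv2 m (by rw [hm, hzz]) with h1 | h1
    · exact absurd (hm.symm.trans h1) hz1
    · exact hm.symm.trans h1
  have huniq : ∀ u ∈ zpowers a, u * u = 1 → u = 1 ∨ u = z := by
    intro u hu h2
    obtain ⟨n, rfl⟩ := mem_zpowers_iff.1 hu
    rw [hzl]; exact inv2 n h2
  have hodd : ∀ (g : G) (i : ℤ), g * a * g⁻¹ = a ^ i → Odd i := by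
    intro g i hi
    rcases Int.even_or_odd' i with ⟨c, rfl | rfl⟩
    · exfalso; apply hz1
      rw [← hzconj g, hzl, ← conj_zpow, hi, ← zpow_mul, pw]; exact ⟨c, by ring⟩
    · exact ⟨c, rfl⟩
  have hz2 : ∀ n : ℤ, z ^ (2 * n) = 1 := fun n => by rw [zpow_mul, zpow_two, hzz, one_zpow]
  have hz3 : ∀ n : ℤ, z ^ (2 * n + 1) = z := fun n => by rw [zpow_add, hz2, one_mul, zpow_one]
  have haz : Commute a z := hzc a
  -- the key step: no element outside `⟨a⟩` with square inside acts as a power `≡ 1 mod 4`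
  have key : ∀ (g : G) (i : ℤ), g * a * g⁻¹ = a ^ i → (4 : ℤ) ∣ i - 1 → g * g ∈ zpowers a →
      g ∈ zpowers a := by
    intro g i hi h4 hgg
    by_contra hg
    obtain ⟨n, hn⟩ := mem_zpowers_iff.1 hgg
    have e1 : a ^ (i * i) = a ^ (1 : ℤ) := by
      rw [zpow_mul, ← hi, conj_zpow, ← hi, zpow_one]
      calc g * (g * a * g⁻¹) * g⁻¹ = (g * g) * a * (g * g)⁻¹ := by group
        _ = a := by rw [← hn]; group
    rw [pw2] at e1
    obtain ⟨c, hc⟩ := h4
    have e2 : (2 : ℤ) ^ l ∣ i - 1 := by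
      have : i * i - 1 = ((i - 1) * (2 * c + 1)) * 2 := by
        have : i = 4 * c + 1 := by linarith
        rw [this]; ring
      rw [this, pow_succ] at e1
      have e3 := (mul_dvd_mul_iff_right (two_ne_zero)).1 e1
      refine IsCoprime.dvd_of_dvd_mul_right (IsCoprime.pow_left ?_) e3
      exact ⟨-c, 1, by ring⟩
    have e3 : ¬ (2 : ℤ) ^ (l + 1) ∣ i - 1 := fun hd => hg (hcent g (by
      rw [hi]; conv_rhs => rw [← zpow_one a]
      exact (pw2 _ _).2 hd))
    obtain ⟨d, hd⟩ := e2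
    have hdodd : Odd d := by
      rcases Int.even_or_odd' d with ⟨f, rfl | rfl⟩
      · exact absurd ⟨f, by rw [hd]; ring⟩ e3
      · exact ⟨f, rfl⟩
    obtain ⟨f, rfl⟩ := hdodd
    have hl : 2 ≤ l := by
      by_contra hl
      have : l = 0 ∨ l = 1 := by omega
      rcases this with rfl | rfl
      · simp at hd; omega
      · simp at hd; omega
    obtain ⟨l', rfl⟩ : ∃ l', l = l' + 2 := ⟨l - 2, by omega⟩
    have hga : g * a * g⁻¹ = a * z := by
      rw [hi, hzl]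
      conv_rhs => rw [← zpow_one a, ← zpow_mul, ← zpow_add]
      rw [pw2]; exact ⟨f, by linear_combination hd⟩
    have hconjpow : ∀ t : G, t * a * t⁻¹ = a * z → ∀ j : ℤ, t * a ^ j * t⁻¹ = a ^ j * z ^ j :=
      fun t ht j => by rw [← conj_zpow, ht, haz.mul_zpow]
    have hn2 : Even n := by
      rcases Int.even_or_odd' n with ⟨r, rfl | rfl⟩
      · exact ⟨r, by ring⟩
      · exfalso; apply hz1
        have e4 := hconjpow g hga (2 * r + 1)
        rw [hn, hz3] at e4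
        have : g * (g * g) * g⁻¹ = g * g := by group
        rw [this] at e4
        exact (left_eq_mul.1 e4)
    obtain ⟨r, rfl⟩ := hn2
    have hsq : ∀ j : ℤ, (a ^ j * g) * (a ^ j * g) = a ^ (j + j + (r + r)) * z ^ j := by
      intro j
      calc (a ^ j * g) * (a ^ j * g) = a ^ j * (g * a ^ j * g⁻¹) * (g * g) := by group
        _ = a ^ j * (a ^ j * z ^ j) * a ^ (r + r) := by rw [hconjpow g hga, hn]
        _ = a ^ j * a ^ j * (z ^ j * a ^ (r + r)) := by group
        _ = a ^ j * a ^ j * (a ^ (r + r) * z ^ j) := by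
          rw [((haz.zpow_zpow (r + r) j).eq)]
        _ = _ := by rw [zpow_add (a := a) (j + j), zpow_add a j j]; group
    obtain ⟨j, hj⟩ : ∃ j : ℤ, (a ^ j * g) * (a ^ j * g) = 1 := by
      rcases Int.even_or_odd' r with ⟨s, rfl | rfl⟩
      · refine ⟨2 * (-s), ?_⟩
        rw [hsq, hz2, mul_one, pw]; exact ⟨0, by ring⟩
      · refine ⟨2 * (-s - 1 + 2 ^ l') + 1, ?_⟩
        rw [hsq, hz3, hzl, ← zpow_add, pw]; exact ⟨1, by ring⟩
    set t := a ^ j * g with ht
    have hta : t * a * t⁻¹ = a * z := by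
      calc t * a * t⁻¹ = a ^ j * (g * a * g⁻¹) * (a ^ j)⁻¹ := by rw [ht]; group
        _ = a ^ j * a * (z * (a ^ j)⁻¹) := by rw [hga]; group
        _ = a * z := by rw [← hzc]; group
    have htA : t ∉ zpowers a := fun h1 => hg (by
      have := mul_mem (inv_mem (zpow_mem (mem_zpowers a) j)) h1
      rwa [ht, inv_mul_cancel_left] at this)
    have := h t (mem_top t) hj fun y _ => by
      obtain ⟨i', hi'⟩ := hconj y⁻¹
      obtain ⟨s, rfl⟩ := hodd _ _ hi'
      have e5 : (y * t * y⁻¹) * a * (y * t * y⁻¹)⁻¹ = a * z := by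
        calc (y * t * y⁻¹) * a * (y * t * y⁻¹)⁻¹ = y * (t * (y⁻¹ * a * y⁻¹⁻¹) * t⁻¹) * y⁻¹ := by
              group
          _ = y * (y⁻¹ * a * y⁻¹⁻¹ * z) * y⁻¹ := by rw [hi', hconjpow t hta, hz3]
          _ = a * (y * z * y⁻¹) := by group
          _ = a * z := by rw [hzconj]
      have e6 : (y * t * y⁻¹) * t⁻¹ ∈ zpowers a := by
        apply hcent
        have e7 : t⁻¹ * a * t = a * z := by
          have : t⁻¹ * (t * a * t⁻¹ * z) * t = a * z := by
            calc t⁻¹ * (t * a * t⁻¹ * z) * t = a * (t⁻¹ * z * t⁻¹⁻¹) := by group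
              _ = a * z := by rw [hzconj]
          rwa [hta, mul_assoc a, hzz, mul_one] at this
        calc y * t * y⁻¹ * t⁻¹ * a * (y * t * y⁻¹ * t⁻¹)⁻¹
            = y * t * y⁻¹ * (t⁻¹ * a * t) * (y * t * y⁻¹)⁻¹ := by group
          _ = (y * t * y⁻¹ * a * (y * t * y⁻¹)⁻¹) * ((y * t * y⁻¹) * z * (y * t * y⁻¹)⁻¹) := by
            rw [e7]; group
          _ = a := by rw [e5, hzconj, mul_assoc, hzz, mul_one]
      obtain ⟨w, hw⟩ := mem_zpowers_iff.1 e6
      have e8 : y * t * y⁻¹ = a ^ w * t := by rw [hw]; group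
      have e9 : a ^ (w + w) * z ^ w = 1 := by
        calc a ^ (w + w) * z ^ w = a ^ w * (t * a ^ w * t⁻¹) * (t * t) := by
              rw [hconjpow t hta, hj, zpow_add]; group
          _ = (a ^ w * t) * (a ^ w * t) := by group
          _ = y * (t * t) * y⁻¹ := by rw [← e8]; group
          _ = 1 := by rw [hj]; group
      rcases Int.even_or_odd' w with ⟨v, rfl | rfl⟩
      · rw [hz2, mul_one, zpow_add] at e9
        rcases huniq _ (zpow_mem (mem_zpowers a) _) e9 with h1 | h1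
        · left; rw [e8, h1, one_mul]
        · right; rw [e8, h1]
      · exfalso
        rw [hz3, hzl, ← zpow_add, pw] at e9
        obtain ⟨q, hq⟩ := e9
        have : (2 : ℤ) * (2 * v + 1) = 4 * (2 ^ (l' + 1) * q - 2 ^ l') := by
          linear_combination hq
        omega
    rcases this with h1 | h1
    · exact htA (h1 ▸ one_mem _)
    · exact htA (h1 ▸ hza)
  have key2 : ∀ (n : ℕ) (g : G) (i : ℤ), g * a * g⁻¹ = a ^ i → (4 : ℤ) ∣ i - 1 →
      g ^ 2 ^ n ∈ zpowers a → g ∈ zpowers a := by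
    intro n
    induction n with
    | zero => intro g i _ _ hg; simpa using hg
    | succ n ih =>
      intro g i hi h4 hg
      refine key g i hi h4 (ih (g * g) (i * i) ?_ ?_ ?_)
      · rw [zpow_mul, ← hi, conj_zpow, ← hi]; group
      · obtain ⟨c, hc⟩ := h4
        exact ⟨c * (i + 1), by linear_combination (i + 1) * hc⟩
      · rwa [← pow_two, ← pow_mul, ← pow_succ']
  have key3 : ∀ g ∉ zpowers a, ∃ c : ℤ, g * a * g⁻¹ = a ^ (4 * c + 3) := by
    intro g hg
    obtain ⟨i, hi⟩ := hconj g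
    obtain ⟨s, rfl⟩ := hodd _ _ hi
    rcases Int.even_or_odd' s with ⟨c, rfl | rfl⟩
    · exfalso
      obtain ⟨n, hn⟩ := hG g
      exact hg (key2 n g _ hi ⟨c, by ring⟩ (hn ▸ one_mem _))
    · exact ⟨c, by rw [hi]; congr 1; ring⟩
  refine ⟨a, huniq, fun g hg g' hg' => ?_, fun g hg => ?_⟩
  · obtain ⟨c, hc⟩ := key3 g hg
    obtain ⟨c', hc'⟩ := key3 g' hg'
    obtain ⟨n, hn⟩ := hG (g * g')
    refine key2 n (g * g') ((4 * c + 3) * (4 * c' + 3)) ?_ ⟨4 * c * c' + 3 * c + 3 * c' + 2, by ring⟩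
      (hn ▸ one_mem _)
    rw [zpow_mul, ← hc, conj_zpow, ← hc']; group
  · obtain ⟨c, hc⟩ := key3 g hg
    have hne : ¬ (2 : ℤ) ^ (l + 1) ∣ 4 * c + 2 := fun hd => hg (hcent g (by
      rw [hc]; conv_rhs => rw [← zpow_one a]
      exact (pw2 _ _).2 (by convert hd using 1; ring)))
    refine ⟨?_, ?_, ?_⟩
    · have h1 : a ^ (4 * c + 2) ∈ commutator G := by
        have : a ^ (4 * c + 2) = ⁅g, a⁆ := by
          rw [commutatorElement_def, hc, ← zpow_sub_one]; congr 1; ring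
        rw [this]; exact commutator_mem_commutator (mem_top _) (mem_top _)
      obtain ⟨u, v, huv⟩ : IsCoprime (2 * c + 1) ((2 : ℤ) ^ (l + 1)) :=
        IsCoprime.pow_right ⟨1, -c, by ring⟩
      have : a * a = (a ^ (4 * c + 2)) ^ u := by
        rw [← zpow_mul, ← zpow_two, pw2]; exact ⟨2 * v, by linear_combination (-2) * huv⟩
      rw [this]; exact zpow_mem h1 u
    · have hgg : g * g ∈ zpowers a := by
        obtain ⟨n, hn⟩ := hG (g * g)
        refine key2 n (g * g) ((4 * c + 3) * (4 * c + 3)) ?_ ⟨4 * c * c + 6 * c + 2, by ring⟩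
          (hn ▸ one_mem _)
        rw [zpow_mul, ← hc, conj_zpow, ← hc]; group
      obtain ⟨n, hn⟩ := mem_zpowers_iff.1 hgg
      rcases Int.even_or_odd' n with ⟨r, rfl | rfl⟩
      · exact mem_zpowers_iff.2 ⟨r, by rw [← hn, zpow_mul, zpow_two]⟩
      · exfalso; apply hne
        have e1 : a ^ ((4 * c + 3) * (2 * r + 1)) = a ^ (2 * r + 1) := by
          rw [zpow_mul, ← hc, conj_zpow, hn]; group
        rw [pw2] at e1
        have hcop : IsCoprime (2 : ℤ) (2 * r + 1) := ⟨-r, 1, by ring⟩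
        refine IsCoprime.dvd_of_dvd_mul_right (hcop.pow_left (m := l + 1)) ?_
        rwa [show (4 * c + 2) * (2 * r + 1) = (4 * c + 3) * (2 * r + 1) - (2 * r + 1) by ring]
    · cases l with
      | zero => exact absurd ⟨2 * c + 1, by ring⟩ hne
      | succ l =>
        exact mem_zpowers_iff.2 ⟨2 ^ l, by rw [hzl, ← zpow_two, ← zpow_mul]; congr 1; ring⟩

theorem NoFour.exists_gen {S : Subgroup G} (hS : IsPGroup 2 S) {z : G} (hzS : z ∈ S)
    (hc : ∀ g ∈ S, g * z = z * g) (hz1 : z ≠ 1) (hzz : z * z = 1) (h : NoFour S z) :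
    ∃ a ∈ S, (∀ u ∈ zpowers a, u * u = 1 → u = 1 ∨ u = z) ∧
      (∀ g ∈ S, g ∉ zpowers a → ∀ g' ∈ S, g' ∉ zpowers a → g * g' ∈ zpowers a) ∧
      ∀ g ∈ S, g ∉ zpowers a →
        a * a ∈ ⁅S, S⁆ ∧ g * g ∈ zpowers (a * a) ∧ z ∈ zpowers (a * a) := by
  have hm : ∀ (x y : S), (x : G) ∈ zpowers (y : G) ↔ x ∈ zpowers y := fun x y => by
    simp only [mem_zpowers_iff]
    exact exists_congr fun i => by rw [← Subtype.coe_inj, coe_zpow]
  obtain ⟨a, h1, h2, h3⟩ := noFour_structure hS (z := ⟨z, hzS⟩)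
    (mem_center_iff.2 fun g => Subtype.ext (hc g g.2)) (fun e => hz1 (congrArg Subtype.val e))
    (Subtype.ext hzz) (fun t _ ht hn => by
      rcases h t t.2 (congrArg Subtype.val ht) (fun g hg => by
        rcases hn ⟨g, hg⟩ (mem_top _) with e | e
        · left; exact congrArg Subtype.val e
        · right; exact congrArg Subtype.val e) with e | e
      · left; exact Subtype.ext e
      · right; exact Subtype.ext e)
  refine ⟨a, a.2, fun u hu h => ?_, fun g hg hga g' hg' hga' => ?_, fun g hg hga => ?_⟩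
  · have huS : u ∈ S := (zpowers_le.2 a.2) hu
    rcases h1 ⟨u, huS⟩ ((hm ⟨u, huS⟩ a).1 hu) (Subtype.ext h) with e | e
    · left; exact congrArg Subtype.val e
    · right; exact congrArg Subtype.val e
  · exact (hm (⟨g, hg⟩ * ⟨g', hg'⟩) a).2 (h2 ⟨g, hg⟩ (fun e => hga ((hm ⟨g, hg⟩ a).2 e)) ⟨g', hg'⟩
      (fun e => hga' ((hm ⟨g', hg'⟩ a).2 e)))
  · obtain ⟨e1, e2, e3⟩ := h3 ⟨g, hg⟩ (fun e => hga ((hm ⟨g, hg⟩ a).2 e))
    refine ⟨?_, (hm (⟨g, hg⟩ * ⟨g, hg⟩) (a * a)).2 e2, (hm ⟨z, hzS⟩ (a * a)).2 e3⟩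
    have := mem_map_of_mem S.subtype e1
    rwa [commutator_def, map_commutator, ← MonoidHom.range_eq_map, range_subtype] at this

/-- A non-cyclic `2`-group without normal four-subgroup has elementary abelian abelianization. -/
theorem NoFour.sq_mem {S : Subgroup G} (hS : IsPGroup 2 S) {z : G} (hzS : z ∈ S)
    (hc : ∀ g ∈ S, g * z = z * g) (hz1 : z ≠ 1) (hzz : z * z = 1) (h : NoFour S z)
    (hnc : ¬ IsCyclic S) : ∀ x ∈ S, x * x ∈ ⁅S, S⁆ := by
  obtain ⟨a, ha, -, -, h3⟩ := h.exists_gen hS hzS hc hz1 hzz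
  have : ¬ S ≤ zpowers a := fun hle =>
    hnc (isCyclic_iff_exists_zpowers_eq.2 ⟨a, le_antisymm (zpowers_le.2 ha) hle⟩)
  obtain ⟨g, hg, hga⟩ := SetLike.not_le_iff_exists.1 this
  have h4 := zpowers_le.2 (h3 g hg hga).1
  intro x hx
  by_cases hxa : x ∈ zpowers a
  · obtain ⟨i, rfl⟩ := mem_zpowers_iff.1 hxa
    exact h4 (mem_zpowers_iff.2 ⟨i, by rw [(Commute.refl a).mul_zpow]⟩)
  · exact h4 (h3 x hx hxa).2.1

theorem NoFour.commuting {S : Subgroup G} (hS : IsPGroup 2 S) {z : G} (hzS : z ∈ S)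
    (hc : ∀ g ∈ S, g * z = z * g) (hz1 : z ≠ 1) (hzz : z * z = 1) (h : NoFour S z)
    {x y : G} (hx : x ∈ S) (hy : y ∈ S) (hxx : x * x = 1) (hyy : y * y = 1) (hxy : Commute x y) :
    (x = 1 ∨ x = z) ∨ (y = 1 ∨ y = z) ∨ (x * y = 1 ∨ x * y = z) := by
  obtain ⟨a, -, h1, h2, -⟩ := h.exists_gen hS hzS hc hz1 hzz
  by_cases hxa : x ∈ zpowers a
  · exact Or.inl (h1 x hxa hxx)
  by_cases hya : y ∈ zpowers a
  · exact Or.inr (Or.inl (h1 y hya hyy))
  refine Or.inr (Or.inr (h1 _ (h2 x hx hxa y hy hya) ?_))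
  calc x * y * (x * y) = x * (y * x) * y := by group
    _ = (x * x) * (y * y) := by rw [← hxy.eq]; group
    _ = 1 := by rw [hxx, hyy, one_mul]

theorem NoFour.exists_sq {S : Subgroup G} (hS : IsPGroup 2 S) {z : G} (hzS : z ∈ S)
    (hc : ∀ g ∈ S, g * z = z * g) (hz1 : z ≠ 1) (hzz : z * z = 1) (h : NoFour S z)
    {x : G} (hx : x ∈ S) (hxx : x * x = 1) (hx1 : x ≠ 1) (hxz : x ≠ z) :
    ∃ j ∈ S, j * j = z := by
  obtain ⟨a, ha, h1, -, h3⟩ := h.exists_gen hS hzS hc hz1 hzz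
  have hxa : x ∉ zpowers a := fun e => (h1 x e hxx).elim hx1 hxz
  obtain ⟨i, hi⟩ := mem_zpowers_iff.1 (h3 x hx hxa).2.2
  exact ⟨a ^ i, zpow_mem ha i, by rw [← hi, (Commute.refl a).mul_zpow]⟩

end GT
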