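import Mathlib

/-!
# Sharply 3-transitive groups of odd degree (Zassenhaus)
-/

set_option autoImplicit false
set_option linter.unusedSectionVars false

namespace GT

open Matrix

/-- A sharply 3-transitive action of odd degree, with three distinguished points. -/
structure Sharp3 (G : Type*) {Ω : Type*} [Group G] [MulAction G Ω] (i o e : Ω) : Prop where
  io : i ≠ o
  ie : i ≠ e
  oe : o ≠ e
  trans : ∀ a b c a' b' c' : Ω, a ≠ b → a ≠ c → b ≠ c → a' ≠ b' → a' ≠ c' → b' ≠ c' →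
    ∃ g : G, g • a = a' ∧ g • b = b' ∧ g • c = c'
  sharp : ∀ (g : G) (a b c : Ω), a ≠ b → a ≠ c → b ≠ c → g • a = a → g • b = b → g • c = c → g = 1
  odd : Odd (Nat.card Ω)

namespace Sharp3
variable {G Ω : Type*} [Group G] [MulAction G Ω] [Finite Ω] {i o e : Ω} (S : Sharp3 G i o e)
include S

theorem ext3 {g g' : G} {a b c : Ω} (hab : a ≠ b) (hac : a ≠ c) (hbc : b ≠ c)
    (ha : g • a = g' • a) (hb : g • b = g' • b) (hc : g • c = g' • c) : g = g' := by
  rw [← inv_mul_eq_one]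
  exact (S.sharp _ a b c hab hac hbc (by rw [mul_smul, ← ha, inv_smul_smul])
    (by rw [mul_smul, ← hb, inv_smul_smul]) (by rw [mul_smul, ← hc, inv_smul_smul]))

theorem eq_one_of_sq {g : G} (hg : g * g = 1) {a b : Ω} (hab : a ≠ b) (ha : g • a = a)
    (hb : g • b = b) : g = 1 := by
  classical
  have := Fintype.ofFinite Ω
  have h1 := Equiv.Perm.card_fixedPoints_modEq (p := 2) (n := 1)
    (f := (fun x : Ω => g • x : Function.End Ω)) (by
      funext x
      change g • g • x = x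
      rw [← mul_smul, hg, one_smul])
  by_contra hne
  have h2 : Function.fixedPoints (fun x : Ω => g • x) = {a, b} := by
    ext c
    refine ⟨fun hc => ?_, ?_⟩
    · by_contra h
      simp only [Set.mem_insert_iff, Set.mem_singleton_iff, not_or] at h
      exact hne (S.sharp g a b c hab (Ne.symm h.1) (Ne.symm h.2) ha hb hc)
    · rintro (rfl | rfl)
      exacts [ha, hb]
  have h3 : Fintype.card (Function.fixedPoints (fun x : Ω => g • x)) = 2 := by
    rw [← Nat.card_eq_fintype_card, h2, Nat.card_coe_set_eq, Set.ncard_pair hab]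
  have h4 := S.odd
  rw [Nat.card_eq_fintype_card, Nat.odd_iff] at h4
  erw [h3] at h1
  unfold Nat.ModEq at h1
  omega

theorem sq_of_swap {g : G} {a b : Ω} (hab : a ≠ b) (ha : g • a = b) (hb : g • b = a) :
    g * g = 1 := by
  have h0 : ∀ {s : G} {c : Ω}, s • a = b → s • b = a → s • c = c → a ≠ c → b ≠ c → s * s = 1 :=
    fun {s c} h1 h2 h3 h4 h5 => S.sharp _ a b c hab h4 h5 (by rw [mul_smul, h1, h2])
      (by rw [mul_smul, h2, h1]) (by rw [mul_smul, h3, h3])
  have h1 : ∀ c : {c // a ≠ c ∧ b ≠ c}, ∃ s : G, s • a = b ∧ s • b = a ∧ s • c.1 = c.1 :=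
    fun c => S.trans _ _ _ _ _ _ hab c.2.1 c.2.2 hab.symm c.2.2 c.2.1
  choose s h1 h2 h3 using h1
  have h4 : ∀ {u : G}, u • a = b → u • b = a → ∀ c : {c // a ≠ c ∧ b ≠ c},
      a ≠ u • c.1 ∧ b ≠ u • c.1 := fun {u} hu hu' c =>
    ⟨fun h => c.2.2 (MulAction.injective u (hu'.trans h)),
      fun h => c.2.1 (MulAction.injective u (hu.trans h))⟩
  obtain ⟨c₀⟩ : Nonempty {c // a ≠ c ∧ b ≠ c} := by
    by_contra h
    have h5 : ∀ c, c = a ∨ c = b := fun c => by
      by_contra h'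
      push Not at h'
      exact h ⟨⟨c, h'.1.symm, h'.2.symm⟩⟩
    have := S.io; have := S.ie; have := S.oe
    rcases h5 i with h | h <;> rcases h5 o with h' | h' <;> rcases h5 e with h'' | h'' <;> simp_all
  have h5 : Function.Injective fun c => (⟨s c • c₀.1, h4 (h1 c) (h2 c) c₀⟩ : {c // a ≠ c ∧ b ≠ c}) := by
    intro c c' h
    have h6 : s c = s c' := S.ext3 hab c₀.2.1 c₀.2.2 (by rw [h1, h1]) (by rw [h2, h2])
      (congrArg Subtype.val h)
    by_contra hne
    have h7 := S.eq_one_of_sq (h0 (h1 c) (h2 c) (h3 c) c.2.1 c.2.2)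
      (fun h => hne (Subtype.ext h)) (h3 c) (h6 ▸ h3 c')
    exact hab (by rw [← h1 c, h7, one_smul])
  obtain ⟨c, hc⟩ := Finite.injective_iff_surjective.1 h5 ⟨g • c₀.1, h4 ha hb c₀⟩
  have h6 : s c = g := S.ext3 hab c₀.2.1 c₀.2.2 (by rw [h1, ha]) (by rw [h2, hb])
    (congrArg Subtype.val hc)
  exact h6 ▸ h0 (h1 c) (h2 c) (h3 c) c.2.1 c.2.2

theorem sq_of_fpf {g : G} (hi : g • i = i) (hg : ∀ c, c ≠ i → g • c ≠ c) : g * g = 1 := by
  have ho := hg o S.io.symm
  have hio : i ≠ g • o := fun h => S.io (MulAction.injective g (hi.trans h))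
  by_cases h : g • g • o = o
  · exact S.sq_of_swap ho.symm rfl h
  exfalso
  have h1 : ∀ c : {c // i ≠ c ∧ o ≠ c ∧ g • o ≠ c},
      ∃ s : G, s • i = i ∧ s • o = g • o ∧ s • c.1 = c.1 :=
    fun c => S.trans _ _ _ _ _ _ S.io c.2.1 c.2.2.1 hio c.2.1 c.2.2.2
  choose s h1 h2 h3 using h1
  have h4 : ∀ {u : G}, u • i = i → u • o = g • o → u • g • o ≠ o →
      i ≠ u • g • o ∧ o ≠ u • g • o ∧ g • o ≠ u • g • o := fun {u} hu hu' hu'' =>
    ⟨fun h => hio (MulAction.injective u (hu.trans h)), hu''.symm,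
      fun h => ho (MulAction.injective u (hu'.trans h)).symm⟩
  have h5 : ∀ c, s c • g • o ≠ o := fun c h => by
    have := S.eq_one_of_sq (S.sq_of_swap ho.symm (h2 c) h) c.2.1 (h1 c) (h3 c)
    exact ho (by rw [← h2 c, this, one_smul])
  have h6 : Function.Injective fun c => (⟨s c • g • o, h4 (h1 c) (h2 c) (h5 c)⟩ :
      {c // i ≠ c ∧ o ≠ c ∧ g • o ≠ c}) := by
    intro c c' h
    have h6 : s c = s c' := S.ext3 S.io hio ho.symm (by rw [h1, h1]) (by rw [h2, h2])
      (congrArg Subtype.val h)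
    by_contra hne
    have h7 := S.sharp _ _ _ _ c.2.1 c'.2.1 (fun h => hne (Subtype.ext h)) (h1 c) (h3 c)
      (h6 ▸ h3 c')
    exact ho (by rw [← h2 c, h7, one_smul])
  obtain ⟨c, hc⟩ := Finite.injective_iff_surjective.1 h6 ⟨g • g • o, h4 hi rfl h⟩
  have h7 : s c = g := S.ext3 S.io hio ho.symm (by rw [h1, hi]) (h2 c) (congrArg Subtype.val hc)
  exact hg c c.2.1.symm ((congrArg (· • c.1) h7).symm.trans (h3 c))

theorem trans_eq {t t' : G} (hi : t • i = i) (ht : t * t = 1) (hi' : t' • i = i)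
    (ht' : t' * t' = 1) {c : Ω} (hc : c ≠ i) (h : t • c = t' • c) : t = t' := by
  by_cases h1 : t • c = c
  · rw [S.eq_one_of_sq ht hc h1 hi, S.eq_one_of_sq ht' hc (h ▸ h1) hi']
  · refine S.ext3 hc.symm (c := t • c) (fun h => hc (MulAction.injective t (hi.trans h)).symm)
      (Ne.symm h1) (by rw [hi, hi']) h ?_
    rw [← mul_smul, ht, h, ← mul_smul, ht']

theorem trans_mul {t t' : G} (hi : t • i = i) (ht : t * t = 1) (hi' : t' • i = i)
    (ht' : t' * t' = 1) : t * t' * (t * t') = 1 := by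
  by_cases h : ∃ c, c ≠ i ∧ (t * t') • c = c
  · obtain ⟨c, hc, h⟩ := h
    have : t = t' := S.trans_eq hi ht hi' ht' hc (by
      rw [← h, ← mul_smul, ← mul_assoc, ht, one_mul, h])
    rw [this, ht', one_mul]
  · push Not at h
    exact S.sq_of_fpf (by rw [mul_smul, hi', hi]) h

theorem exists_t (a : {x // x ≠ i}) : ∃ t : G, t • i = i ∧ t * t = 1 ∧ t • o = a := by
  by_cases h : a.1 = o
  · exact ⟨1, by simp [h]⟩
  · obtain ⟨g, h1, h2, h3⟩ := S.trans i o a i a o S.io a.2.symm (Ne.symm h) a.2.symm S.io h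
    exact ⟨g, h1, S.sq_of_swap (Ne.symm h) h2 h3, h2⟩

theorem exists_h (a : {x // x ≠ i}) : ∃ h : G, h • i = i ∧ h • o = o ∧ (a.1 ≠ o → h • e = a) := by
  by_cases h : a.1 = o
  · exact ⟨1, by simp [h]⟩
  · obtain ⟨g, h1, h2, h3⟩ := S.trans i o e i o a S.io S.ie S.oe S.io a.2.symm (Ne.symm h)
    exact ⟨g, h1, h2, fun _ => h3⟩

theorem exists_w : ∃ w : G, w • i = o ∧ w • o = i ∧ w • e = e :=
  S.trans _ _ _ _ _ _ S.io S.ie S.oe S.io.symm S.oe S.ie

/-- The field attached to a sharply 3-transitive group of odd degree. -/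
@[nolint unusedArguments]
def Fld (_ : Sharp3 G i o e) : Type _ := {x // x ≠ i}

/-- Translations. -/
noncomputable def t (a : S.Fld) : G := (S.exists_t a).choose
/-- Dilations. -/
noncomputable def h (a : S.Fld) : G := (S.exists_h a).choose
/-- Inversion. -/
noncomputable def w : G := S.exists_w.choose

theorem t_i (a : S.Fld) : S.t a • i = i := (S.exists_t a).choose_spec.1
theorem t_t (a : S.Fld) : S.t a * S.t a = 1 := (S.exists_t a).choose_spec.2.1
theorem t_o (a : S.Fld) : S.t a • o = a.1 := (S.exists_t a).choose_spec.2.2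
theorem h_i (a : S.Fld) : S.h a • i = i := (S.exists_h a).choose_spec.1
theorem h_o (a : S.Fld) : S.h a • o = o := (S.exists_h a).choose_spec.2.1
theorem h_e {a : S.Fld} (ha : a.1 ≠ o) : S.h a • e = a.1 := (S.exists_h a).choose_spec.2.2 ha
theorem w_i : S.w • i = o := S.exists_w.choose_spec.1
theorem w_o : S.w • o = i := S.exists_w.choose_spec.2.1
theorem w_e : S.w • e = e := S.exists_w.choose_spec.2.2
theorem w_w : S.w * S.w = 1 := S.sq_of_swap S.io S.w_i S.w_o

theorem w_conj {g : G} (hi : g • i = i) (ho : g • o = o) : g * S.w * g = S.w := by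
  have := S.sq_of_swap (g := g * S.w) S.io (by rw [mul_smul, S.w_i, ho])
    (by rw [mul_smul, S.w_o, hi])
  calc g * S.w * g = g * S.w * (g * S.w) * S.w := by
        rw [mul_assoc (g * S.w), mul_assoc g S.w S.w, S.w_w, mul_one]
    _ = _ := by rw [this, one_mul]

theorem stab_comm {g g' : G} (hi : g • i = i) (ho : g • o = o) (hi' : g' • i = i)
    (ho' : g' • o = o) : g * g' = g' * g := by
  have h1 := S.w_conj (g := g * g') (by rw [mul_smul, hi', hi]) (by rw [mul_smul, ho', ho])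
  have h2 : g * g' * S.w * (g' * g) = S.w := by
    calc g * g' * S.w * (g' * g) = g * (g' * S.w * g') * g := by group
      _ = _ := by rw [S.w_conj hi' ho', S.w_conj hi ho]
  exact mul_left_cancel (h1.trans h2.symm)

omit S in
theorem smul_ne {g : G} (hi : g • i = i) {a : Ω} (ha : a ≠ i) : g • a ≠ i :=
  fun h => ha (MulAction.injective g (h.trans hi.symm))

instance : Zero S.Fld := ⟨⟨o, S.io.symm⟩⟩
instance : One S.Fld := ⟨⟨e, S.ie.symm⟩⟩
instance : Neg S.Fld := ⟨id⟩
noncomputable instance : Add S.Fld := ⟨fun a b => ⟨S.t a • b.1, smul_ne (S.t_i a) b.2⟩⟩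
open Classical in
noncomputable instance : Mul S.Fld :=
  ⟨fun a b => if a = 0 then 0 else ⟨S.h a • b.1, smul_ne (S.h_i a) b.2⟩⟩
open Classical in
noncomputable instance : Inv S.Fld :=
  ⟨fun a => if h : a = 0 then 0 else ⟨S.w • a.1, fun h' => h (Subtype.ext
    (MulAction.injective S.w (h'.trans S.w_o.symm)))⟩⟩

theorem zero_val : (0 : S.Fld).1 = o := rfl
theorem one_val : (1 : S.Fld).1 = e := rfl
theorem add_val (a b : S.Fld) : (a + b).1 = S.t a • b.1 := rfl
theorem mul_val {a : S.Fld} (ha : a ≠ 0) (b : S.Fld) : (a * b).1 = S.h a • b.1 :=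
  congrArg Subtype.val (if_neg ha)
theorem zero_mul' (b : S.Fld) : 0 * b = 0 := if_pos rfl
theorem inv_val {a : S.Fld} (ha : a ≠ 0) : (a⁻¹).1 = S.w • a.1 :=
  congrArg Subtype.val (dif_neg ha)
theorem val_ne {a : S.Fld} (ha : a ≠ 0) : a.1 ≠ o := fun h => ha (Subtype.ext h)

theorem t_eq {g : G} (hi : g • i = i) (hg : g * g = 1) {a : S.Fld} (h : g • o = a.1) :
    S.t a = g := S.trans_eq (S.t_i a) (S.t_t a) hi hg S.io.symm (by rw [S.t_o, h])
theorem h_eq {g : G} (hi : g • i = i) (ho : g • o = o) {a : S.Fld} (h : g • e = a.1) :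
    S.h a = g := S.ext3 S.io S.ie S.oe (by rw [S.h_i, hi]) (by rw [S.h_o, ho])
      (by rw [S.h_e (fun h' => S.oe (MulAction.injective g (ho.trans (h'.symm.trans h.symm)))), h])

theorem t_add (a b : S.Fld) : S.t (a + b) = S.t a * S.t b :=
  S.t_eq (by rw [mul_smul, S.t_i, S.t_i]) (S.trans_mul (S.t_i a) (S.t_t a) (S.t_i b) (S.t_t b))
    (by rw [mul_smul, S.t_o, add_val])

theorem mul_zero' (a : S.Fld) : a * 0 = 0 := by
  by_cases ha : a = 0
  · rw [ha, zero_mul']
  · exact Subtype.ext ((S.mul_val ha 0).trans (S.h_o a))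

theorem mul_ne {a b : S.Fld} (ha : a ≠ 0) (hb : b ≠ 0) : a * b ≠ 0 := fun h =>
  S.val_ne hb (MulAction.injective (S.h a) (((S.mul_val ha b).symm.trans
    (congrArg Subtype.val h)).trans (S.h_o a).symm))

theorem h_mul {a b : S.Fld} (ha : a ≠ 0) (hb : b ≠ 0) : S.h (a * b) = S.h a * S.h b :=
  S.h_eq (by rw [mul_smul, S.h_i, S.h_i]) (by rw [mul_smul, S.h_o, S.h_o])
    (by rw [mul_smul, S.h_e (S.val_ne hb), S.mul_val ha])

theorem one_ne : (1 : S.Fld) ≠ 0 := fun h => S.oe (congrArg Subtype.val h).symm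

noncomputable instance : Field S.Fld :=
  Field.ofMinimalAxioms S.Fld
    (fun a b c => Subtype.ext (by rw [add_val, t_add, mul_smul]; rfl))
    (fun a => Subtype.ext (by
      rw [add_val, S.t_eq (g := 1) (one_smul _ _) (one_mul _) (one_smul _ _), one_smul]))
    (fun a => Subtype.ext (by
      change S.t a • a.1 = o
      rw [← S.t_o a, ← mul_smul, S.t_t, one_smul]))
    (fun a b c => by
      by_cases ha : a = 0
      · rw [ha, zero_mul', zero_mul', zero_mul']
      by_cases hb : b = 0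
      · rw [hb, mul_zero', zero_mul', mul_zero']
      exact Subtype.ext (by
        rw [S.mul_val (S.mul_ne ha hb), S.h_mul ha hb, mul_smul, S.mul_val ha, S.mul_val hb]))
    (fun a b => by
      by_cases ha : a = 0
      · rw [ha, zero_mul', mul_zero']
      by_cases hb : b = 0
      · rw [hb, mul_zero', zero_mul']
      exact Subtype.ext (by
        rw [S.mul_val ha, S.mul_val hb, ← S.h_e (S.val_ne hb), ← mul_smul,
          S.stab_comm (S.h_i a) (S.h_o a) (S.h_i b) (S.h_o b), mul_smul, S.h_e (S.val_ne ha)]))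
    (fun a => Subtype.ext (by
      rw [S.mul_val S.one_ne, S.h_eq (g := 1) (one_smul _ _) (one_smul _ _) (one_smul _ _),
        one_smul]))
    (fun a ha => Subtype.ext (by
      rw [S.mul_val ha, S.inv_val ha, ← S.h_e (S.val_ne ha), ← mul_smul, ← mul_smul,
        S.w_conj (S.h_i a) (S.h_o a), S.w_e, one_val]))
    (dif_pos rfl)
    (fun a b c => by
      by_cases ha : a = 0
      · rw [ha, zero_mul', zero_mul', zero_mul']
        exact Subtype.ext (S.t_o 0).symm
      refine Subtype.ext ?_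
      rw [add_val, S.mul_val ha, S.mul_val ha, add_val,
        S.t_eq (g := S.h a * S.t b * (S.h a)⁻¹) (a := a * b)
          (by rw [mul_smul, mul_smul, inv_smul_eq_iff.2 (S.h_i a).symm, S.t_i, S.h_i])
          (by rw [show ∀ x y : G, x * y * x⁻¹ * (x * y * x⁻¹) = x * (y * y) * x⁻¹ by
            intros; group, S.t_t]; group)
          (by rw [mul_smul, mul_smul, inv_smul_eq_iff.2 (S.h_o a).symm, S.t_o, S.mul_val ha]),
        mul_smul, mul_smul, inv_smul_smul])
    ⟨1, 0, S.one_ne⟩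

instance : Finite S.Fld := inferInstanceAs (Finite {x // x ≠ i})

instance : CharP S.Fld 2 := CharTwo.of_one_ne_zero_of_two_eq_zero one_ne_zero (by
  rw [← one_add_one_eq_two]
  exact neg_add_cancel (1 : S.Fld))

open Classical in
/-- The identification of the projective line with `Ω`. -/
noncomputable def pt : OnePoint S.Fld ≃ Ω := Equiv.optionSubtypeNe i

theorem pt_infty : S.pt OnePoint.infty = i := rfl
theorem pt_coe (a : S.Fld) : S.pt (a : OnePoint S.Fld) = a.1 := rfl

end Sharp3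

section SL2
variable {F : Type*} [Field F] [DecidableEq F]
open OnePoint

theorem sl2_smul_infty (s : SpecialLinearGroup (Fin 2) F) :
    SpecialLinearGroup.toGL s • (∞ : OnePoint F) =
      if s 1 0 = 0 then ∞ else ((s 0 0 / s 1 0 : F) : OnePoint F) :=
  smul_infty_eq_ite _

theorem sl2_smul_some (s : SpecialLinearGroup (Fin 2) F) (k : F) :
    SpecialLinearGroup.toGL s • (k : OnePoint F) = if s 1 0 * k + s 1 1 = 0 then ∞ else
      (((s 0 0 * k + s 0 1) / (s 1 0 * k + s 1 1) : F) : OnePoint F) :=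
  smul_some_eq_ite

theorem exists_sl2_entries {R : Type*} [CommRing R] (a b c d : R) (h : a * d - b * c = 1) :
    ∃ s : SpecialLinearGroup (Fin 2) R, s 0 0 = a ∧ s 0 1 = b ∧ s 1 0 = c ∧ s 1 1 = d :=
  ⟨⟨!![a, b; c, d], by rwa [det_fin_two_of]⟩, rfl, rfl, rfl, rfl⟩

theorem sl2_eq_one_of_fix [CharP F 2] (s : SpecialLinearGroup (Fin 2) F)
    (h1 : SpecialLinearGroup.toGL s • (∞ : OnePoint F) = ∞)
    (h2 : SpecialLinearGroup.toGL s • ((0 : F) : OnePoint F) = (0 : F))
    (h3 : SpecialLinearGroup.toGL s • ((1 : F) : OnePoint F) = (1 : F)) : s = 1 := by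
  have hd := s.det_coe
  rw [det_fin_two] at hd
  have a1 : s 1 0 = 0 := smul_infty_eq_self_iff.1 h1
  have a2 : s 1 1 ≠ 0 := fun h => by simp [a1, h] at hd
  rw [sl2_smul_some, if_neg (by simpa [a1])] at h2 h3
  have a3 : s 0 1 = 0 := by simpa [a1, a2] using h2
  have a4 : s 0 0 = s 1 1 := by
    simpa [a1, a3, div_eq_one_iff_eq a2] using h3
  have a5 : s 1 1 = 1 := by
    rw [a1, a4, mul_zero, sub_zero] at hd
    rcases mul_self_eq_one_iff.1 hd with h | h
    · exact h
    · rw [h, CharTwo.neg_eq]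
  ext i j
  fin_cases i <;> fin_cases j <;> simp [a1, a3, a4, a5]

end SL2

namespace Sharp3
variable {G Ω : Type*} [Group G] [MulAction G Ω] [Finite Ω] {i o e : Ω} (S : Sharp3 G i o e)
include S
open OnePoint

open Classical in
theorem exists_sl2 (g : G) : ∃ s : SpecialLinearGroup (Fin 2) S.Fld,
    ∀ x : OnePoint S.Fld, S.pt (SpecialLinearGroup.toGL s • x) = g • S.pt x := by
  let R : Subgroup G :=
    { carrier := {g | ∃ s : SpecialLinearGroup (Fin 2) S.Fld,
        ∀ x : OnePoint S.Fld, S.pt (SpecialLinearGroup.toGL s • x) = g • S.pt x}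
      one_mem' := ⟨1, fun x => by simp⟩
      mul_mem' := by
        rintro a b ⟨s, hs⟩ ⟨s', hs'⟩
        exact ⟨s * s', fun x => by rw [map_mul, mul_smul, hs, hs', mul_smul]⟩
      inv_mem' := by
        rintro a ⟨s, hs⟩
        exact ⟨s⁻¹, fun x => by rw [eq_inv_smul_iff, ← hs, map_inv, smul_inv_smul]⟩ }
  have ht : ∀ a, S.t a ∈ R := fun a => by
    obtain ⟨s, a1, a2, a3, a4⟩ := exists_sl2_entries 1 a 0 1 (by simp)
    refine ⟨s, fun x => ?_⟩
    cases x with
    | infty => rw [sl2_smul_infty, if_pos a3, pt_infty, S.t_i]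
    | coe k =>
      rw [sl2_smul_some, a1, a2, a3, a4, if_neg (by simp), pt_coe, pt_coe, ← add_val]
      simp [add_comm]
  have hh : ∀ a, a ≠ 0 → S.h a ∈ R := fun a ha => by
    obtain ⟨r, hr⟩ := FiniteField.isSquare_of_char_two (ringChar.eq S.Fld 2) a
    have hr0 : r ≠ 0 := by rintro rfl; exact ha (by simpa using hr)
    obtain ⟨s, a1, a2, a3, a4⟩ := exists_sl2_entries r 0 0 r⁻¹ (by simp [hr0])
    refine ⟨s, fun x => ?_⟩
    cases x with
    | infty => rw [sl2_smul_infty, if_pos a3, pt_infty, S.h_i]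
    | coe k =>
      rw [sl2_smul_some, a1, a2, a3, a4, if_neg (by simp [hr0]), pt_coe, pt_coe, ← S.mul_val ha]
      have key : ∀ {F : Type _} [Field F] (r k : F), (r * k + 0) / (0 * k + r⁻¹) = r * r * k :=
        fun r k => by simp; ring
      exact congrArg Subtype.val (hr ▸ key r k)
  have hw : S.w ∈ R := by
    obtain ⟨s, a1, a2, a3, a4⟩ := exists_sl2_entries (0 : S.Fld) 1 1 0 (by simp [CharTwo.neg_eq])
    refine ⟨s, fun x => ?_⟩
    cases x with
    | infty =>
      rw [sl2_smul_infty, a1, a3, if_neg (by simp), pt_infty, S.w_i, pt_coe]; simp [zero_val]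
    | coe k =>
      by_cases hk : k = 0
      · rw [sl2_smul_some, a3, a4, if_pos (by simp [hk]), pt_infty, pt_coe, hk, zero_val, S.w_o]
      · rw [sl2_smul_some, a1, a2, a3, a4, if_neg (by simp [hk]), pt_coe, pt_coe, ← S.inv_val hk]
        simp
  have h1 : ∀ g : G, g • i = i → g • o = o → g ∈ R := fun g hi ho => by
    rw [← S.h_eq hi ho (a := ⟨g • e, smul_ne hi S.ie.symm⟩) rfl]
    exact hh _ fun h => S.oe (MulAction.injective g (ho.trans (congrArg Subtype.val h).symm))
  have h2 : ∀ g : G, g • i = i → g ∈ R := fun g hi => by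
    let a : S.Fld := ⟨g • o, smul_ne hi S.io.symm⟩
    refine (mul_mem_cancel_left (ht a)).1 (h1 _ (by rw [mul_smul, hi, S.t_i]) ?_)
    rw [mul_smul, show g • o = S.t a • o from (S.t_o a).symm, ← mul_smul, S.t_t, one_smul]
  by_cases hi : g • i = i
  · exact h2 g hi
  · let a : S.Fld := ⟨g • i, hi⟩
    refine (mul_mem_cancel_left (ht a)).1 ((mul_mem_cancel_left hw).1 (h2 _ ?_))
    rw [mul_smul, mul_smul, show g • i = S.t a • o from (S.t_o a).symm, ← mul_smul (S.t a), S.t_t,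
      one_smul, S.w_o]

theorem nonempty_mulEquiv : Nonempty (G ≃* SpecialLinearGroup (Fin 2) S.Fld) := by
  classical
  choose f hf using S.exists_sl2
  have hu : ∀ s s' : SpecialLinearGroup (Fin 2) S.Fld,
      (∀ x ∈ ({∞, ((0 : S.Fld) : OnePoint S.Fld), ((1 : S.Fld) : OnePoint S.Fld)} : Set _),
        SpecialLinearGroup.toGL s • x = SpecialLinearGroup.toGL s' • x) → s = s' := by
    intro s s' h
    rw [← inv_mul_eq_one]
    apply sl2_eq_one_of_fix <;> rw [map_mul, map_inv, mul_smul, ← h _ (by simp), inv_smul_smul]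
  let φ : G →* SpecialLinearGroup (Fin 2) S.Fld := MonoidHom.mk' f fun a b =>
    hu _ _ fun x _ => S.pt.injective (by rw [hf, map_mul, mul_smul, mul_smul, hf, hf])
  refine ⟨MulEquiv.ofBijective φ ⟨(injective_iff_map_eq_one φ).2 fun g hg => ?_, fun s => ?_⟩⟩
  · have h : ∀ x, g • S.pt x = S.pt x := fun x => by
      rw [← hf, show f g = 1 from hg, map_one, one_smul]
    exact S.sharp g i o e S.io S.ie S.oe (h ∞) (h (0 : S.Fld)) (h (1 : S.Fld))
  · have hinj : Function.Injective fun x => S.pt (SpecialLinearGroup.toGL s • x) :=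
      S.pt.injective.comp (MulAction.injective _)
    obtain ⟨g, h1, h2, h3⟩ := S.trans i o e _ _ _ S.io S.ie S.oe
      (hinj.ne (a₁ := ∞) (a₂ := (0 : S.Fld)) (by simp))
      (hinj.ne (a₁ := ∞) (a₂ := (1 : S.Fld)) (by simp))
      (hinj.ne (a₁ := (0 : S.Fld)) (a₂ := (1 : S.Fld)) (by simp))
    refine ⟨g, hu _ _ fun x hx => S.pt.injective ((hf g x).trans ?_)⟩
    rcases hx with rfl | rfl | rfl
    exacts [h1, h2, h3]

end Sharp3

/-- `SL` is functorial in ring isomorphisms. -/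
def slCongr {n R R' : Type*} [Fintype n] [DecidableEq n] [CommRing R] [CommRing R']
    (f : R ≃+* R') : SpecialLinearGroup n R ≃* SpecialLinearGroup n R' :=
  MonoidHom.toMulEquiv (SpecialLinearGroup.map f.toRingHom)
    (SpecialLinearGroup.map f.symm.toRingHom)
    (by ext; simp) (by ext; simp)

theorem exists_small_field (K : Type*) [Field K] [Fintype K] :
    ∃ (F : Type) (_ : Field F) (_ : Fintype F), Nonempty (K ≃+* F) :=
  ⟨Shrink.{0} K, inferInstance, Fintype.ofEquiv K (equivShrink.{0} K),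
    ⟨(Shrink.ringEquiv.{0} K).symm⟩⟩

/-- **Zassenhaus**: a sharply 3-transitive group of odd degree is `SL(2, 2^a)`. -/
theorem exists_SL2_of_sharply_three_transitive {G Ω : Type*} [Group G] [MulAction G Ω] [Finite Ω]
    (h3 : MulAction.IsMultiplyPretransitive G Ω 3)
    (hfix : ∀ (g : G) (a b c : Ω), a ≠ b → a ≠ c → b ≠ c →
      g • a = a → g • b = b → g • c = c → g = 1)
    (hcard : 3 ≤ Nat.card Ω) (hodd : Odd (Nat.card Ω)) :
    ∃ a : ℕ, 1 ≤ a ∧ Nat.card Ω = 2 ^ a + 1 ∧ ∃ (F : Type) (_ : Field F) (_ : Fintype F),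
      Fintype.card F = 2 ^ a ∧ Nonempty (G ≃* SpecialLinearGroup (Fin 2) F) := by
  classical
  have := Fintype.ofFinite Ω
  obtain ⟨i, o, e, io, ie, oe⟩ := Fintype.two_lt_card_iff.1
    (show 2 < Fintype.card Ω by rwa [← Nat.card_eq_fintype_card])
  have hinj : ∀ {a b c : Ω}, a ≠ b → a ≠ c → b ≠ c → Function.Injective ![a, b, c] := by
    intro a b c h1 h2 h3 x y h
    fin_cases x <;> fin_cases y <;> simp_all [eq_comm]
  have S : Sharp3 G i o e := ⟨io, ie, oe, fun a b c a' b' c' h1 h2 h3 h4 h5 h6 => by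
    obtain ⟨g, hg⟩ := MulAction.exists_smul_eq G (⟨_, hinj h1 h2 h3⟩ : Fin 3 ↪ Ω) ⟨_, hinj h4 h5 h6⟩
    exact ⟨g, DFunLike.congr_fun hg 0, DFunLike.congr_fun hg 1, DFunLike.congr_fun hg 2⟩,
    hfix, hodd⟩
  have := Fintype.ofFinite S.Fld
  obtain ⟨a, -, ha⟩ := FiniteField.card S.Fld 2
  refine ⟨a, a.2, ?_, ?_⟩
  · rw [← ha, ← Nat.card_congr S.pt, ← Nat.card_eq_fintype_card]
    exact Finite.card_option
  · obtain ⟨φ⟩ := S.nonempty_mulEquiv
    obtain ⟨F, _, _, ⟨ε⟩⟩ := exists_small_field S.Fld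
    exact ⟨F, inferInstance, inferInstance, by rw [← ha, Fintype.card_congr ε.toEquiv],
      ⟨φ.trans (slCongr ε)⟩⟩

end GT
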