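import Cfsg.Agent.Lib.Char.SL2Even
import Cfsg.Agent.Lib.Char.Extend
import Cfsg.Agent.Lib.Char.SimpleGrp

/-!
# Uniqueness of a double cover; `SL₂(5)`
-/

set_option autoImplicit false
set_option linter.unusedSectionVars false

namespace GT

open Cfsg CT Subgroup
open scoped commutatorElement

/-- `f : E → Q` is a central extension by `⟨z⟩` of order two in which the preimages of the
nontrivial elements of `V` square to `z`. -/
structure TwoCover {E Q : Type*} [Group E] [Group Q] (f : E →* Q) (z : E) (V : Subgroup Q) :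
    Prop where
  surj : Function.Surjective f
  ker : ∀ e, f e = 1 ↔ e = 1 ∨ e = z
  ne : z ≠ 1
  zz : z * z = 1
  cent : z ∈ Subgroup.center E
  sq : ∀ e, f e ∈ V → f e ≠ 1 → e * e = z

theorem TwoCover.nonempty_mulEquiv {E L Q : Type*} [Group E] [Group L] [Group Q] [Finite E]
    [Finite L] {f : E →* Q} {g : L →* Q} {z : E} {w : L} {V : Subgroup Q} (hf : TwoCover f z V)
    (hg : TwoCover g w V) (hV : Odd V.index) : Nonempty (E ≃* L) := by
  have hz : f z = 1 := (hf.ker z).2 (Or.inr rfl)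
  have hw : g w = 1 := (hg.ker w).2 (Or.inr rfl)
  set X := (f.comp (MonoidHom.fst E L)).eqLocus (g.comp (MonoidHom.snd E L))
  have hX : ∀ x : X, f x.1.1 = g x.1.2 := fun x => x.2
  set π : X →* Q := f.comp ((MonoidHom.fst E L).comp X.subtype)
  have hπ : Function.Surjective π := fun q => by
    obtain ⟨e, rfl⟩ := hf.surj q
    obtain ⟨l, hl⟩ := hg.surj (f e)
    exact ⟨⟨(e, l), hl.symm⟩, rfl⟩
  set a : X := ⟨(z, 1), hz.trans (map_one g).symm⟩
  set b : X := ⟨(1, w), (map_one f).trans hw.symm⟩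
  have ha : a ∈ Subgroup.center X := mem_center_iff.2 fun x =>
    Subtype.ext (Prod.ext (mem_center_iff.1 hf.cent _) (by simp [a]))
  have hb : b ∈ Subgroup.center X := mem_center_iff.2 fun x =>
    Subtype.ext (Prod.ext (by simp [b]) (mem_center_iff.1 hg.cent _))
  have haH : a ∈ V.comap π := by simp [π, a, hz]
  have hbH : b ∈ V.comap π := by simp [π, b]
  set d : V.comap π := ⟨a, haH⟩ * ⟨b, hbH⟩
  have hd : d ∈ Subgroup.center (V.comap π) := mem_center_iff.2 fun x =>
    Subtype.ext (mem_center_iff.1 (mul_mem ha hb) _)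
  have hsq : ∀ h : V.comap π, h * h ∈ zpowers d := fun h => by
    by_cases h1 : f h.1.1.1 = 1
    · have h2 : h * h = 1 := by
        refine Subtype.ext (Subtype.ext (Prod.ext ?_ ?_))
        · rcases (hf.ker _).1 h1 with h2 | h2 <;> simp [h2, hf.zz]
        · rcases (hg.ker _).1 ((hX _).symm.trans h1) with h2 | h2 <;> simp [h2, hg.zz]
      rw [h2]; exact one_mem _
    · have h2 : h * h = d := Subtype.ext (Subtype.ext (Prod.ext
        ((hf.sq _ h.2 h1).trans (mul_one z).symm)
        ((hg.sq _ (hX _ ▸ h.2) (hX _ ▸ h1)).trans (one_mul w).symm)))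
      rw [h2]; exact mem_zpowers _
  have : (zpowers d).Normal := ⟨fun x hx g => by
    rwa [mem_center_iff.1 (zpowers_le.2 hd hx) g, mul_inv_cancel_right]⟩
  obtain ⟨φ, h1, h2⟩ := exists_units_hom_apply_ne_one (N := zpowers d) (g := ⟨a, haH⟩)
    (commutator_le.2 fun x _ y _ => by
      rw [show ⁅x, y⁆ = x * x * (x⁻¹ * y * (x⁻¹ * y)) * (y⁻¹ * y⁻¹) by group]
      exact mul_mem (mul_mem (hsq _) (hsq _)) (hsq _)) fun h => by
    have hdd : d * d = 1 := Subtype.ext (Subtype.ext (Prod.ext (by simp [d, a, b, hf.zz])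
      (by simp [d, a, b, hg.zz])))
    obtain ⟨k, hk⟩ := h
    rcases Int.even_or_odd' k with ⟨m, rfl | rfl⟩
    · simp only [zpow_mul, zpow_ofNat, pow_two, hdd, one_zpow] at hk
      exact hf.ne (congrArg (·.1.1.1) hk).symm
    · simp only [zpow_add, zpow_mul, zpow_ofNat, pow_two, hdd, one_zpow, one_mul] at hk
      exact hg.ne (by simpa [d, a, b] using congrArg (·.1.1.2) hk)
  have h3 : ∀ x, φ x ^ 2 = 1 := fun x => by rw [← map_pow, pow_two]; exact h1 (hsq x)
  have h4 := transfer_pow_eq_one φ h3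
  have h5 : ∀ c ∈ Subgroup.center X, ∀ hc : c ∈ V.comap π, MonoidHom.transfer φ c = φ ⟨c, hc⟩ := by
    intro c hc hc'
    obtain ⟨m, hm⟩ := hV
    rw [transfer_eq_pow_of_forall φ c (φ ⟨c, hc'⟩) fun k g hk => by
      rw [← map_pow]
      refine congrArg φ (Subtype.ext ?_)
      rw [coe_pow, coe_mk, coe_mk, mul_assoc, ← mem_center_iff.1 (pow_mem hc k) g,
        inv_mul_cancel_left], index_comap_of_surjective _ hπ, hm, pow_succ, pow_mul, h3, one_pow,
      one_mul]
  have h6 := h5 a ha haH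
  have h7 := h5 b hb hbH
  generalize MonoidHom.transfer φ = s at h4 h6 h7
  have h8 : ∀ x, s x ≠ 1 → s x = -1 := fun x => ((Units.inv_eq_self_iff _).1
    (inv_eq_of_mul_eq_one_right (pow_two (s x) ▸ h4 x))).resolve_left
  have h9 : s a = -1 := h8 a (h6 ▸ h2)
  have h10 : s b = -1 := by
    have : s a * s b = 1 := by rw [h6, h7, ← map_mul]; exact h1 (mem_zpowers d)
    rwa [h9, neg_one_mul, neg_eq_iff_eq_neg] at this
  have h11 : (-1 : ℂˣ) ≠ 1 := fun h => by
    have := congrArg Units.val h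
    norm_num at this
  refine ⟨(MulEquiv.ofBijective ((MonoidHom.fst E L).comp (X.subtype.comp s.ker.subtype))
    ⟨(injective_iff_map_eq_one _).2 fun x hx => ?_, fun e => ?_⟩).symm.trans
    (MulEquiv.ofBijective ((MonoidHom.snd E L).comp (X.subtype.comp s.ker.subtype))
    ⟨(injective_iff_map_eq_one _).2 fun x hx => ?_, fun l => ?_⟩)⟩
  · replace hx : x.1.1.1 = 1 := hx
    rcases (hg.ker _).1 ((hX x).symm.trans (hx ▸ map_one f)) with h | h
    · exact Subtype.ext (Subtype.ext (Prod.ext hx h))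
    · exact absurd (h10.symm.trans ((show b = x.1 from Subtype.ext (Prod.ext hx.symm h.symm)) ▸
        x.2)) h11
  · obtain ⟨l, hl⟩ := hg.surj (f e)
    by_cases h : s ⟨(e, l), hl.symm⟩ = 1
    · exact ⟨⟨_, h⟩, rfl⟩
    · exact ⟨⟨(⟨(e, l), hl.symm⟩ : X) * b, by
        rw [MonoidHom.mem_ker, map_mul, h8 _ h, h10, neg_mul_neg, one_mul]⟩,
        show e * 1 = e from mul_one e⟩
  · replace hx : x.1.1.2 = 1 := hx
    rcases (hf.ker _).1 ((hX x).trans (hx ▸ map_one g)) with h | h
    · exact Subtype.ext (Subtype.ext (Prod.ext h hx))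
    · exact absurd (h9.symm.trans ((show a = x.1 from Subtype.ext (Prod.ext h.symm hx.symm)) ▸
        x.2)) h11
  · obtain ⟨e, he⟩ := hf.surj (g l)
    by_cases h : s ⟨(e, l), he⟩ = 1
    · exact ⟨⟨_, h⟩, rfl⟩
    · exact ⟨⟨(⟨(e, l), he⟩ : X) * a, by
        rw [MonoidHom.mem_ker, map_mul, h8 _ h, h9, neg_mul_neg, one_mul]⟩,
        show l * 1 = l from mul_one l⟩

open SL2 LG Matrix

theorem fact_prime_five_nat : Fact (Nat.Prime 5) := ⟨Nat.prime_five⟩

attribute [local instance] fact_prime_five_nat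

theorem card_SL2_five : Nat.card (G2 (ZMod 5)) = 120 := by
  rw [Nat.card_congr (β := {x : ZMod 5 × ZMod 5 × ZMod 5 × ZMod 5 //
    x.1 * x.2.2.2 - x.2.1 * x.2.2.1 = 1})
    ⟨fun g => ⟨(slm g 0 0, slm g 0 1, slm g 1 0, slm g 1 1), det_ent g⟩,
      fun x => m2 _ _ _ _ x.2, fun g => ext_ent rfl rfl rfl rfl, fun x => rfl⟩,
    Nat.card_eq_fintype_card]
  decide +kernel

theorem twoCover_SL2 {F : Type*} [Field F] (h2 : (2 : F) ≠ 0)
    {V : Subgroup (ProjectiveSpecialLinearGroup (Fin 2) F)} (hV : ∀ v ∈ V, v * v = 1) :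
    TwoCover (QuotientGroup.mk' (Subgroup.center (G2 F))) (negOne F) V := by
  have hk : ∀ e : G2 F, QuotientGroup.mk' (Subgroup.center (G2 F)) e = 1 ↔ e = 1 ∨ e = negOne F :=
    fun e => (QuotientGroup.eq_one_iff e).trans ⟨eq_of_mem_center, by
      rintro (rfl | rfl)
      exacts [one_mem _, negOne_mem_center]⟩
  refine ⟨QuotientGroup.mk'_surjective _, hk, fun h => h2 ?_, negOne_mul_self, negOne_mem_center,
    fun e he h1 => ((hk _).1 ((map_mul _ e e).trans (hV _ he))).resolve_left fun h =>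
      h1 ((hk e).2 ?_)⟩
  · have : (-1 : F) = 1 := congrArg (slm · 0 0) h
    linear_combination -this
  · have h3 := inv_eq_of_mul_eq_one_right h
    have h4 : slm e 1 1 = slm e 0 0 := by rw [← inv_00, h3]
    have h5 : slm e 0 1 = 0 := by
      have := inv_01 e
      rw [h3] at this
      exact (mul_eq_zero.1 (by linear_combination this)).resolve_left h2
    have h6 : slm e 1 0 = 0 := by
      have := inv_10 e
      rw [h3] at this
      exact (mul_eq_zero.1 (by linear_combination this)).resolve_left h2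
    have h7 := det_ent e
    rw [h4, h5, zero_mul, sub_zero] at h7
    exact (mul_self_eq_one_iff.1 h7).imp (fun h => ext_ent h h5 h6 (h4.trans h))
      fun h => ext_ent h h5 h6 (h4.trans h)

theorem card_PSL2_five : Nat.card (ProjectiveSpecialLinearGroup (Fin 2) (ZMod 5)) = 60 := by
  have h := twoCover_SL2 (F := ZMod 5) (by decide) (V := ⊥) fun v hv => by simp [mem_bot.1 hv]
  have h1 : Nat.card (Subgroup.center (G2 (ZMod 5))) = 2 := by
    rw [Nat.card_eq_two_iff' 1]
    exact ⟨⟨_, negOne_mem_center⟩, fun h' => h.ne (congrArg Subtype.val h'), fun x hx =>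
      Subtype.ext ((eq_of_mem_center x.2).resolve_left fun h' => hx (Subtype.ext h'))⟩
  have h2 := (Subgroup.center (G2 (ZMod 5))).card_mul_index
  rw [h1, card_SL2_five] at h2
  change (Subgroup.center (G2 (ZMod 5))).index = 60
  omega

theorem nonempty_mulEquiv_PSL2_five {G : Type*} [Group G] [Finite G] [IsSimpleGroup G]
    (h : Nat.card G = 60) : Nonempty (G ≃* ProjectiveSpecialLinearGroup (Fin 2) (ZMod 5)) := by
  have := ProjectiveSpecialLinearGroup.rank_two_simple (F := ZMod 5) (by simp)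
  obtain ⟨e⟩ := nonempty_mulEquiv_alternatingGroup_of_card h
  obtain ⟨e'⟩ := nonempty_mulEquiv_alternatingGroup_of_card card_PSL2_five
  exact ⟨e.trans e'.symm⟩

theorem TwoCover.nonempty_mulEquiv_SL2_five {E Q : Type*} [Group E] [Group Q] [Finite E]
    [IsSimpleGroup Q] (h : Nat.card Q = 60) {f : E →* Q} {z : E} {V : Subgroup Q}
    (hf : TwoCover f z V) (hV : Odd V.index) (hV' : ∀ v ∈ V, v * v = 1) :
    Nonempty (E ≃* SpecialLinearGroup (Fin 2) (ZMod 5)) := by
  have := Finite.of_surjective f hf.surj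
  obtain ⟨e⟩ := nonempty_mulEquiv_PSL2_five h
  refine TwoCover.nonempty_mulEquiv (f := e.toMonoidHom.comp f) (V := V.map e.toMonoidHom)
    ⟨e.surjective.comp hf.surj, fun x => (map_eq_one_iff e e.injective).trans (hf.ker x), hf.ne,
      hf.zz, hf.cent, fun x hx h1 => hf.sq x ((mem_map_iff_mem e.injective).1 hx)
        fun h => h1 ((map_eq_one_iff e e.injective).2 h)⟩
    (twoCover_SL2 (by decide) ?_) ((V.index_map_equiv e).symm ▸ hV :)
  rintro _ ⟨v, hv, rfl⟩
  rw [← map_mul, hV' v hv, map_one]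

end GT
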