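import Cfsg.Agent.Lib.Grp.Retract
import Cfsg.Agent.Lib.Grp.PGrp

/-!
# Groups with dihedral Sylow `2`-subgroups (including the Klein four group)
-/

set_option autoImplicit false
set_option linter.unusedSectionVars false

namespace GT

open Cfsg Subgroup
open scoped Pointwise

variable {G : Type*} [Group G] [Finite G]

theorem IsSylowIn.hasNormalPComplement_of_forall_le {p : ℕ} [Fact p.Prime] {P C : Subgroup G}
    (hP : IsSylowIn p P C) (h : ∀ Q ≤ P, ∀ g ∈ C, (∀ q ∈ Q, g * q * g⁻¹ ∈ Q) → ¬ p ∣ orderOf g →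
      ∀ q ∈ Q, g * q * g⁻¹ = q) : HasNormalPComplement p C := by
  refine hasNormalPComplement_iff_forall_mem_centralizer.2 fun Q hQ g hg hr q hq => ?_
  obtain ⟨x, hx, hle⟩ := hP.exists_conj_le (hQ.map C.subtype) (map_subtype_le Q)
  have h1 := h _ hle (x * g * x⁻¹) (mul_mem (mul_mem hx g.2) (inv_mem hx)) (fun y hy => ?_)
    (by rw [orderOf_conj', Subgroup.orderOf_coe]; exact hr) (x * q * x⁻¹)
    (conj_mem_conj_smul.2 ⟨q, hq, rfl⟩)
  · refine Subtype.ext ?_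
    have h2 : x * (g * q * (g : G)⁻¹) * x⁻¹ = x * q * x⁻¹ := by rw [← h1]; group
    exact (mul_inv_eq_iff_eq_mul.1 (mul_left_cancel (mul_right_cancel h2))).symm
  · obtain ⟨_, ⟨z, hz, rfl⟩, rfl⟩ := mem_conj_smul'.1 hy
    exact mem_conj_smul'.2 ⟨_, ⟨_, conj_mem_of_mem_normalizer hg hz, rfl⟩, by
      simp only [Subgroup.coe_subtype, Subgroup.coe_mul, InvMemClass.coe_inv]; group⟩

theorem mem_zpowers_of_orderOf_dvd_of_mem {σ x y : G} (hx : x ∈ zpowers σ) (hy : y ∈ zpowers σ)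
    (h : orderOf x ∣ orderOf y) : x ∈ zpowers y :=
  le_of_card_dvd_of_isCyclic (zpowers_le.2 hx) (zpowers_le.2 hy)
    (by rwa [Nat.card_zpowers, Nat.card_zpowers]) (mem_zpowers x)

theorem conj_eq_of_conj_mem_zpowers_dih {g q : G} (hq : IsPElt 2 q) (hg : ¬ 2 ∣ orderOf g)
    (h : g * q * g⁻¹ ∈ zpowers q) : g * q * g⁻¹ = q := by
  have h1 : g ∈ normalizer (zpowers q : Set G) := mem_normalizer_of_conj_mem fun x hx => by
    obtain ⟨n, rfl⟩ := mem_zpowers_iff.1 hx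
    rw [← conj_zpow]
    exact zpow_mem h n
  have h2 := (exists_relIndex_eq_pow_iff_forall (normalizer_le_normalizer_centralizer _)).1
    (exists_relIndex_centralizer_eq_pow_of_isCyclic hq.isPGroup_zpowers (by simp)) g h1 hg
  rw [← h2 q (mem_zpowers q), mul_inv_cancel_right]

theorem eq_one_of_conj_eq_mul {p : ℕ} [Fact p.Prime] {g q s : G} (hs : IsPElt p s)
    (hg : ¬ p ∣ orderOf g) (h1 : g * s * g⁻¹ = s) (h2 : g * q * g⁻¹ = s * q) : s = 1 := by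
  have h3 : ∀ m : ℕ, g ^ m * q * (g ^ m)⁻¹ = s ^ m * q := fun m => by
    induction m with
    | zero => simp
    | succ m ih =>
      calc _ = g * (g ^ m * q * (g ^ m)⁻¹) * g⁻¹ := by rw [pow_succ']; group
        _ = (g * s * g⁻¹) ^ m * (g * q * g⁻¹) := by rw [ih, conj_pow]; group
        _ = _ := by rw [h1, h2, pow_succ, mul_assoc]
  have h4 := h3 (orderOf g)
  rw [pow_orderOf_eq_one, one_mul, inv_one, mul_one, right_eq_mul] at h4
  exact hs.eq_one_of_isPRegular (isPRegular_of_pow_eq_one hg h4)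

/-- `P = ⟨σ, τ⟩` is a dihedral Sylow `2`-subgroup of order `2 ^ (k + 2)` (a Klein four group if
`k = 0`) and `J` is the involution in `⟨σ⟩`. -/
structure DihSyl (P : Subgroup G) (σ τ J : G) (k : ℕ) : Prop where
  syl : IsSylowIn 2 P ⊤
  σ_mem : σ ∈ P
  τ_mem : τ ∈ P
  ord : orderOf σ = 2 ^ (k + 1)
  τ_sq : τ * τ = 1
  rel : τ * σ * τ⁻¹ = σ⁻¹
  cases : ∀ x ∈ P, x ∈ zpowers σ ∨ x * τ ∈ zpowers σ
  not_mem : τ ∉ zpowers σ
  J_eq : J = σ ^ 2 ^ k

theorem dihSyl_of_closure {P : Subgroup G} (hP : IsSylowIn 2 P ⊤) {σ τ : G} {k : ℕ}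
    (ho : orderOf σ = 2 ^ (k + 1)) (hτ : τ * τ = 1) (hrel : τ * σ * τ⁻¹ = σ⁻¹)
    (hn : τ ∉ zpowers σ) (hgen : closure {σ, τ} = P) : DihSyl P σ τ (σ ^ 2 ^ k) k := by
  have hτ' : τ⁻¹ = τ := inv_eq_of_mul_eq_one_right hτ
  have hc : ∀ x ∈ zpowers σ, τ * x * τ ∈ zpowers σ := fun x hx => by
    obtain ⟨n, rfl⟩ := mem_zpowers_iff.1 hx
    nth_rewrite 2 [← hτ']
    rw [← conj_zpow, hrel]
    exact zpow_mem (inv_mem (mem_zpowers σ)) n
  refine ⟨hP, hgen ▸ subset_closure (by simp), hgen ▸ subset_closure (by simp), ho, hτ, hrel,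
    fun x hx => ?_, hn, rfl⟩
  rw [← hgen] at hx
  induction hx using closure_induction with
  | mem x hx =>
    rcases hx with rfl | rfl
    exacts [Or.inl (mem_zpowers _), Or.inr (hτ ▸ one_mem _)]
  | one => exact Or.inl (one_mem _)
  | mul x y _ _ hx hy =>
    rcases hx with hx | hx <;> rcases hy with hy | hy
    · exact Or.inl (mul_mem hx hy)
    · exact Or.inr (mul_assoc x y τ ▸ mul_mem hx hy)
    · refine Or.inr ?_
      have := mul_mem hx (hc y hy)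
      rwa [show x * τ * (τ * y * τ) = x * (τ * τ) * y * τ by group, hτ, mul_one] at this
    · refine Or.inl ?_
      have := mul_mem hx (hc _ hy)
      rwa [show x * τ * (τ * (y * τ) * τ) = x * (τ * τ) * y * (τ * τ) by group, hτ, mul_one,
        mul_one] at this
  | inv x _ hx =>
    rcases hx with hx | hx
    · exact Or.inl (inv_mem hx)
    · refine Or.inr ?_
      have := hc _ (inv_mem hx)
      rwa [show τ * (x * τ)⁻¹ * τ = x⁻¹ * τ by group] at this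

theorem exists_dihSyl_of_mulEquiv {P : Subgroup G} (hP : IsSylowIn 2 P ⊤) {k : ℕ} (hk : 1 ≤ k)
    (e : P ≃* DihedralGroup (2 ^ (k + 1))) {σ : G} (hσ : σ ∈ P) (ho : orderOf σ = 2 ^ (k + 1)) :
    ∃ τ, DihSyl P σ τ (σ ^ 2 ^ k) k := by
  have h2 : 2 < 2 ^ (k + 1) := by
    have := Nat.pow_le_pow_right two_pos hk
    rw [pow_succ]; omega
  have ho' : orderOf (e ⟨σ, hσ⟩) = 2 ^ (k + 1) := by
    rw [e.orderOf_eq, ← Subgroup.orderOf_coe, ho]
  obtain ⟨i, hi⟩ : ∃ i, e ⟨σ, hσ⟩ = DihedralGroup.r i := by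
    rcases h : e ⟨σ, hσ⟩ with i | i
    · exact ⟨i, rfl⟩
    · rw [h, DihedralGroup.orderOf_sr] at ho'; omega
  have hr : ∀ j, DihedralGroup.r j ∈ zpowers (DihedralGroup.r (1 : ZMod (2 ^ (k + 1)))) :=
    fun j => ⟨j.val, by simp⟩
  have hz : ∀ x : P, ∀ j, e x = DihedralGroup.r j → (x : G) ∈ zpowers σ := fun x j h => by
    obtain ⟨n, hn⟩ := mem_zpowers_iff.1 (mem_zpowers_of_orderOf_dvd_of_mem (hr j) (hr i) (by
      rw [← hi, ho']
      exact (orderOf_dvd_of_mem_zpowers (hr j)).trans DihedralGroup.orderOf_r_one.dvd))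
    rw [← hi, ← h, ← map_zpow] at hn
    exact ⟨n, congrArg Subtype.val (e.injective hn)⟩
  refine ⟨e.symm (DihedralGroup.sr 0), hP, hσ, (e.symm _).2, ho, ?_, ?_, fun x hx => ?_,
    fun h => ?_, rfl⟩
  · rw [← Subgroup.coe_mul, ← map_mul, DihedralGroup.sr_mul_self, map_one, OneMemClass.coe_one]
  · refine congrArg Subtype.val (e.injective (?_ : e (e.symm _ * ⟨σ, hσ⟩ * (e.symm _)⁻¹) =
      e ⟨σ, hσ⟩⁻¹))
    simp [hi]
  · rcases h : e ⟨x, hx⟩ with j | j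
    · exact Or.inl (hz _ j h)
    · exact Or.inr (hz (⟨x, hx⟩ * e.symm _) _ (by
        rw [map_mul, h, e.apply_symm_apply, DihedralGroup.sr_mul_sr]))
  · obtain ⟨n, hn⟩ := mem_zpowers_iff.1 h
    have h1 : e (⟨σ, hσ⟩ ^ n) = DihedralGroup.sr 0 := by
      rw [show (⟨σ, hσ⟩ : P) ^ n = e.symm _ from Subtype.ext hn, e.apply_symm_apply]
    rw [map_zpow, hi, DihedralGroup.r_zpow] at h1
    cases h1

theorem exists_dihSyl_of_card_eq_four {P : Subgroup G} (hP : IsSylowIn 2 P ⊤)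
    (hc : Nat.card P = 4) (hn : ¬ IsCyclic P) {J : G} (hJ : J ∈ P) (ho : orderOf J = 2) :
    ∃ τ, DihSyl P J τ J 0 := by
  have hsq : ∀ x ∈ P, x * x = 1 := fun x hx => by
    have h1 : orderOf x ∣ 2 ^ 2 := (hc ▸ Subgroup.orderOf_dvd_natCard P hx : orderOf x ∣ 4)
    obtain ⟨i, hi, h⟩ := (Nat.dvd_prime_pow Nat.prime_two).1 h1
    rw [← sq, ← orderOf_dvd_iff_pow_eq_one, h]
    interval_cases i
    · simp
    · simp
    · exact (hn (isCyclic_iff_exists_zpowers_eq.2 ⟨x, eq_of_le_of_card_ge (zpowers_le.2 hx)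
        (by rw [Nat.card_zpowers, h, hc]; norm_num)⟩)).elim
  have hi : (zpowers J).relIndex P = 2 := by
    have := card_mul_relIndex (zpowers_le.2 hJ)
    rw [Nat.card_zpowers, ho, hc] at this
    omega
  obtain ⟨τ, hτ, h⟩ := relIndex_eq_two_iff_exists_notMem_and.1 hi
  refine ⟨τ, hP, hJ, hτ, ho, hsq τ hτ, ?_, fun x hx => (h.2 x hx).symm, h.1, by simp⟩
  rw [inv_eq_of_mul_eq_one_right (hsq τ hτ), eq_inv_iff_mul_eq_one, mul_assoc]
  exact hsq _ (mul_mem hτ hJ)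

namespace DihSyl
variable {P : Subgroup G} {σ τ J : G} {k : ℕ} (D : DihSyl P σ τ J k)
include D

theorem le : zpowers σ ≤ P := zpowers_le.2 D.σ_mem

theorem isPElt {x : G} (hx : x ∈ P) : IsPElt 2 x := isPElt_of_mem D.syl.isPGroup hx

theorem τ_inv : τ⁻¹ = τ := inv_eq_of_mul_eq_one_right D.τ_sq

theorem J_mem : J ∈ zpowers σ := D.J_eq ▸ npow_mem_zpowers _ _

theorem ord_J : orderOf J = 2 := by
  rw [D.J_eq, orderOf_pow_of_dvd (pow_pos two_pos k).ne' (D.ord ▸ pow_dvd_pow 2 k.le_succ), D.ord,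
    pow_succ, Nat.mul_div_cancel_left _ (pow_pos two_pos k)]

theorem J_sq : J * J = 1 := by rw [← sq, ← D.ord_J, pow_orderOf_eq_one]

theorem J_ne_one : J ≠ 1 := fun h => by simpa [h] using D.ord_J

theorem J_inv : J⁻¹ = J := inv_eq_of_mul_eq_one_right D.J_sq

theorem card_S : Nat.card (zpowers σ) = 2 ^ (k + 1) := by rw [Nat.card_zpowers, D.ord]

theorem τ_conj {x : G} (hx : x ∈ zpowers σ) : τ * x * τ⁻¹ = x⁻¹ := by
  obtain ⟨n, rfl⟩ := mem_zpowers_iff.1 hx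
  rw [← conj_zpow, D.rel, inv_zpow]

theorem τ_mul {x : G} (hx : x ∈ zpowers σ) : τ * x = x⁻¹ * τ :=
  mul_inv_eq_iff_eq_mul.1 (D.τ_conj hx)

theorem exists_eq_mul {y : G} (hy : y ∈ P) (h : y ∉ zpowers σ) : ∃ s ∈ zpowers σ, y = s * τ :=
  ⟨y * τ, (D.cases y hy).resolve_left h, by rw [mul_assoc, D.τ_sq, mul_one]⟩

theorem mul_τ_not_mem {s : G} (hs : s ∈ zpowers σ) : s * τ ∉ zpowers σ := fun h =>
  D.not_mem ((mul_mem_cancel_left hs).1 h)

omit D [Finite G] in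
theorem comm {x y : G} (hx : x ∈ zpowers σ) (hy : y ∈ zpowers σ) : x * y = y * x :=
  congrArg Subtype.val ((zpowers_isMulCommutative σ).is_comm.comm ⟨x, hx⟩ ⟨y, hy⟩)

theorem conj_of_not_mem {y x : G} (hy : y ∈ P) (h : y ∉ zpowers σ) (hx : x ∈ zpowers σ) :
    y * x * y⁻¹ = x⁻¹ := by
  obtain ⟨s, hs, rfl⟩ := D.exists_eq_mul hy h
  rw [show s * τ * x * (s * τ)⁻¹ = s * (τ * x * τ⁻¹) * s⁻¹ by group, D.τ_conj hx,
    comm hs (inv_mem hx), mul_inv_cancel_right]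

theorem sq_of_not_mem {y : G} (hy : y ∈ P) (h : y ∉ zpowers σ) : y * y = 1 := by
  obtain ⟨s, hs, rfl⟩ := D.exists_eq_mul hy h
  rw [mul_assoc, ← mul_assoc τ, D.τ_mul hs, mul_assoc, D.τ_sq, mul_one, mul_inv_cancel]

theorem mul_mem_of_not_mem {x y : G} (hx : x ∈ P) (h : x ∉ zpowers σ) (hy : y ∈ P)
    (h' : y ∉ zpowers σ) : x * y ∈ zpowers σ := by
  obtain ⟨s, hs, rfl⟩ := D.exists_eq_mul hx h
  obtain ⟨t, ht, rfl⟩ := D.exists_eq_mul hy h'
  rw [mul_assoc, ← mul_assoc τ, D.τ_mul ht, mul_assoc, D.τ_sq, mul_one]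
  exact mul_mem hs (inv_mem ht)

theorem relIndex_S : (zpowers σ).relIndex P = 2 :=
  relIndex_eq_two_iff_exists_notMem_and.2 ⟨τ, D.τ_mem, D.not_mem, fun x hx => (D.cases x hx).symm⟩

theorem card_P : Nat.card P = 2 ^ (k + 2) := by
  rw [← card_mul_relIndex D.le, D.card_S, D.relIndex_S, ← pow_succ]

theorem J_mem_zpowers {u : G} (hu : u ∈ zpowers σ) (h1 : u ≠ 1) : J ∈ zpowers u :=
  mem_zpowers_of_orderOf_dvd_of_mem D.J_mem hu (D.ord_J ▸ (D.isPElt (D.le hu)).dvd_orderOf h1)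

theorem eq_J_of_sq {u : G} (hu : u ∈ zpowers σ) (h1 : u ≠ 1) (h : u * u = 1) : u = J := by
  have h2 := mem_zpowers_of_orderOf_dvd_of_mem hu D.J_mem
    (D.ord_J ▸ orderOf_dvd_of_pow_eq_one (by rwa [sq]))
  classical
  rw [mem_zpowers_iff_mem_range_orderOf, D.ord_J] at h2
  obtain ⟨i, hi, rfl⟩ := Finset.mem_image.1 h2
  have := Finset.mem_range.1 hi
  interval_cases i
  · exact (h1 (pow_zero J)).elim
  · exact pow_one J

theorem le_C : P ≤ centralizer {J} := fun x hx => mem_centralizer_singleton_iff.2 <| by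
  by_cases h : x ∈ zpowers σ
  · exact comm h D.J_mem
  · exact mul_inv_eq_iff_eq_mul.1 ((D.conj_of_not_mem hx h D.J_mem).trans D.J_inv)

theorem isSylowIn_C : IsSylowIn 2 P (centralizer {J}) := D.syl.of_le D.le_C le_top

theorem centralizer_le {u : G} (hu : u ∈ zpowers σ) (h1 : u ≠ 1) :
    centralizer {u} ≤ centralizer {J} := by
  rw [← centralizer_zpowers u]
  exact Subgroup.centralizer_le (Set.singleton_subset_iff.2 (D.J_mem_zpowers hu h1))

theorem nilp : HasNormalPComplement 2 (centralizer ({J} : Set G)) := by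
  refine D.isSylowIn_C.hasNormalPComplement_of_forall_le fun Q hQ g hg hn ho => ?_
  have hJ : g * J * g⁻¹ = J := mul_inv_eq_iff_eq_mul.2 (mem_centralizer_singleton_iff.1 hg)
  have h1 : ∀ q ∈ Q, q ∈ zpowers σ → g * q * g⁻¹ = q := fun q hq hs => by
    by_cases h : q * q = 1
    · by_cases h1 : q = 1
      · simp [h1]
      · rw [D.eq_J_of_sq hs h1 h, hJ]
    refine conj_eq_of_conj_mem_zpowers_dih (D.isPElt (hQ hq)) ho
      (mem_zpowers_of_orderOf_dvd_of_mem (by_contra fun h' => h ?_) hs (orderOf_conj' _ _).dvd)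
    have := D.sq_of_not_mem (hQ (hn q hq)) h'
    rwa [conj_mul, conj_eq_one_iff] at this
  intro q hq
  by_cases hs : q ∈ zpowers σ
  · exact h1 q hq hs
  by_cases hs' : g * q * g⁻¹ ∈ zpowers σ
  · have := h1 _ (hn q hq) hs'
    exact mul_left_cancel (mul_right_cancel this)
  have h2 : g * q * g⁻¹ * q⁻¹ ∈ Q := mul_mem (hn q hq) (inv_mem hq)
  exact mul_inv_eq_one.1 (eq_one_of_conj_eq_mul (q := q) (D.isPElt (hQ h2)) ho (h1 _ h2
    (D.mul_mem_of_not_mem (hQ (hn q hq)) hs' (hQ (inv_mem hq)) (mt inv_mem_iff.1 hs))) (by group))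

theorem nilp' {u : G} (hu : u ∈ zpowers σ) (h1 : u ≠ 1) :
    HasNormalPComplement 2 (centralizer ({u} : Set G)) :=
  hasNormalPComplement_of_le D.nilp (D.centralizer_le hu h1)

theorem exists_retr : ∃ φ, Retr 2 (centralizer {J}) P φ := D.isSylowIn_C.exists_retr D.nilp

theorem eq_or_eq_inv_of_isConj {u v : G} (hu : u ∈ zpowers σ) (h1 : u ≠ 1) (hv : v ∈ zpowers σ)
    (h : IsConj u v) : v = u ∨ v = u⁻¹ := by
  obtain ⟨g, rfl⟩ := isConj_iff.1 h
  have hJ : g * J * g⁻¹ = J := D.eq_J_of_sq (zpowers_le.2 hv (by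
    rw [← conj_smul_zpowers]; exact conj_mem_conj_smul.2 (D.J_mem_zpowers hu h1)))
    (by simpa using D.J_ne_one) (by rw [conj_mul, D.J_sq]; group)
  obtain ⟨φ, R⟩ := D.exists_retr
  obtain ⟨t, ht, h⟩ := R.exists_mem_conj_eq (D.le hu)
    (mem_centralizer_singleton_iff.2 (mul_inv_eq_iff_eq_mul.1 hJ)) (D.le hv)
  rw [← h]
  by_cases hs : t ∈ zpowers σ
  · exact Or.inl (by rw [comm hs hu, mul_inv_cancel_right])
  · exact Or.inr (D.conj_of_not_mem ht hs hu)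

theorem isSylowIn_S {u : G} (hu : u ∈ zpowers σ) (h1 : u ≠ 1) (hJ : u ≠ J) :
    IsSylowIn 2 (zpowers σ) (centralizer {u}) := by
  obtain ⟨φ, R⟩ := D.exists_retr
  refine isSylowIn_of_maximal (D.syl.isPGroup.to_le D.le)
    (fun x hx => mem_centralizer_singleton_iff.2 (comm hx hu)) fun Q hQ hQC hle => ?_
  have hC := hQC.trans (D.centralizer_le hu h1)
  refine (eq_of_le_of_card_ge hle (Nat.card_le_card_of_injective
    (fun q : Q => (⟨φ ⟨q, hC q.2⟩, by_contra fun h => hJ ?_⟩ : zpowers σ)) fun q q' h => ?_)).symm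
  · have h2 : φ ⟨q, hC q.2⟩ * u = u * φ ⟨q, hC q.2⟩ := by
      rw [← show φ ⟨u, D.le_C (D.le hu)⟩ = u from R.id _ (D.le hu), ← map_mul, ← map_mul]
      exact congrArg φ (Subtype.ext (mem_centralizer_singleton_iff.1 (hQC q.2)))
    have h3 := D.conj_of_not_mem (R.mem _) h hu
    rw [h2, mul_inv_cancel_right] at h3
    exact D.eq_J_of_sq hu h1 (eq_inv_iff_mul_eq_one.1 h3)
  · have h2 : φ (⟨q, hC q.2⟩ * ⟨q', hC q'.2⟩⁻¹) = 1 := by
      rw [map_mul, map_inv, mul_inv_eq_one]; exact congrArg Subtype.val h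
    exact Subtype.ext (mul_inv_eq_one.1 ((isPElt_of_mem hQ (mul_mem q.2 (inv_mem q'.2))
      ).eq_one_of_isPRegular ((R.eq_one_iff _).1 h2)))

/-- The reflections fall into the classes of `τ` and `σ τ`. -/
theorem exists_conj_of_not_mem {y : G} (hy : y ∈ P) (h : y ∉ zpowers σ) :
    ∃ s ∈ zpowers σ, y = s * s * τ ∨ y = s * s * σ * τ := by
  obtain ⟨s, hs, rfl⟩ := D.exists_eq_mul hy h
  obtain ⟨n, rfl⟩ := mem_zpowers_iff.1 hs
  obtain ⟨m, rfl | rfl⟩ := Int.even_or_odd' n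
  · exact ⟨σ ^ m, zpow_mem_zpowers _ _, Or.inl (by rw [two_mul, zpow_add])⟩
  · exact ⟨σ ^ m, zpow_mem_zpowers _ _, Or.inr (by rw [zpow_add, two_mul, zpow_add, zpow_one])⟩

theorem conj_mul_τ {s x : G} (hs : s ∈ zpowers σ) (hx : x ∈ zpowers σ) :
    s * (x * τ) * s⁻¹ = s * s * x * τ := by
  rw [mul_assoc, mul_assoc, D.τ_mul (inv_mem hs), inv_inv, ← mul_assoc x, comm hx hs]
  group

theorem σ_ne_mul_self {s : G} (hs : s ∈ zpowers σ) : s * s ≠ σ := fun h => by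
  have h1 : s ^ 2 ^ (k + 1) = 1 := D.card_S ▸ (orderOf_dvd_iff_pow_eq_one.1
    (Subgroup.orderOf_dvd_natCard _ hs))
  rw [pow_succ', pow_mul, sq, h, ← D.J_eq] at h1
  exact D.J_ne_one h1

end DihSyl

end GT
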