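import Cfsg.Agent.Lib.Grp.NormalCompl

/-!
# Fusion in an extraspecial Sylow 3-subgroup of order 27 whose normalizer fixes the centre
-/

set_option autoImplicit false
set_option linter.unusedSectionVars false

namespace GT

open Cfsg Subgroup
open scoped Pointwise commutatorElement

variable {G : Type*} [Group G] [Finite G]

theorem ncard_conj_orbit (T : Subgroup G) (u : G) :
    {v : G | ∃ t ∈ T, t * u * t⁻¹ = v}.ncard = (centralizer ({u} : Set G)).relIndex T := by
  let _ : MulAction T G := MulAction.compHom G ((MulAut.conj (G := G)).comp T.subtype)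
  have h1 : ∀ (t : T) (x : G), t • x = t * x * (t : G)⁻¹ := fun _ _ => rfl
  have h2 : MulAction.stabilizer T u = (centralizer ({u} : Set G)).subgroupOf T := by
    ext t
    rw [MulAction.mem_stabilizer_iff, h1, mem_subgroupOf,
      mem_centralizer_singleton_iff, mul_inv_eq_iff_eq_mul]
  rw [relIndex, ← h2, MulAction.index_stabilizer]
  congr 1
  ext v
  exact ⟨fun ⟨t, ht, h⟩ => ⟨⟨t, ht⟩, h⟩, fun ⟨t, h⟩ => ⟨t, t.2, h⟩⟩

structure Ex27 (P : Subgroup G) (z : G) : Prop where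
  syl : IsSylowIn 3 P ⊤
  card : Nat.card P = 27
  cube : ∀ x ∈ P, x ^ 3 = 1
  mem : z ∈ P
  ne : z ≠ 1
  cen : ∀ w ∈ P, (∀ y ∈ P, Commute w y) → w ∈ zpowers z
  der : ∀ x ∈ P, ∀ y ∈ P, x * y * x⁻¹ * y⁻¹ ∈ zpowers z
  norm : ∀ g ∈ normalizer (P : Set G), Commute g z

theorem exists_ex27 (P : Sylow 3 G) (hE : IsExtraspecial 3 (P : Subgroup G))
    (h27 : Nat.card (P : Subgroup G) = 27) (hexp : ∀ x ∈ (P : Subgroup G), x ^ 3 = 1)
    (hNC : ∀ g ∈ normalizer ((P : Subgroup G) : Set G), ∀ z ∈ (P : Subgroup G),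
      (∀ y ∈ (P : Subgroup G), z * y = y * z) → g * z = z * g) : ∃ z, Ex27 (P : Subgroup G) z := by
  obtain ⟨⟨-, -, hc⟩, h3⟩ := hE
  have : Fact (Nat.Prime 3) := ⟨Nat.prime_three⟩
  have : Nontrivial (center (P : Subgroup G)) := Finite.one_lt_card_iff_nontrivial.1 (by omega)
  obtain ⟨z, hz⟩ := exists_ne (1 : center (P : Subgroup G))
  have h1 : ∀ w : center (P : Subgroup G), (w : G) ∈ zpowers ((z : (P : Subgroup G)) : G) := by
    intro w
    obtain ⟨k, rfl⟩ := mem_zpowers_iff.1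
      (mem_zpowers_of_prime_card (G := center (P : Subgroup G)) h3 hz (g' := w))
    exact ⟨k, by simp⟩
  refine ⟨z, isSylowIn_sylow P, h27, hexp, z.1.2, fun h => hz (by ext; exact h), ?_, ?_, ?_⟩
  · intro w hw h
    exact h1 ⟨⟨w, hw⟩, mem_center_iff.2 fun y => Subtype.ext (h y y.2).symm⟩
  · intro x hx y hy
    exact h1 ⟨⁅(⟨x, hx⟩ : (P : Subgroup G)), ⟨y, hy⟩⁆,
      hc ▸ commutator_mem_commutator (mem_top _) (mem_top _)⟩
  · intro g hg
    exact hNC g hg _ z.1.2 fun y hy =>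
      congrArg Subtype.val (mem_center_iff.1 z.2 ⟨y, hy⟩).symm

namespace Ex27

variable {P : Subgroup G} {z : G} (E : Ex27 P z)
include E

theorem comm {y : G} (hy : y ∈ P) : Commute y z := E.norm y (le_normalizer hy)

theorem orderOf_z : orderOf z = 3 :=
  haveI : Fact (Nat.Prime 3) := ⟨Nat.prime_three⟩
  orderOf_eq_prime (E.cube z E.mem) E.ne

theorem z_mul_z : z * z = z⁻¹ := by
  rw [eq_inv_iff_mul_eq_one, ← E.cube z E.mem, pow_succ, pow_two]

theorem mem_Z {w : G} : w ∈ zpowers z ↔ w = 1 ∨ w = z ∨ w = z⁻¹ := by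
  classical
  refine ⟨fun h => ?_, by rintro (rfl | rfl | rfl) <;> simp⟩
  obtain ⟨k, hk, rfl⟩ := (mem_zpowers_iff_mem_range_orderOf.trans Finset.mem_image).1 h
  rw [E.orderOf_z, Finset.mem_range] at hk
  interval_cases k <;> simp [pow_two, E.z_mul_z]

theorem Z_le : zpowers z ≤ P := (zpowers_le_of_mem E.mem)

theorem comm' {y w : G} (hy : Commute y z) (hw : w ∈ zpowers z) : Commute y w :=
  (commute_of_mem_zpowers hw hy.symm).symm

theorem isPElt {x : G} (hx : x ∈ P) : IsPElt 3 x :=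
  haveI : Fact (Nat.Prime 3) := ⟨Nat.prime_three⟩
  isPElt_of_mem E.syl.isPGroup hx

theorem exists_conj {u w : G} (hu : u ∈ P) (hu' : u ∉ zpowers z) (hw : w ∈ zpowers z) :
    ∃ y ∈ P, y * u * y⁻¹ = u * w := by
  obtain ⟨y, hy, h⟩ : ∃ y ∈ P, ¬ Commute u y := by
    by_contra h
    push Not at h
    exact hu' (E.cen u hu h)
  have h1 := E.der y hy u hu
  have h2 : ∀ c, y * u * y⁻¹ * u⁻¹ = c → c ∈ zpowers z → y * u * y⁻¹ = u * c ∧
      (y * y) * u * (y * y)⁻¹ = u * (c * c) := by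
    intro c hc hc'
    have h3 : y * u * y⁻¹ = u * c := by
      rw [(E.comm' (E.comm hu) hc').eq, ← hc]; group
    refine ⟨h3, ?_⟩
    calc _ = y * (y * u * y⁻¹) * y⁻¹ := by group
      _ = y * (u * c) * y⁻¹ := by rw [h3]
      _ = y * u * y⁻¹ * (y * c * y⁻¹) := by group
      _ = _ := by rw [h3, (E.comm' (E.comm hy) hc').eq]; group
  have h4 : z⁻¹ * z⁻¹ = z := by rw [← mul_inv_rev, E.z_mul_z, inv_inv]
  rcases E.mem_Z.1 h1 with h3 | h3 | h3
  · exact (h (show u * y = y * u by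
      rw [mul_inv_eq_one, mul_inv_eq_iff_eq_mul] at h3; exact h3.symm)).elim
  · obtain ⟨h5, h6⟩ := h2 _ h3 (mem_zpowers z)
    rcases E.mem_Z.1 hw with rfl | rfl | rfl
    · exact ⟨1, P.one_mem, by simp⟩
    · exact ⟨y, hy, h5⟩
    · exact ⟨y * y, P.mul_mem hy hy, by rw [h6, E.z_mul_z]⟩
  · obtain ⟨h5, h6⟩ := h2 _ h3 (inv_mem (mem_zpowers z))
    rcases E.mem_Z.1 hw with rfl | rfl | rfl
    · exact ⟨1, P.one_mem, by simp⟩
    · exact ⟨y * y, P.mul_mem hy hy, by rw [h6, h4]⟩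
    · exact ⟨y, hy, h5⟩

theorem card_eq_nine {K : Subgroup G} (h1 : zpowers z < K) (h2 : K < P) : Nat.card K = 9 := by
  have h3 := card_lt_of_lt h1
  have h4 := card_lt_of_lt h2
  have h5 := card_dvd_of_le h2.le
  rw [Nat.card_zpowers, E.orderOf_z] at h3
  rw [E.card] at h4 h5
  obtain ⟨k, hk, h6⟩ := (Nat.dvd_prime_pow Nat.prime_three (m := 3)).1 h5
  interval_cases k <;> omega

theorem inf_lt {u : G} (hu : u ∈ P) (hu' : u ∉ zpowers z) :
    P ⊓ centralizer ({u} : Set G) < P :=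
  lt_of_le_of_ne inf_le_left fun h => hu' (E.cen u hu fun _ hy =>
    (mem_centralizer_singleton_iff.1 ((inf_eq_left.1 h) hy)).symm)

theorem sup_le {u : G} (hu : u ∈ P) :
    zpowers u ⊔ zpowers z ≤ P ⊓ centralizer ({u} : Set G) :=
  _root_.sup_le (zpowers_le_of_mem ⟨hu, mem_centralizer_singleton_iff.2 rfl⟩)
    (zpowers_le_of_mem ⟨E.mem, mem_centralizer_singleton_iff.2 (E.comm hu).symm⟩)

theorem lt_sup {u : G} (hu' : u ∉ zpowers z) : zpowers z < zpowers u ⊔ zpowers z :=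
  lt_of_le_of_ne le_sup_right fun h => hu' (h ▸ mem_sup_left (mem_zpowers u))

theorem card_inf {u : G} (hu : u ∈ P) (hu' : u ∉ zpowers z) :
    Nat.card ↥(P ⊓ centralizer ({u} : Set G)) = 9 :=
  E.card_eq_nine ((E.lt_sup hu').trans_le (E.sup_le hu)) (E.inf_lt hu hu')

theorem inf_eq {u : G} (hu : u ∈ P) (hu' : u ∉ zpowers z) :
    P ⊓ centralizer ({u} : Set G) = zpowers u ⊔ zpowers z :=
  (eq_of_le_of_card_ge (E.sup_le hu) (by
    rw [E.card_inf hu hu', E.card_eq_nine (E.lt_sup hu')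
      ((E.sup_le hu).trans_lt (E.inf_lt hu hu'))])).symm

theorem mem_centralizer_inf {u g : G} (hu : u ∈ P) (hu' : u ∉ zpowers z) (h1 : Commute g u)
    (h2 : Commute g z) : g ∈ centralizer ((P ⊓ centralizer ({u} : Set G) : Subgroup G) : Set G) := by
  have : P ⊓ centralizer ({u} : Set G) ≤ centralizer ({g} : Set G) := by
    rw [E.inf_eq hu hu']
    exact _root_.sup_le (zpowers_le_of_mem (mem_centralizer_singleton_iff.2 h1.symm))
      (zpowers_le_of_mem (mem_centralizer_singleton_iff.2 h2.symm))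
  exact fun a ha => mem_centralizer_singleton_iff.1 (this ha)

theorem inv_ne : z⁻¹ ≠ z := fun h => by
  have h1 := E.z_mul_z
  rw [h, mul_eq_left] at h1
  exact E.ne h1

theorem not_isConj_inv : ¬ IsConj z z⁻¹ := by
  have : Fact (Nat.Prime 3) := ⟨Nat.prime_three⟩
  intro h
  obtain ⟨g, hg⟩ := isConj_iff.1 h
  obtain ⟨n, hn, h1⟩ := exists_mem_normalizer_conj_eq_of_mem_centralizer E.syl.toSylowTop
    (x := z) (g := g) (fun y hy => (E.comm hy).eq)
    (by rw [hg]; exact fun y hy => (E.comm hy).inv_right.eq)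
  rw [hg, (E.norm n hn).eq, mul_inv_cancel_right] at h1
  exact E.inv_ne h1.symm

theorem weak {g : G} (hg : g * z * g⁻¹ ∈ P) : g * z * g⁻¹ = z := by
  have : Fact (Nat.Prime 3) := ⟨Nat.prime_three⟩
  set u := g * z * g⁻¹ with hu
  by_cases hu' : u ∈ zpowers z
  · rcases E.mem_Z.1 hu' with h | h | h
    · exact (E.ne (conj_eq_one_iff.1 h)).elim
    · exact h
    · exact (E.not_isConj_inv (isConj_iff.2 ⟨g, h⟩)).elim
  exfalso
  have h1 : IsSylowIn 3 (MulAut.conj g • P) (centralizer ({u} : Set G)) :=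
    (E.syl.conj_of_mem (mem_top g)).of_le (conj_smul_le_iff.2 fun y hy =>
      mem_centralizer_singleton_iff.2 (by
        rw [hu, conj_mul, conj_mul, (E.comm hy).eq])) le_top
  obtain ⟨c, hc, h2⟩ := h1.exists_le_conj (E.isPElt E.mem).isPGroup_zpowers
    (zpowers_le_of_mem (mem_centralizer_singleton_iff.2 (E.comm hg).symm))
  rw [conj_smul_conj_smul] at h2
  set h := c * g with hh
  have h3 : h * z * h⁻¹ = u := by
    have := mem_centralizer_singleton_iff.1 hc
    rw [hh, show c * g * z * (c * g)⁻¹ = c * u * c⁻¹ by rw [hu]; group, this, mul_inv_cancel_right]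
  have h4 : h⁻¹ * z * h ∈ P := mem_conj_smul.1 (h2 (mem_zpowers z))
  have h5 : h⁻¹ * z * h ∉ zpowers z := by
    intro h5
    rcases E.mem_Z.1 h5 with h6 | h6 | h6
    · exact E.ne (by simpa using conj_eq_one_iff.1 (show h⁻¹ * z * h⁻¹⁻¹ = 1 by rwa [inv_inv]))
    · apply hu'
      rw [← h3, ← h6, show h * (h⁻¹ * z * h) * h⁻¹ = z by group, h6]
      exact mem_zpowers z
    · exact E.not_isConj_inv (isConj_iff.2 ⟨h⁻¹, by rwa [inv_inv]⟩)
  obtain ⟨y, hy, h6⟩ := E.exists_conj h4 h5 (inv_mem (mem_zpowers z))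
  obtain ⟨x, hx, h7⟩ := E.exists_conj hg hu' (mem_zpowers z)
  set a := MulAut.conj x with ha
  set b := MulAut.conj (h * y * h⁻¹) with hb
  have a1 : a z = z := by rw [ha, MulAut.conj_apply, (E.comm hx).eq, mul_inv_cancel_right]
  have a2 : a u = u * z := h7
  have b1 : b z = z * u⁻¹ := by
    rw [hb, MulAut.conj_apply, ← h3]
    calc _ = h * (y * (h⁻¹ * z * h) * y⁻¹) * h⁻¹ := by group
      _ = _ := by rw [h6]; group
  have b2 : b u = u := by
    rw [hb, MulAut.conj_apply, ← h3]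
    calc _ = h * (y * z * y⁻¹) * h⁻¹ := by group
      _ = _ := by rw [(E.comm hy).eq]; group
  have huz := (E.comm hg).eq
  have m1 : (a * b * a) z = u⁻¹ := by
    rw [MulAut.mul_apply, MulAut.mul_apply, a1, b1, map_mul, map_inv, a1, a2]; group
  have m2 : (a * b * a) u = z := by
    rw [MulAut.mul_apply, MulAut.mul_apply, a2, map_mul, b1, b2, ← mul_assoc, huz,
      mul_inv_cancel_right, a1]
  refine E.not_isConj_inv (isConj_iff.2 ⟨(x * (h * y * h⁻¹) * x) * (x * (h * y * h⁻¹) * x), ?_⟩)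
  rw [← MulAut.conj_apply, map_mul, map_mul, map_mul, ← ha, ← hb, MulAut.mul_apply, m1, map_inv, m2]

theorem not_isConj {u w : G} (hu : u ∈ P) (hu' : u ∉ zpowers z) (hw : w ∈ zpowers z) :
    ¬ IsConj w u := by
  intro h
  obtain ⟨g, rfl⟩ := isConj_iff.1 h
  rcases E.mem_Z.1 hw with rfl | rfl | rfl
  · exact hu' (by simp)
  · exact hu' (by rw [E.weak hu]; exact hw)
  · have := E.weak (g := g) (by simpa [mul_assoc] using P.inv_mem hu)
    exact hu' (by rw [← conj_inv, this]; exact hw)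

theorem isSylowIn_inf {u : G} (hu : u ∈ P) (hu' : u ∉ zpowers z) :
    IsSylowIn 3 (P ⊓ centralizer ({u} : Set G)) (centralizer ({u} : Set G)) := by
  have : Fact (Nat.Prime 3) := ⟨Nat.prime_three⟩
  refine isSylowIn_of_maximal (E.syl.isPGroup.to_le inf_le_left) inf_le_right
    fun Q hQ hQC hle => ?_
  obtain ⟨g, -, hg⟩ := E.syl.exists_conj_le hQ le_top
  have huQ : u ∈ Q := hle ⟨hu, mem_centralizer_singleton_iff.2 rfl⟩
  have h1 : g * u * g⁻¹ ∈ P := hg (conj_mem_conj_smul.2 huQ)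
  have h2 : g * u * g⁻¹ ∉ zpowers z := fun h =>
    E.not_isConj hu hu' h (isConj_iff.2 ⟨g, rfl⟩).symm
  have h3 : MulAut.conj g • Q ≤ P ⊓ centralizer ({g * u * g⁻¹} : Set G) :=
    le_inf hg (by rw [← conj_smul_centralizer_singleton]; exact conj_smul_mono g hQC)
  have h4 := card_le_of_le h3
  rw [card_conj_smul, E.card_inf h1 h2, ← E.card_inf hu hu'] at h4
  exact (eq_of_le_of_card_ge hle h4).symm

theorem factorization_centralizer {u : G} (hu : u ∈ P) (hu' : u ∉ zpowers z) :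
    (Nat.card (centralizer ({u} : Set G))).factorization 3 = 2 := by
  have : Fact (Nat.Prime 3) := ⟨Nat.prime_three⟩
  have h := (E.isSylowIn_inf hu hu').card_eq
  rw [E.card_inf hu hu'] at h
  exact (Nat.pow_right_injective (by norm_num : 2 ≤ 3) h).symm

theorem nilp {u : G} (hu : u ∈ P) (hu' : u ∉ zpowers z) :
    HasNormalPComplement 3 (centralizer ({u} : Set G)) := by
  have : Fact (Nat.Prime 3) := ⟨Nat.prime_three⟩
  refine (E.isSylowIn_inf hu hu').hasNormalPComplement_of_le_centralizer fun g hg =>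
    E.mem_centralizer_inf hu hu' (mem_centralizer_singleton_iff.1 hg.1) ?_
  have := E.weak (conj_mem_of_mem_normalizer hg.2 (E.sup_le hu (mem_sup_right (mem_zpowers z)))).1
  exact mul_inv_eq_iff_eq_mul.1 this

/-- The normalizer controls fusion. -/
theorem fus {u g : G} (hu : u ∈ P) (hg : g * u * g⁻¹ ∈ P) :
    ∃ n ∈ normalizer (P : Set G), n * u * n⁻¹ = g * u * g⁻¹ := by
  have : Fact (Nat.Prime 3) := ⟨Nat.prime_three⟩
  by_cases hu' : u ∈ zpowers z
  · refine ⟨1, one_mem _, ?_⟩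
    rcases E.mem_Z.1 hu' with rfl | rfl | rfl
    · simp
    · simp [E.weak hg]
    · have := E.weak (g := g) (by simpa [mul_assoc] using P.inv_mem hg)
      rw [← conj_inv (a := z) (b := g), this]; simp
  set v := g * u * g⁻¹ with hv
  have hv' : v ∉ zpowers z := fun h => E.not_isConj hu hu' h (isConj_iff.2 ⟨g, rfl⟩).symm
  have h1 := (E.isSylowIn_inf hu hu').conj g
  rw [conj_smul_centralizer_singleton] at h1
  obtain ⟨c, hc, h2⟩ := h1.exists_conj_eq (E.isSylowIn_inf hg hv')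
  rw [conj_smul_conj_smul] at h2
  set h := c * g with hh
  have h3 : h * u * h⁻¹ = v := by
    have := mem_centralizer_singleton_iff.1 hc
    rw [hh, show c * g * u * (c * g)⁻¹ = c * v * c⁻¹ by rw [hv]; group, this, mul_inv_cancel_right]
  have h4 : h * z * h⁻¹ = z := E.weak (h2.le (conj_mem_conj_smul.2
    (E.sup_le hu (mem_sup_right (mem_zpowers z))))).1
  have h4' : Commute h z := mul_inv_eq_iff_eq_mul.1 h4
  let K : Subgroup G :=
    { carrier := {k | Commute k z ∧ ∃ w ∈ zpowers z, k * v * k⁻¹ = v * w}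
      one_mem' := ⟨Commute.one_left z, 1, one_mem _, by simp⟩
      mul_mem' := by
        rintro a b ⟨ha, w, hw, e⟩ ⟨hb, w', hw', e'⟩
        refine ⟨ha.mul_left hb, w * w', mul_mem hw hw', ?_⟩
        calc _ = a * (b * v * b⁻¹) * a⁻¹ := by group
          _ = a * v * a⁻¹ * (a * w' * a⁻¹) := by rw [e']; group
          _ = _ := by rw [e, (E.comm' ha hw').eq]; group
      inv_mem' := by
        rintro a ⟨ha, w, hw, e⟩
        refine ⟨ha.inv_left, w⁻¹, inv_mem hw, ?_⟩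
        calc _ = a⁻¹ * (v * w) * a * (a⁻¹ * (w⁻¹ * a)) := by group
          _ = _ := by rw [← e, ← (E.comm' ha hw).inv_right.eq]; group }
  have hK : ∀ x y, x ∈ P → y ∈ P → ∃ w ∈ zpowers z, x * y * x⁻¹ = y * w := fun x y hx hy =>
    ⟨_, E.der x hx y hy, by rw [(E.comm' (E.comm hy) (E.der x hx y hy)).eq]; group⟩
  have h5 : IsSylowIn 3 P K := E.syl.of_le (fun x hx => ⟨E.comm hx, hK x v hx hg⟩) le_top
  have h6 : IsSylowIn 3 (MulAut.conj h • P) K :=
    (E.syl.conj_of_mem (mem_top h)).of_le (conj_smul_le_iff.2 fun x hx => by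
      obtain ⟨w, hw, e⟩ := hK x u hx hu
      refine ⟨(h4'.mul_left (E.comm hx)).mul_left h4'.inv_left, w, hw, ?_⟩
      rw [← h3]
      calc _ = h * (x * u * x⁻¹) * h⁻¹ := by group
        _ = h * u * h⁻¹ * (h * w * h⁻¹) := by rw [e]; group
        _ = _ := by rw [(E.comm' h4' hw).eq]; group) le_top
  obtain ⟨k, ⟨-, w, hw, hk⟩, h7⟩ := h6.exists_conj_eq h5
  rw [conj_smul_conj_smul, conj_smul_eq_iff_mem_normalizer] at h7
  obtain ⟨y, hy, h8⟩ := E.exists_conj hg hv' hw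
  refine ⟨y⁻¹ * (k * h), mul_mem (inv_mem (le_normalizer hy)) h7, ?_⟩
  calc _ = y⁻¹ * (k * (h * u * h⁻¹) * k⁻¹) * y := by group
    _ = _ := by rw [h3, hk, ← h8]; group

theorem mem_sup_of_conj {u n w : G} (hu : u ∈ P) (hu' : u ∉ zpowers z)
    (hn : n ∈ normalizer (P : Set G)) (hw : w ∈ zpowers z) (h : n * u * n⁻¹ = u * w) :
    n ∈ P ⊔ centralizer (P : Set G) := by
  have : Fact (Nat.Prime 3) := ⟨Nat.prime_three⟩
  obtain ⟨y, hy, h1⟩ := E.exists_conj hu hu' hw
  set m := y⁻¹ * n with hm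
  have hmN : m ∈ normalizer (P : Set G) := mul_mem (inv_mem (le_normalizer hy)) hn
  have hmu : Commute m u := by
    rw [Commute, SemiconjBy, ← mul_inv_eq_iff_eq_mul]
    calc _ = y⁻¹ * (n * u * n⁻¹) * y := by rw [hm]; group
      _ = _ := by rw [h, ← h1]; group
  rw [show n = y * (pPart 3 m * pRegPart 3 m) by rw [pPart_mul_pRegPart, hm]; group]
  refine mul_mem (mem_sup_left hy) (mul_mem (mem_sup_left (E.syl.mem_of_mem_normalizer
    (isPElt_pPart 3 m) (mem_top _) (pPart_mem 3 hmN))) (mem_sup_right fun x hx => ?_))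
  set s := pRegPart 3 m with hs
  have hsN : s ∈ normalizer (P : Set G) := pRegPart_mem 3 hmN
  have hsu : Commute s u := commute_pRegPart_left 3 hmu
  have hsz := E.norm s hsN
  set a := s * x * s⁻¹ * x⁻¹ with ha
  have haP : a ∈ P := mul_mem (conj_mem_of_mem_normalizer hsN hx) (inv_mem hx)
  have hau : a ∈ centralizer ({u} : Set G) := by
    have h2 := E.der x⁻¹ (inv_mem hx) u hu
    have h3 := (E.comm' hsz h2).eq
    rw [mem_centralizer_singleton_iff, ← mul_inv_eq_iff_eq_mul, ha]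
    have h4 : s⁻¹ * (x⁻¹ * u * x) * s = x⁻¹ * u * x := by
      calc _ = s⁻¹ * (x⁻¹ * u * x⁻¹⁻¹ * u⁻¹ * s) * (s⁻¹ * (u * s)) := by group
        _ = _ := by rw [← h3, ← hsu.eq]; group
    calc _ = s * x * (s⁻¹ * (x⁻¹ * u * x) * s) * x⁻¹ * s⁻¹ := by group
      _ = s * u * s⁻¹ := by rw [h4]; group
      _ = _ := by rw [hsu.eq]; group
  have hsa : a * s = s * a := E.mem_centralizer_inf hu hu' hsu hsz a ⟨haP, hau⟩
  have hpow : ∀ k : ℕ, s ^ k * x * (s ^ k)⁻¹ = a ^ k * x := by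
    intro k
    induction k with
    | zero => simp
    | succ k ih =>
      have h5 : s * a ^ k = a ^ k * s := ((show Commute a s from hsa).pow_left k).symm.eq
      calc _ = s * (s ^ k * x * (s ^ k)⁻¹) * s⁻¹ := by group
        _ = (s * a ^ k) * x * s⁻¹ := by rw [ih]; group
        _ = _ := by rw [h5, pow_succ, mul_assoc (a ^ k) a, ha]; group
  have h6 := hpow (orderOf s)
  rw [pow_orderOf_eq_one, inv_one, one_mul, mul_one, eq_comm, mul_eq_right] at h6
  have h7 : a = 1 := (E.isPElt haP).eq_one_of_isPRegular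
    (isPRegular_of_pow_eq_one (not_dvd_orderOf_pRegPart 3 m) h6)
  rw [ha, mul_inv_eq_one, mul_inv_eq_iff_eq_mul] at h7
  exact h7.symm

theorem sup_le_normalizer : P ⊔ centralizer (P : Set G) ≤ normalizer (P : Set G) :=
  _root_.sup_le le_normalizer (centralizer_le_normalizer _)

theorem ncard_class {u : G} (hu : u ∈ P) (hu' : u ∉ zpowers z) :
    {v | v ∈ P ∧ IsConj u v}.ncard =
      3 * (P ⊔ centralizer (P : Set G)).relIndex (normalizer (P : Set G)) := by
  have h1 : {v | v ∈ P ∧ IsConj u v} = {v | ∃ t ∈ normalizer (P : Set G), t * u * t⁻¹ = v} := by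
    ext v
    refine ⟨fun ⟨hv, h⟩ => ?_, ?_⟩
    · obtain ⟨g, rfl⟩ := isConj_iff.1 h
      exact E.fus hu hv
    · rintro ⟨t, ht, rfl⟩
      exact ⟨conj_mem_of_mem_normalizer ht hu, isConj_iff.2 ⟨t, rfl⟩⟩
  have h2 : {v | ∃ t ∈ P ⊔ centralizer (P : Set G), t * u * t⁻¹ = v} =
      {v | ∃ t ∈ P, t * u * t⁻¹ = v} := by
    ext v
    refine ⟨?_, fun ⟨t, ht, h⟩ => ⟨t, mem_sup_left ht, h⟩⟩
    rintro ⟨t, ht, rfl⟩
    obtain ⟨y, hy, c, hc, rfl⟩ := (mem_sup_of_le_normalizer_right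
      (le_normalizer.trans (normalizer_le_normalizer_centralizer P))).1 ht
    exact ⟨y, hy, by rw [mul_assoc y c, ← hc u hu]; group⟩
  have h3 := card_inf_mul_relIndex (centralizer ({u} : Set G)) P
  rw [inf_comm, E.card_inf hu hu', E.card, ← ncard_conj_orbit, ← h2, ncard_conj_orbit] at h3
  have h4 : centralizer ({u} : Set G) ⊓ normalizer (P : Set G) =
      centralizer ({u} : Set G) ⊓ (P ⊔ centralizer (P : Set G)) :=
    le_antisymm (fun n hn => ⟨hn.1, E.mem_sup_of_conj hu hu' hn.2 (one_mem _) (by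
      rw [mem_centralizer_singleton_iff.1 hn.1]; group)⟩) (inf_le_inf_left _ E.sup_le_normalizer)
  rw [h1, ncard_conj_orbit, ← inf_relIndex_right, h4, ← relIndex_mul_relIndex _ _ _ inf_le_right
    E.sup_le_normalizer, inf_relIndex_right]
  congr 1
  omega

theorem exists_inv
    (he : 2 ∣ (P ⊔ centralizer (P : Set G)).relIndex (normalizer (P : Set G))) {u : G}
    (hu : u ∈ P) (hu' : u ∉ zpowers z) : IsConj u u⁻¹ := by
  have : Fact (Nat.Prime 2) := ⟨Nat.prime_two⟩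
  set D := P ⊔ centralizer (P : Set G) with hD
  have hn : (D.subgroupOf (normalizer (P : Set G))).Normal :=
    normal_subgroupOf_of_le_normalizer ((le_inf le_rfl (normalizer_le_normalizer_centralizer P)).trans
      (normalizer_inf_normalizer_le_normalizer_sup _ _))
  obtain ⟨q, hq⟩ := exists_prime_orderOf_dvd_card'
    (G := normalizer (P : Set G) ⧸ D.subgroupOf (normalizer (P : Set G))) 2 he
  obtain ⟨t, rfl⟩ := QuotientGroup.mk_surjective q
  have h1 : (t : G) ∉ D := fun h => by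
    rw [(QuotientGroup.eq_one_iff t).2 h, orderOf_one] at hq; omega
  have h2 : (t : G) * t ∈ D := by
    have := pow_orderOf_eq_one (t : normalizer (P : Set G) ⧸ D.subgroupOf (normalizer (P : Set G)))
    rw [hq, pow_two, ← QuotientGroup.mk_mul, QuotientGroup.eq_one_iff] at this
    exact this
  obtain ⟨y, hy, c, hc, h3⟩ := (mem_sup_of_le_normalizer_right
    (le_normalizer.trans (normalizer_le_normalizer_centralizer P))).1 h2
  have hv : t * u * (t : G)⁻¹ ∈ P := conj_mem_of_mem_normalizer t.2 hu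
  set v := t * u * (t : G)⁻¹ with hv'
  have h4 : u * v ∈ zpowers z := by
    by_contra h4
    refine h1 (E.mem_sup_of_conj (mul_mem hu hv) h4 t.2 (mul_mem (E.der v⁻¹ (inv_mem hv) u⁻¹
      (inv_mem hu)) (E.der u⁻¹ (inv_mem hu) y hy)) ?_)
    calc _ = v * ((t * t) * u * (t * t : G)⁻¹) := by rw [hv']; group
      _ = v * (y * (c * u) * c⁻¹ * y⁻¹) := by rw [← h3]; group
      _ = _ := by rw [← hc u hu]; group
  obtain ⟨x, hx, h5⟩ := E.exists_conj (inv_mem hu) (fun h => hu' (by simpa using h)) h4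
  exact (isConj_iff.2 ⟨t, rfl⟩ : IsConj u v).trans (isConj_iff.2 ⟨x, by rw [h5]; group⟩).symm

theorem exists_reps : ∃ U : Finset G, (∀ u ∈ U, u ∈ P ∧ u ∉ zpowers z) ∧
    (∀ u ∈ U, ∀ v ∈ U, IsConj u v → u = v) ∧
    (∀ g ∈ P, g ∉ zpowers z → ∃ u ∈ U, ∃ n ∈ normalizer (P : Set G), n * g * n⁻¹ = u) ∧
    U.card * (P ⊔ centralizer (P : Set G)).relIndex (normalizer (P : Set G)) = 8 := by
  classical
  have := Fintype.ofFinite G
  let S : Finset G := Finset.univ.filter fun g => g ∈ P ∧ g ∉ zpowers z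
  have hS : S.card = 24 := by
    have h1 : (Finset.univ.filter fun g => g ∈ P).card = 27 := by
      rw [← E.card, Nat.card_eq_fintype_card, Fintype.card_subtype]
    have h2 : (Finset.univ.filter fun g => g ∈ zpowers z).card = 3 := by
      rw [← E.orderOf_z, ← Nat.card_zpowers, Nat.card_eq_fintype_card, Fintype.card_subtype]
    have h3 : S = (Finset.univ.filter fun g => g ∈ P) \ Finset.univ.filter fun g => g ∈ zpowers z := by
      ext g; simp [S]
    rw [h3, Finset.card_sdiff_of_subset fun g hg => by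
      simp only [Finset.mem_filter, Finset.mem_univ, true_and] at hg ⊢; exact E.Z_le hg, h1, h2]
  have hf : ∀ c : ConjClasses G, ∃ g, (∃ x ∈ S, ConjClasses.mk x = c) →
      g ∈ S ∧ ConjClasses.mk g = c := fun c => by
    by_cases h : ∃ x ∈ S, ConjClasses.mk x = c
    · obtain ⟨x, hx⟩ := h; exact ⟨x, fun _ => hx⟩
    · exact ⟨1, fun h' => (h h').elim⟩
  choose f hf using hf
  let r : G → G := fun g => f (ConjClasses.mk g)
  have hr : ∀ g ∈ S, r g ∈ S ∧ IsConj g (r g) := fun g hg =>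
    ⟨(hf _ ⟨g, hg, rfl⟩).1, ConjClasses.mk_eq_mk_iff_isConj.1 (hf _ ⟨g, hg, rfl⟩).2.symm⟩
  have hr' : ∀ g h, IsConj g h → r g = r h := fun g h e => by
    simp only [r, ConjClasses.mk_eq_mk_iff_isConj.2 e]
  have hmem : ∀ g, g ∈ S ↔ g ∈ P ∧ g ∉ zpowers z := fun g => by simp [S]
  refine ⟨S.image r, fun u hu => ?_, fun u hu v hv h => ?_, fun g hg hg' => ?_, ?_⟩
  · obtain ⟨g, hg, rfl⟩ := Finset.mem_image.1 hu
    exact (hmem _).1 (hr g hg).1
  · obtain ⟨g, hg, rfl⟩ := Finset.mem_image.1 hu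
    obtain ⟨g', hg', rfl⟩ := Finset.mem_image.1 hv
    exact hr' _ _ ((hr g hg).2.trans (h.trans (hr g' hg').2.symm))
  · have h1 := hr g ((hmem g).2 ⟨hg, hg'⟩)
    obtain ⟨c, hc⟩ := isConj_iff.1 h1.2
    obtain ⟨n, hn, h2⟩ := E.fus hg (g := c) (hc ▸ ((hmem _).1 h1.1).1)
    exact ⟨r g, Finset.mem_image_of_mem r ((hmem g).2 ⟨hg, hg'⟩), n, hn, h2.trans hc⟩
  · have h1 := Finset.card_eq_sum_card_image r S
    rw [Finset.sum_congr rfl (g := fun _ =>
      3 * (P ⊔ centralizer (P : Set G)).relIndex (normalizer (P : Set G))), hS,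
      Finset.sum_const, smul_eq_mul] at h1
    · linarith
    intro u hu
    obtain ⟨g, hg, rfl⟩ := Finset.mem_image.1 hu
    obtain ⟨h2, h3⟩ := (hmem _).1 (hr g hg).1
    rw [← E.ncard_class h2 h3, ← Set.ncard_coe_finset]
    congr 1
    ext v
    simp only [Finset.coe_filter, Set.mem_ofPred_eq]
    refine ⟨fun ⟨h4, h5⟩ => ⟨((hmem v).1 h4).1, h5 ▸ (hr v h4).2.symm⟩, fun ⟨h4, h5⟩ => ⟨(hmem v).2
      ⟨h4, fun h => E.not_isConj h2 h3 h h5.symm⟩, hr' _ _ ((hr g hg).2.trans h5).symm⟩⟩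

theorem hasNormalPComplement
    (he : (P ⊔ centralizer (P : Set G)).relIndex (normalizer (P : Set G)) = 1) :
    HasNormalPComplement 3 G := by
  have : Fact (Nat.Prime 3) := ⟨Nat.prime_three⟩
  refine hasNormalPComplement_of_controls_fusion E.syl.toSylowTop fun x hx g hg => ?_
  obtain ⟨n, hn, h⟩ := E.fus hx hg
  obtain ⟨y, hy, c, hc, rfl⟩ := (mem_sup_of_le_normalizer_right
    (le_normalizer.trans (normalizer_le_normalizer_centralizer P))).1 (relIndex_eq_one.1 he hn)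
  exact ⟨y, hy, by rw [← h, mul_assoc y c, ← hc x hx]; group⟩

end Ex27

end GT
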