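import Cfsg.Agent.Lib.Grp.PPart
import Cfsg.Agent.Lib.Grp.SylowIn
import Cfsg.Agent.Lib.Grp.Core

/-!
# The Baer–Suzuki theorem (proof of Alperin and Lyons)
-/

set_option autoImplicit false
set_option linter.unusedSectionVars false

namespace GT

open Cfsg Subgroup
open scoped Pointwise

variable {G : Type*} [Group G] [Finite G] {p : ℕ} [hp : Fact p.Prime]

/-- If the normal subset `K` meets the `p`-group `P` in more than it meets `D ≤ P`, some element
of `K ∩ P` outside `D` normalizes the set `K ∩ D`. -/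
theorem exists_mem_normalizing_inter {K : Set G} (hK : ∀ g, ∀ x ∈ K, g * x * g⁻¹ ∈ K)
    {P D : Subgroup G} (hP : IsPGroup p P) (hDP : D ≤ P) {y : G} (hyK : y ∈ K) (hyP : y ∈ P)
    (hyD : y ∉ D) :
    ∃ x ∈ K, x ∈ P ∧ x ∉ D ∧ ∀ z ∈ K, z ∈ D → x * z * x⁻¹ ∈ D := by
  let S : Set (Subgroup G) := {H | D ≤ H ∧ H ≤ P ∧ ∀ z ∈ K, z ∈ H → z ∈ D}
  obtain ⟨H, hH, hmax⟩ := (Set.toFinite S).exists_maximal ⟨D, le_rfl, hDP, fun _ _ h => h⟩
  obtain ⟨hDH, hHP, hHK⟩ := hH
  have hlt : H < P := lt_of_le_of_ne hHP fun e => hyD (hHK y hyK (e ▸ hyP))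
  have hlt' := lt_inf_normalizer_of_lt hP hlt
  by_contra hne
  push Not at hne
  apply hlt'.not_ge
  apply hmax ⟨hDH.trans hlt'.le, inf_le_left, ?_⟩ hlt'.le
  intro z hzK hz
  by_contra hzD
  obtain ⟨w, hwK, hwD, hw⟩ := hne z hzK hz.1 hzD
  exact hw (hHK _ (hK z w hwK) (conj_mem_of_mem_normalizer hz.2 (hDH hwD)))

/-- **Baer–Suzuki**, for a normal subset. -/
theorem subset_pCore_of_forall_isPGroup_closure {K : Set G} (hK : ∀ g, ∀ x ∈ K, g * x * g⁻¹ ∈ K)
    (h : ∀ x ∈ K, ∀ y ∈ K, IsPGroup p (closure ({x, y} : Set G))) : K ⊆ pCore p G := by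
  classical
  have key : ∀ P Q : Sylow p G, K ∩ (P : Subgroup G) = K ∩ (Q : Subgroup G) := by
    by_contra hne
    let S : Set (Sylow p G × Sylow p G) :=
      {PQ | K ∩ (PQ.1 : Subgroup G) ≠ K ∩ (PQ.2 : Subgroup G)}
    have hS : S.Nonempty := by
      push Not at hne
      obtain ⟨P, Q, hPQ⟩ := hne
      exact ⟨(P, Q), hPQ⟩
    let f : Sylow p G × Sylow p G → ℕ := fun PQ =>
      (K ∩ ((PQ.1 : Subgroup G) ⊓ (PQ.2 : Subgroup G) : Subgroup G)).ncard
    obtain ⟨⟨P, Q⟩, hPQ, hmax⟩ := Set.exists_max_image S f (Set.toFinite S) hS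
    have hcard : ∀ A B : Sylow p G,
        (K ∩ (A : Subgroup G)).ncard ≤ (K ∩ (B : Subgroup G)).ncard := by
      intro A B
      obtain ⟨g, hg⟩ := (isSylowIn_sylow A).exists_conj_eq (isSylowIn_sylow B)
      refine Set.ncard_le_ncard_of_injOn (fun x => g * x * g⁻¹) ?_ ?_ (Set.toFinite _)
      · rintro x ⟨hx1, hx2⟩
        refine ⟨hK g x hx1, ?_⟩
        rw [← hg.2]
        exact conj_mem_conj_smul.2 hx2
      · intro a _ b _ hab
        simpa using hab
    have hnot : ∀ A B : Sylow p G, K ∩ (A : Subgroup G) ≠ K ∩ (B : Subgroup G) →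
        ∃ y ∈ K, y ∈ (A : Subgroup G) ∧ y ∉ (B : Subgroup G) := by
      intro A B hAB
      by_contra hc
      push Not at hc
      exact hAB (Set.eq_of_subset_of_ncard_le (fun y hy => ⟨hy.1, hc y hy.1 hy.2⟩) (hcard B A)
        (Set.toFinite _))
    let I : Subgroup G := (P : Subgroup G) ⊓ (Q : Subgroup G)
    let D : Subgroup G := closure (K ∩ I)
    have hDI : D ≤ I := (closure_le _).2 Set.inter_subset_right
    have hnorm : ∀ x : G, (∀ z ∈ K, z ∈ I → x * z * x⁻¹ ∈ I) → x ∈ normalizer (D : Set G) := by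
      intro x hx
      apply mem_normalizer_of_conj_mem
      intro d hd
      induction hd using closure_induction with
      | mem z hz => exact subset_closure ⟨hK x z hz.1, hx z hz.1 hz.2⟩
      | one => simp
      | mul a b _ _ ha hb =>
        have : x * (a * b) * x⁻¹ = (x * a * x⁻¹) * (x * b * x⁻¹) := by group
        rw [this]; exact D.mul_mem ha hb
      | inv a _ ha =>
        have : x * a⁻¹ * x⁻¹ = (x * a * x⁻¹)⁻¹ := by group
        rw [this]; exact D.inv_mem ha
    obtain ⟨y1, hy1K, hy1P, hy1Q⟩ := hnot P Q hPQ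
    obtain ⟨y2, hy2K, hy2Q, hy2P⟩ := hnot Q P (Ne.symm hPQ)
    obtain ⟨x, hxK, hxP, hxI, hx⟩ := exists_mem_normalizing_inter hK P.isPGroup'
      (inf_le_left : I ≤ P) hy1K hy1P (fun h => hy1Q h.2)
    obtain ⟨y, hyK, hyQ, hyI, hy⟩ := exists_mem_normalizing_inter hK Q.isPGroup'
      (inf_le_right : I ≤ Q) hy2K hy2Q (fun h => hy2P h.1)
    have hxy : closure ({x, y} : Set G) ≤ normalizer (D : Set G) := by
      rw [closure_le]
      rintro z (rfl | rfl)
      · exact hnorm _ hx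
      · exact hnorm _ hy
    have hDp : IsPGroup p D := P.isPGroup'.to_le (hDI.trans inf_le_left)
    have hT : IsPGroup p (closure ({x, y} : Set G) ⊔ D : Subgroup G) :=
      IsPGroup.to_sup_of_normal_right' (h x hxK y hyK) hDp hxy
    obtain ⟨R, hR⟩ := hT.exists_le_sylow
    have hxR : x ∈ (R : Subgroup G) := hR (mem_sup_left (subset_closure (by simp)))
    have hyR : y ∈ (R : Subgroup G) := hR (mem_sup_left (subset_closure (by simp)))
    have hDR : D ≤ (R : Subgroup G) := le_sup_right.trans hR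
    have step : ∀ (A : Sylow p G) (w : G), I ≤ A → w ∈ K → w ∈ (A : Subgroup G) →
        w ∈ (R : Subgroup G) → w ∉ I → K ∩ (A : Subgroup G) = K ∩ (R : Subgroup G) := by
      intro A w hIA hwK hwA hwR hwI
      by_contra hAR
      have h1 := hmax (A, R) hAR
      apply h1.not_gt
      apply Set.ncard_lt_ncard _ (Set.toFinite _)
      refine ⟨fun z hz => ⟨hz.1, hIA hz.2, hDR (subset_closure hz)⟩, fun hsub => ?_⟩
      exact hwI (hsub ⟨hwK, hwA, hwR⟩).2
    exact hPQ ((step P x inf_le_left hxK hxP hxR hxI).trans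
      (step Q y inf_le_right hyK hyQ hyR hyI).symm)
  intro x hx
  have hxp : IsPElt p x := isPElt_of_mem (h x hx x hx) (subset_closure (by simp))
  obtain ⟨P, hP⟩ := hxp.exists_mem_sylow
  rw [pCore_eq_iInf_sylow]
  refine mem_iInf.2 fun Q => ?_
  have : x ∈ K ∩ (P : Subgroup G) := ⟨hx, hP⟩
  rw [key P Q] at this
  exact this.2

/-- **Baer–Suzuki**. -/
theorem mem_pCore_of_forall_isPGroup_closure {x : G}
    (h : ∀ g : G, IsPGroup p (closure ({x, g * x * g⁻¹} : Set G))) : x ∈ pCore p G := by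
  refine subset_pCore_of_forall_isPGroup_closure (K := {y | ∃ g : G, g * x * g⁻¹ = y}) ?_ ?_
    ⟨1, by simp⟩
  · rintro g _ ⟨c, rfl⟩
    exact ⟨g * c, by group⟩
  · rintro _ ⟨a, rfl⟩ _ ⟨b, rfl⟩
    refine (isPGroup_conj_smul a (h (a⁻¹ * b))).to_le ?_
    rw [closure_le]
    rintro z (rfl | rfl)
    · exact conj_mem_conj_smul.2 (subset_closure (by simp))
    · refine mem_conj_smul.2 (subset_closure ?_)
      right
      simp only [Set.mem_singleton_iff]
      group

/-- An involution outside `O₂(G)` inverts a nontrivial element of odd order. -/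
theorem exists_odd_inverted {t : G} (ht : t ^ 2 = 1) (h : t ∉ pCore 2 G) :
    ∃ d : G, d ≠ 1 ∧ IsPRegular 2 d ∧ t * d * t⁻¹ = d⁻¹ := by
  by_contra hne
  push Not at hne
  apply h
  apply mem_pCore_of_forall_isPGroup_closure
  intro g
  set s := g * t * g⁻¹ with hs
  have htt : t * t = 1 := by rw [← sq, ht]
  have hti : t⁻¹ = t := inv_eq_of_mul_eq_one_right htt
  have hss : s * s = 1 := by
    calc s * s = g * (t * t) * g⁻¹ := by rw [hs]; group
      _ = 1 := by rw [htt]; group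
  have hsi : s⁻¹ = s := inv_eq_of_mul_eq_one_right hss
  have hinv : t * (t * s) * t⁻¹ = (t * s)⁻¹ := by
    rw [mul_inv_rev, hsi, ← mul_assoc, htt, one_mul]
  have hts : IsPElt 2 (t * s) := by
    rw [← pRegPart_eq_one_iff]
    by_contra h1
    apply hne _ h1 (isPRegular_pRegPart 2 _)
    rw [← pRegPart_conj, hinv, pRegPart_inv]
  have hnorm : zpowers t ≤ normalizer (zpowers (t * s) : Set G) := by
    rw [zpowers_le]
    apply mem_normalizer_of_conj_mem
    rintro _ ⟨k, rfl⟩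
    refine ⟨-k, ?_⟩
    simp only
    rw [← conj_zpow, hinv, inv_zpow']
  have hp1 : IsPGroup 2 (zpowers t) := (isPElt_of_pow_eq_one (k := 1) (by simpa using ht)).isPGroup_zpowers
  refine (IsPGroup.to_sup_of_normal_right' hp1 hts.isPGroup_zpowers hnorm).to_le ?_
  rw [closure_le]
  rintro z (rfl | rfl)
  · exact mem_sup_left (mem_zpowers _)
  · have : s = t * (t * s) := by rw [← mul_assoc, htt, one_mul]
    have h2 : t * (t * s) ∈ zpowers t ⊔ zpowers (t * s) :=
      mul_mem (mem_sup_left (mem_zpowers _)) (mem_sup_right (mem_zpowers _))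
    rwa [← this] at h2

end GT
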