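import Cfsg.Agent.Lib.Grp.Ord32B
import Mathlib.GroupTheory.FixedPointFree

/-!
# Automizers of maximal subgroups with automorphisms of odd order in small fusion systems
-/

set_option autoImplicit false
set_option linter.unusedSectionVars false

namespace GT

open Cfsg Subgroup
open scoped Pointwise

universe u

variable {G : Type*} [Group G] [Finite G]

theorem card_modEq_fixedBy {φ : MulAut G} {r k : ℕ} (hr : r.Prime) (h : φ ^ r ^ k = 1) :
    Nat.card G ≡ Nat.card (MulAction.fixedBy G φ) [MOD r] := by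
  have := Fact.mk hr
  have h1 := (isPElt_of_pow_eq_one h).isPGroup_zpowers.card_modEq_card_fixedPoints G
  rwa [show MulAction.fixedPoints (zpowers φ) G = MulAction.fixedBy G φ from Set.ext fun g =>
    ⟨fun h => h ⟨φ, mem_zpowers φ⟩, fun h ψ =>
      zpowers_le.2 (show φ ∈ MulAction.stabilizer (MulAut G) g from h) ψ.2⟩] at h1

theorem card_conj_modEq {W : Subgroup G} {t : G} {r k : ℕ} (hr : r.Prime)
    (ht : t ∈ normalizer (W : Set G)) (h : ∀ w ∈ W, w * t ^ r ^ k = t ^ r ^ k * w) :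
    Nat.card W ≡ Nat.card ↥(W ⊓ centralizer {t}) [MOD r] := by
  have h1 := card_modEq_fixedBy (φ := W.normalizerMonoidHom ⟨t, ht⟩) (k := k) hr (by
    rw [← map_pow]
    ext w
    change t ^ r ^ k * w * (t ^ r ^ k)⁻¹ = w
    rw [← h w w.2, mul_inv_cancel_right])
  have h2 : Nat.card (MulAction.fixedBy W (W.normalizerMonoidHom ⟨t, ht⟩)) =
      Nat.card ((centralizer {t}).subgroupOf W) :=
    Nat.card_congr (Equiv.subtypeEquivRight fun w => by
      rw [mem_subgroupOf, mem_centralizer_singleton_iff, eq_comm, ← mul_inv_eq_iff_eq_mul]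
      exact Subtype.ext_iff)
  rwa [h2, card_subgroupOf, inf_comm] at h1

/-- A group of order nine does not act faithfully on a `2`-group of order at most `16` with
nontrivial fixed points. -/
theorem not_nine_fix (hG : IsPGroup 2 G) (h16 : Nat.card G ≤ 16) {z : G} (hz : z ≠ 1)
    {E : Subgroup (MulAut G)} (h9 : Nat.card E = 9) (h : ∀ φ ∈ E, φ z = z) : False := by
  classical
  have := Fintype.ofFinite E
  have := Fintype.ofFinite G
  have := Fintype.ofFinite (Quotient (MulAction.orbitRel E G))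
  obtain ⟨n, hn⟩ := hG.exists_card_eq
  have hn4 : n ≤ 4 := (Nat.pow_le_pow_iff_right one_lt_two).1 (hn ▸ h16)
  have h1 : ∀ φ : E, φ ≠ 1 → (n = 3 ∨ n = 4) ∧
      4 * Fintype.card (MulAction.fixedBy G φ) = 2 ^ n := fun φ hφ => by
    have h2 := card_modEq_fixedBy (φ := (φ : MulAut G)) (k := 2) Nat.prime_three (by
      rw [← coe_pow, show 3 ^ 2 = Nat.card E from h9.symm, pow_card_eq_one', coe_one])
    let F : Subgroup G := (φ : MulAut G).toMonoidHom.eqLocus (MonoidHom.id G)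
    have h3 : Nat.card (MulAction.fixedBy G (φ : MulAut G)) = Nat.card F := rfl
    have h4 : Fintype.card (MulAction.fixedBy G φ) = Nat.card F := Nat.card_eq_fintype_card.symm
    have h5 : Nat.card F < Nat.card G := card_lt_of_ne_top fun e => hφ (Subtype.ext
      (MulEquiv.ext fun g => (show g ∈ F from e ▸ mem_top g)))
    have h6 : 1 < Nat.card F := by
      rw [Finite.one_lt_card_iff_nontrivial, nontrivial_iff_exists_ne_one]
      exact ⟨z, h φ φ.2, hz⟩
    obtain ⟨m, hm⟩ := (hG.to_subgroup F).exists_card_eq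
    rw [h3, hn, hm] at h2
    rw [hn, hm] at h5
    rw [h4, hm]
    rw [hm] at h6
    have h7 := (Nat.pow_lt_pow_iff_right one_lt_two).1 h5
    interval_cases n <;> interval_cases m <;> simp_all (config := { decide := true })
  have h2 := MulAction.sum_card_fixedBy_eq_card_orbits_mul_card_group E G
  rw [← Nat.card_eq_fintype_card (α := E), h9] at h2
  have h3 := congrArg (4 * ·) h2
  obtain ⟨φ, hφ⟩ : ∃ φ : E, φ ≠ 1 := by
    have : Nontrivial E := Finite.one_lt_card_iff_nontrivial.1 (by omega)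
    exact exists_ne 1
  simp only [Finset.mul_sum] at h3
  rw [← Finset.add_sum_erase _ _ (Finset.mem_univ 1), Finset.sum_congr rfl fun ψ hψ =>
    (h1 ψ (Finset.ne_of_mem_erase hψ)).2, Finset.sum_const, Finset.card_erase_of_mem
    (Finset.mem_univ _), Finset.card_univ, ← Nat.card_eq_fintype_card (α := E), h9] at h3
  simp only [MulAction.fixedBy_one_eq_univ, Fintype.card_setUniv, ← Nat.card_eq_fintype_card
    (α := G), hn, smul_eq_mul] at h3
  rcases (h1 φ hφ).1 with rfl | rfl <;> omega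

theorem le_normalizer_of_sq_mem {P N : Subgroup G} (hN : N ≤ P) (h : ∀ u ∈ P, u * u ∈ N) :
    P ≤ normalizer (N : Set G) := fun g hg => mem_normalizer_of_conj_mem fun n hn => by
  rw [show g * n * g⁻¹ = g * n * (g * n) * n⁻¹ * (g * g)⁻¹ by group]
  exact mul_mem (mul_mem (h _ (mul_mem hg (hN hn))) (inv_mem hn)) (inv_mem (h g hg))

theorem card_sup_zpowers_le {C : Subgroup G} {t : G} (h1 : t ∈ normalizer (C : Set G))
    (h2 : t * t ∈ C) : Nat.card ↥(C ⊔ zpowers t) ≤ 2 * Nat.card C :=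
  (idx_sup_zpowers h1 h2).card_le

theorem card_le_four_mul_of_closure {P N : Subgroup G} {g h : G} (hP : closure {g, h} = P)
    (hN : N ≤ P) (hs : ∀ u ∈ P, u * u ∈ N) : Nat.card P ≤ 4 * Nat.card N := by
  have hg : g ∈ P := hP ▸ subset_closure (by simp)
  have hh : h ∈ P := hP ▸ subset_closure (by simp)
  have h1 := card_sup_zpowers_le (le_normalizer_of_sq_mem hN hs hg) (hs g hg)
  have h2 := card_sup_zpowers_le (C := N ⊔ zpowers g) (le_normalizer_of_sq_mem
    (sup_le hN (zpowers_le.2 hg)) (fun u hu => mem_sup_left (hs u hu)) hh) (mem_sup_left (hs h hh))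
  have h3 : P ≤ N ⊔ zpowers g ⊔ zpowers h := by
    rw [← hP, closure_le, Set.insert_subset_iff, Set.singleton_subset_iff]
    exact ⟨mem_sup_left (mem_sup_right (mem_zpowers g)), mem_sup_right (mem_zpowers h)⟩
  have := card_le_of_le h3
  omega

theorem exists_idx_ge {R P : Subgroup G} (hP : IsPGroup 2 P) (h : R < P) :
    ∃ M, R ≤ M ∧ M < P ∧ ∀ u ∈ P, u * u ∈ M := by
  obtain ⟨M, h1, h2, h3⟩ := exists_relIndex_eq_of_lt hP h
  have h4 := card_mul_relIndex h2
  obtain ⟨y, -, hy⟩ := exists_idx_of_card_le h2 (by rw [← h4, h3, mul_comm])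
  refine ⟨M, h1, lt_of_le_of_ne h2 fun e => ?_, fun u hu => hy.sq_mem hu⟩
  rw [e, relIndex_self] at h3
  omega

theorem card_eq_two_pow {W : Subgroup G} (hW : IsPGroup 2 W) (h : Nat.card W ≤ 64) :
    Nat.card W = 1 ∨ Nat.card W = 2 ∨ Nat.card W = 4 ∨ Nat.card W = 8 ∨ Nat.card W = 16 ∨
      Nat.card W = 32 ∨ Nat.card W = 64 := by
  obtain ⟨n, hn⟩ := hW.exists_card_eq
  have : n ≤ 6 := (Nat.pow_le_pow_iff_right one_lt_two).1 (hn ▸ h)
  interval_cases n <;> simp [hn]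

/-- A `2`-group with an element whose centralizer has order at most four has a cyclic subgroup of
index at most two. -/
theorem exists_orderOf_of_card_centralizer_le {P : Type u} [Group P] [Finite P]
    (hP : IsPGroup 2 P) {b : P} (hb : Nat.card (centralizer ({b} : Set P)) ≤ 4) :
    ∃ u : P, Nat.card P ≤ 2 * orderOf u := by
  refine induction_on_card (P := fun P _ _ => IsPGroup 2 P → ∀ {b : P},
    Nat.card (centralizer ({b} : Set P)) ≤ 4 → ∃ u : P, Nat.card P ≤ 2 * orderOf u)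
    (fun P _ _ ih hP b hb => ?_) P hP hb
  by_cases h1 : Nat.card P ≤ 2
  · exact ⟨1, by simpa⟩
  by_cases h2 : Nat.card P ≤ 4
  · have : Nontrivial P := Finite.one_lt_card_iff_nontrivial.1 (by omega)
    obtain ⟨u, hu⟩ := exists_ne (1 : P)
    have := orderOf_pos u
    have := orderOf_eq_one_iff.not.2 hu
    exact ⟨u, by omega⟩
  have hbc : b ∉ center P := fun e => by rw [ccard_of_mem_center e] at hb; omega
  by_cases h3 : Nat.card P ≤ 8
  · obtain ⟨u, hu⟩ := exists_sq_ne_one (P := P) fun e => hbc (by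
      rw [mem_center_iff]
      intro g
      have := conj_mul_inv_mem_commutator g b
      rwa [e, mem_bot, mul_inv_eq_one, mul_inv_eq_iff_eq_mul] at this)
    have := four_le_orderOf hP hu
    exact ⟨u, by omega⟩
  have : Nontrivial P := Finite.one_lt_card_iff_nontrivial.1 (by omega)
  obtain ⟨ζ, hζ, hζ1, hζ2⟩ := exists_mem_pow_eq_one (p := 2)
    (dvd_card_of_isPGroup_of_ne_bot (hP.to_subgroup (center P))
      ((center P).nontrivial_iff_ne_bot.1 hP.center_nontrivial))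
  rw [pow_two] at hζ2
  have hZ : zpowers ζ ≤ center P := zpowers_le.2 hζ
  have hcZ : Nat.card (zpowers ζ) = 2 := by
    rw [Nat.card_zpowers, orderOf_eq_two_of_mul_self hζ2 hζ1]
  have : (zpowers ζ).Normal := ⟨fun n hn g => by
    rw [mem_center_iff.1 (hZ hn) g, mul_inv_cancel_right]; exact hn⟩
  let π := QuotientGroup.mk' (zpowers ζ)
  have hπ : ∀ {g h : P}, π g = π h → g = h ∨ g = h * ζ := fun {g h} e => by
    rcases (mem_zpowers_of_mul_self hζ2).1 (QuotientGroup.eq.1 e.symm) with e | e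
    · exact Or.inl (inv_mul_eq_one.1 e).symm
    · exact Or.inr (inv_mul_eq_iff_eq_mul.1 e)
  have hc := card_eq_card_quotient_mul_card_subgroup (zpowers ζ)
  rw [hcZ] at hc
  obtain ⟨ū, hu⟩ := ih (P ⧸ zpowers ζ) (by omega) (hP.to_quotient _) (b := π b) (by
    have h4 : Nat.card ((centralizer {π b}).comap π) = _ :=
      card_comap_mk' (zpowers ζ) (centralizer {π b})
    rw [hcZ] at h4
    have h5 : ∀ g ∈ (centralizer {π b}).comap π, g * b * g⁻¹ = b ∨ g * b * g⁻¹ = b * ζ :=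
      fun g hg => hπ (by
        rw [map_mul, map_mul, mem_centralizer_singleton_iff.1 hg, map_inv, mul_inv_cancel_right])
    have h6 : Nat.card ((centralizer {π b}).comap π) ≤ 2 * Nat.card (centralizer ({b} : Set P)) := by
      by_cases h7 : (centralizer {π b}).comap π ≤ centralizer {b}
      · have := card_le_of_le h7
        omega
      obtain ⟨y, hy, hy'⟩ := SetLike.not_le_iff_exists.1 h7
      refine Idx.card_le (y := y) fun g hg => or_iff_not_imp_left.2 fun hg' => ?_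
      rw [mem_centralizer_singleton_iff, ← mul_inv_eq_iff_eq_mul] at hy' hg' ⊢
      have h8 := (h5 y⁻¹ (inv_mem hy)).resolve_left fun e => hy' (by
        conv_lhs => rw [← e]
        group)
      calc g * y⁻¹ * b * (g * y⁻¹)⁻¹ = g * (y⁻¹ * b * y⁻¹⁻¹) * g⁻¹ := by group
        _ = g * b * g⁻¹ * ζ := by rw [h8, mul_assoc (g * b), mem_center_iff.1 hζ g⁻¹]; group
        _ = b := by rw [(h5 g hg).resolve_left hg', mul_assoc, hζ2, mul_one]
    omega)
  obtain ⟨u, rfl⟩ := QuotientGroup.mk'_surjective _ ū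
  change _ ≤ 2 * orderOf (π u) at hu
  have h4 := card_map_mul_card_inf_ker π (zpowers u)
  rw [MonoidHom.map_zpowers, Nat.card_zpowers, Nat.card_zpowers, QuotientGroup.ker_mk'] at h4
  by_cases h5 : ζ ∈ zpowers u
  · rw [inf_eq_left.2 (zpowers_le.2 h5), hcZ] at h4
    exact ⟨u, by omega⟩
  exfalso
  have h6 : orderOf (π u) ≤ orderOf u := Nat.le_of_dvd (orderOf_pos u) (orderOf_map_dvd π u)
  have h7 := two_mul_card_le_of_lt (left_lt_sup.2 (mt zpowers_le.1 h5))
  rw [Nat.card_zpowers] at h7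
  have huζ : Commute u ζ := mem_center_iff.1 hζ u
  have hA := normal_of_card_le_two_mul (H := zpowers u ⊔ zpowers ζ) (by omega)
  have hbA : b ∉ zpowers u ⊔ zpowers ζ := fun e => by
    have : zpowers u ⊔ zpowers ζ ≤ centralizer {b} := by
      obtain ⟨i, j, rfl⟩ := (mem_sup_zpowers_of_commute huζ).1 e
      rw [sup_le_iff, zpowers_le, zpowers_le, mem_centralizer_singleton_iff,
        mem_centralizer_singleton_iff]
      exact ⟨((Commute.refl u).zpow_right i).mul_right (huζ.zpow_right j),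
        (huζ.symm.zpow_right i).mul_right ((Commute.refl ζ).zpow_right j)⟩
    have := card_le_of_le this
    omega
  obtain ⟨s, hs, hs2, hs1⟩ := exists_mul_self_mem_zpowers (isPElt_of_isPGroup hP (u * u))
    fun e => by
      have := Nat.le_of_dvd two_pos (orderOf_dvd_of_pow_eq_one ((pow_two u).trans e))
      omega
  have hsu : s ∈ zpowers u := zpowers_le.2 (mul_mem (mem_zpowers u) (mem_zpowers u)) hs
  have h8 : b * (u * u) * b⁻¹ ∈ zpowers u := by
    rw [← conj_mul]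
    obtain ⟨i, h | h⟩ := (mem_sup_zpowers_of_mul_self huζ hζ2).1
      (hA.conj_mem u (mem_sup_left (mem_zpowers u)) b) <;> rw [h]
    · exact mul_mem (zpow_mem_zpowers u i) (zpow_mem_zpowers u i)
    · rw [mul_assoc, ← mul_assoc ζ, ← mem_center_iff.1 hζ, mul_assoc, hζ2, mul_one]
      exact mul_mem (zpow_mem_zpowers u i) (zpow_mem_zpowers u i)
  have h9 : b * s * b⁻¹ = s := by
    refine (eq_of_mul_self_of_mem_zpowers hsu ?_ hs2 hs1 (by rw [conj_mul, hs2]; group)).resolve_left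
      (by simpa using hs1)
    obtain ⟨i, rfl⟩ := mem_zpowers_iff.1 hs
    rw [← conj_zpow]
    exact zpow_mem h8 i
  have h10 : zpowers ζ < zpowers ζ ⊔ zpowers s := left_lt_sup.2 fun e =>
    ((mem_zpowers_of_mul_self hζ2).1 (zpowers_le.1 e)).elim hs1 fun e => h5 (e ▸ hsu)
  have h11 : zpowers ζ ⊔ zpowers s < centralizer {b} := by
    refine lt_of_le_of_ne (sup_le (hZ.trans (center_le_centralizer _)) (zpowers_le.2 ?_))
      fun e => hbA ?_
    · rw [mem_centralizer_singleton_iff, eq_comm, ← mul_inv_eq_iff_eq_mul, h9]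
    · exact sup_le le_sup_right ((zpowers_le.2 hsu).trans le_sup_left)
        (e.ge (mem_centralizer_singleton_iff.2 rfl))
  have := two_mul_card_le_of_lt h10
  have := card_lt_of_lt h11
  omega

/-- `t` induces an automorphism of odd prime order `r` on the `2`-group `Q`. -/
structure PAct (Q : Subgroup G) (t : G) (r : ℕ) : Prop where
  pg : IsPGroup 2 Q
  prime : r.Prime
  reg : IsPRegular 2 t
  norm : t ∈ normalizer (Q : Set G)
  ne : t ∉ centralizer (Q : Set G)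
  pow : t ^ r ∈ centralizer (Q : Set G)

theorem forall_mem_zpowers_of_mul {t : G} {Φ : G → Prop} (h1 : Φ 1)
    (h : ∀ a ∈ zpowers t, Φ a → Φ (t * a)) : ∀ a ∈ zpowers t, Φ a := fun a ha => by
  obtain ⟨n, rfl⟩ := mem_powers_iff_mem_zpowers.2 ha
  induction n with
  | zero => simpa
  | succ n ih =>
    have h2 : t ^ n ∈ zpowers t := pow_mem (mem_zpowers t) n
    simpa only [pow_succ'] using h _ h2 (ih h2)

namespace PAct

variable {Q U W : Subgroup G} {t : G} {r : ℕ} (h : PAct Q t r)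
include h

theorem modEq (hW : W ≤ Q) (ht : t ∈ normalizer (W : Set G)) :
    Nat.card W ≡ Nat.card ↥(W ⊓ centralizer {t}) [MOD r] :=
  card_conj_modEq (k := 1) h.prime ht fun w hw => by rw [pow_one]; exact h.pow w (hW hw)

theorem cop (hW : W ≤ Q) (ht : t ∈ normalizer (W : Set G)) : CoprimeAct (zpowers t) W :=
  coprimeAct_zpowers ht ((h.pg.to_le hW).coprime_card h.reg)

theorem conj_mem {q : G} (hq : q ∈ Q) : t * q * t⁻¹ ∈ Q := conj_mem_of_mem_normalizer h.norm hq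

theorem ne_two : r ≠ 2 := fun e => h.ne fun q hq => by
  have h1 := h.pow q hq
  rw [e] at h1
  refine (mul_inv_eq_iff_eq_mul.1 (conj_eq_of_sq_conj_eq h.reg ?_)).symm
  calc t * (t * q * t⁻¹) * t⁻¹ = t ^ 2 * q * (t ^ 2)⁻¹ := by rw [pow_two]; group
    _ = q := by rw [← h1, mul_inv_cancel_right]

theorem fix_lt : Q ⊓ centralizer {t} < Q :=
  lt_of_le_of_ne inf_le_left fun e => h.ne fun _ hq => mem_centralizer_singleton_iff.1 (e.ge hq).2

theorem norm_fix : t ∈ normalizer ((Q ⊓ centralizer {t} : Subgroup G) : Set G) :=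
  mem_normalizer_of_conj_mem fun q hq => by
    rwa [← mem_centralizer_singleton_iff.1 hq.2, mul_inv_cancel_right]

theorem mem_of_comm_mem (hU : U ≤ Q) (ht : t ∈ normalizer (U : Set G))
    (hF : Q ⊓ centralizer {t} ≤ U) {g : G} (hg : g ∈ Q) (h1 : g⁻¹ * (t * g * t⁻¹) ∈ U) :
    g ∈ U := by
  obtain ⟨u, hu, h2⟩ := (h.cop hU ht).exists_mul_mem_centralizer (x := g)
    (forall_mem_zpowers_of_mul (by simp) fun a _ ha => by
      rw [show g⁻¹ * (t * a * g * (t * a)⁻¹) =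
        g⁻¹ * (t * g * t⁻¹) * (t * (g⁻¹ * (a * g * a⁻¹)) * t⁻¹) by group]
      exact mul_mem h1 (conj_mem_of_mem_normalizer ht ha))
  rw [centralizer_zpowers] at h2
  exact (U.mul_mem_cancel_right hu).1 (hF ⟨mul_mem hg (hU hu), h2⟩)

theorem exists_conj_fix {u k : G} (hu : u ∈ Q) (hk : k ∈ Q) (h1 : t * u * t⁻¹ = k * u * k⁻¹) :
    ∃ g ∈ Q, g * u * g⁻¹ ∈ Q ⊓ centralizer {t} := by
  obtain ⟨g, hg, h2⟩ := (h.cop le_rfl h.norm).exists_conj_mem_centralizer (x := u)
    (forall_mem_zpowers_of_mul (Φ := fun a => ∃ g ∈ Q, a * u * a⁻¹ = g * u * g⁻¹) ⟨1, one_mem _, rfl⟩ fun a _ ⟨g, hg, ha⟩ =>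
      ⟨t * g * t⁻¹ * k, mul_mem (h.conj_mem hg) hk, by
        calc t * a * u * (t * a)⁻¹ = t * (a * u * a⁻¹) * t⁻¹ := by group
          _ = t * g * t⁻¹ * (t * u * t⁻¹) * (t * g * t⁻¹)⁻¹ := by rw [ha]; group
          _ = _ := by rw [h1]; group⟩)
  rw [centralizer_zpowers] at h2
  exact ⟨g, hg, Q.mul_mem (Q.mul_mem hg hu) (Q.inv_mem hg), h2⟩

theorem sq_mem_of_min (hU : U < Q) (ht : t ∈ normalizer (U : Set G))
    (hmin : ∀ W, U ≤ W → W < Q → t ∈ normalizer (W : Set G) → W ≤ U) :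
    ∀ q ∈ Q, q * q ∈ U := fun q hq => by
  have h1 : U ⊔ (frattini Q).map Q.subtype ≤ Q := sup_le hU.le (map_subtype_le _)
  refine hmin _ le_sup_left (lt_of_le_of_ne h1 fun e => hU.ne (eq_of_sup_map_frattini hU.le le_rfl
    e.ge)) (zpowers_le.1 (le_normalizer_sup (zpowers_le.2 ht) (zpowers_le.2
      (normalizer_le_normalizer_map_subtype Q _ h.norm)))) (mem_sup_right ?_)
  exact ⟨_, pow_mem_frattini h.pg ⟨q, hq⟩, pow_two q⟩

end PAct

theorem mem_centralizer_of_mem_sup {Q : Subgroup G} (hQ : IsPGroup 2 Q) {t : G}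
    (ht : IsPRegular 2 t) (h : t ∈ Q ⊔ centralizer (Q : Set G)) : t ∈ centralizer (Q : Set G) := by
  obtain ⟨q, hq, c, hc, rfl⟩ := (mem_sup_of_le_normalizer_right
    (le_normalizer.trans (normalizer_le_normalizer_centralizer Q))).1 h
  have h1 : q * c ∈ normalizer (Q : Set G) :=
    mul_mem (le_normalizer hq) (centralizer_le_normalizer _ hc)
  have h2 : Q.normalizerMonoidHom ⟨q * c, h1⟩ = Q.normalizerMonoidHom ⟨q, le_normalizer hq⟩ := by
    ext w
    change q * c * w * (q * c)⁻¹ = q * w * q⁻¹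
    rw [mul_assoc q, ← hc w w.2]; group
  have h3 : Q.normalizerMonoidHom ⟨q * c, h1⟩ = 1 := IsPElt.eq_one_of_isPRegular
    (h2 ▸ ((isPElt_mk _).2 (isPElt_of_mem hQ hq)).map _) (((isPRegular_mk h1).2 ht).map _)
  rw [← MonoidHom.mem_ker, normalizerMonoidHom_ker] at h3
  exact h3

/-- A fully normalized subgroup `Q` which is maximal among the subgroups with a nontrivial
automorphism of odd order; `N` induces the automizer. -/
structure Ess (P Q N : Subgroup G) : Prop where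
  pg : IsPGroup 2 P
  le : Q ≤ P
  cN : centralizer (Q : Set G) ≤ N
  Nn : N ≤ normalizer (Q : Set G)
  dN : P ⊓ normalizer (Q : Set G) ≤ N
  odd : ¬ 2 ∣ ((P ⊓ normalizer (Q : Set G)) ⊔ centralizer (Q : Set G)).relIndex N
  ex : ∃ t ∈ N, IsPRegular 2 t ∧ t ∉ centralizer (Q : Set G)
  max : ∀ t ∈ N, IsPRegular 2 t → t ∉ centralizer (Q : Set G) → ∀ K : Subgroup G,
    Q ⊔ centralizer (Q : Set G) ≤ K → K ≤ (P ⊓ normalizer (Q : Set G)) ⊔ centralizer (Q : Set G) →
      t ∈ normalizer (K : Set G) → P ⊓ K ≤ Q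

namespace Ess

variable {P Q N : Subgroup G} (h : Ess P Q N)
include h

theorem qD : Q ≤ P ⊓ normalizer (Q : Set G) := le_inf h.le le_normalizer

theorem sup_le_N : Q ⊔ centralizer (Q : Set G) ≤ N := sup_le (h.qD.trans h.dN) h.cN

theorem le_norm : N ≤ normalizer ((Q ⊔ centralizer (Q : Set G) : Subgroup G) : Set G) :=
  le_normalizer_sup h.Nn (le_normalizer_centralizer h.Nn)

theorem inf_sup_le : P ⊓ (Q ⊔ centralizer (Q : Set G)) ≤ Q := by
  obtain ⟨t, h1, h2, h3⟩ := h.ex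
  exact h.max t h1 h2 h3 _ le_rfl (sup_le_sup_right h.qD _) (h.le_norm h1)

theorem centric : P ⊓ centralizer (Q : Set G) ≤ Q :=
  (inf_le_inf_left _ le_sup_right).trans h.inf_sup_le

theorem eq_one_of_mem_normalizer {X : Type*} [Group X] [Finite X] {π : N →* X}
    (hπ : Function.Surjective π) (hk : π.ker = (Q ⊔ centralizer (Q : Set G)).subgroupOf N)
    {U : Subgroup X} (hU : IsPGroup 2 U) (hU1 : U ≠ ⊥) {τ : X} (hτ : IsPRegular 2 τ)
    (h1 : τ ∈ normalizer (U : Set X)) : τ = 1 := by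
  have hS1 : (((P ⊓ normalizer (Q : Set G)) ⊔ centralizer (Q : Set G)).subgroupOf N).map π ≤
      ((P ⊓ normalizer (Q : Set G)).subgroupOf N).map π := by
    rintro _ ⟨n, hn, rfl⟩
    obtain ⟨d, hd, c, hc, h2⟩ := (mem_sup_of_le_normalizer_right
      (inf_le_right.trans (normalizer_le_normalizer_centralizer Q))).1 hn
    refine ⟨⟨d, h.dN hd⟩, hd, ?_⟩
    rw [show n = ⟨d, h.dN hd⟩ * ⟨c, h.cN hc⟩ from Subtype.ext h2.symm, map_mul,
      show π ⟨c, h.cN hc⟩ = 1 from hk.ge (mem_sup_right hc), mul_one]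
  have hS : IsSylowIn 2 (((P ⊓ normalizer (Q : Set G)).subgroupOf N).map π) ⊤ :=
    isSylowIn_top_iff'.2 ⟨((h.pg.to_le inf_le_left).comap_subtype).map π, fun e =>
      h.odd ((e.trans (index_dvd_of_le hS1)).trans (index_map_dvd _ hπ))⟩
  obtain ⟨g, -, hg⟩ := hS.exists_conj_le hU le_top
  suffices H : g * τ * g⁻¹ = 1 by simpa using H
  replace h1 : g * τ * g⁻¹ ∈ normalizer ((MulAut.conj g • U : Subgroup X) : Set X) := by
    rw [← conj_smul_normalizer]; exact conj_mem_conj_smul.2 h1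
  replace hU1 := mt (conj_smul_eq_bot_iff (g := g)).1 hU1
  obtain ⟨t, ht, ht'⟩ := (hτ.conj g).exists_lift hπ
  rw [← ht'] at h1 ⊢
  generalize MulAut.conj g • U = V at hg h1 hU1
  by_contra h2
  have h3 := h.max t t.2 (isPRegular_coe.2 ht) (fun e => h2 (hk.ge (mem_sup_right e)))
    ((V.comap π).map N.subtype) (fun x hx => ⟨⟨x, h.sup_le_N hx⟩, by
      rw [SetLike.mem_coe, mem_comap, show π ⟨x, h.sup_le_N hx⟩ = 1 from hk.ge hx]
      exact one_mem _, rfl⟩) (by
      rintro _ ⟨n, hn, rfl⟩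
      obtain ⟨d, hd, h4⟩ := hg hn
      have h5 : d⁻¹ * n ∈ π.ker := by rw [MonoidHom.mem_ker, map_mul, map_inv, h4, inv_mul_cancel]
      rw [hk] at h5
      have := mul_mem (mem_sup_left (mem_subgroupOf.1 hd)) (sup_le_sup_right h.qD _ h5)
      simpa using this) (mem_normalizer_of_conj_mem (by
      rintro _ ⟨n, hn, rfl⟩
      refine ⟨t * n * t⁻¹, ?_, rfl⟩
      rw [SetLike.mem_coe, mem_comap, map_mul, map_mul, map_inv]
      exact conj_mem_of_mem_normalizer h1 hn))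
  refine hU1 (eq_bot_iff.2 fun v hv => ?_)
  obtain ⟨d, hd, rfl⟩ := hg hv
  exact hk.ge (mem_sup_left (h3 ⟨hd.1, d, hv, rfl⟩))

theorem exists_pAct (h64 : Nat.card P ≤ 64) {z : G} (hzP : z ∈ P) (hz : z ∈ center G)
    (hz1 : z ≠ 1) : ∃ t r, PAct Q t r ∧ (Q = P ∨ ∃ x ∈ P, x ∉ Q ∧ x ∈ normalizer (Q : Set G) ∧
      x * x ∈ Q ∧ x * t * x⁻¹ * t ∈ centralizer (Q : Set G) ∧
        (r = 3 → Idx (P ⊓ normalizer (Q : Set G)) Q x)) := by
  have hQ := h.pg.to_le h.le
  have : ((Q ⊔ centralizer (Q : Set G)).subgroupOf N).Normal :=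
    (normal_subgroupOf_iff_le_normalizer h.sup_le_N).2 h.le_norm
  obtain ⟨X, _, _, π, hπ, hk⟩ : ∃ (X : Type _) (_ : Group X) (_ : Finite X) (π : N →* X),
      Function.Surjective π ∧ π.ker = (Q ⊔ centralizer (Q : Set G)).subgroupOf N :=
    ⟨_, inferInstance, inferInstance, QuotientGroup.mk' _, QuotientGroup.mk'_surjective _,
      QuotientGroup.ker_mk' _⟩
  have hk' : ∀ {n : N}, π n = 1 ↔ (n : G) ∈ Q ⊔ centralizer (Q : Set G) := fun {n} => by
    rw [← MonoidHom.mem_ker, hk, mem_subgroupOf]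
  have H0 : ∀ {σ τ : X}, IsPElt 2 σ → σ ≠ 1 → IsPRegular 2 τ → σ * τ * σ⁻¹ = τ → τ = 1 :=
    fun {σ τ} h1 h2 h3 h4 => h.eq_one_of_mem_normalizer hπ hk h1.isPGroup_zpowers
      (zpowers_ne_bot.2 h2) h3 (centralizer_le_normalizer _ (by
        rw [centralizer_zpowers, mem_centralizer_singleton_iff, eq_comm,
          ← mul_inv_eq_iff_eq_mul, h4]))
  have hX : HasNormalPComplement 2 X :=
    hasNormalPComplement_iff_forall_mem_centralizer.2 fun U hU τ h1 h2 => by
      by_cases h3 : U = ⊥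
      · intro u hu
        rw [h3, SetLike.mem_coe, mem_bot] at hu
        rw [hu, one_mul, mul_one]
      · rw [h.eq_one_of_mem_normalizer hπ hk hU h3 h2 h1]; exact one_mem _
  have hO := hasNormalPComplement_iff_forall_mem.1 hX
  obtain ⟨t₀, h1, h2, h3⟩ := h.ex
  have h4 : orderOf (π ⟨t₀, h1⟩) ≠ 1 := fun e =>
    h3 (mem_centralizer_of_mem_sup hQ h2 (hk'.1 (orderOf_eq_one_iff.1 e)))
  obtain ⟨r, hr, j, hj⟩ := Nat.exists_prime_and_dvd h4
  have hj0 : j ≠ 0 := fun e => (orderOf_pos (π ⟨t₀, h1⟩)).ne' (by rw [hj, e, mul_zero])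
  obtain ⟨t, ht, hτ⟩ : ∃ t : N, IsPRegular 2 (t : G) ∧ orderOf (π t) = r :=
    ⟨⟨t₀, h1⟩ ^ j, h2.pow j, by
      rw [map_pow, orderOf_pow_of_dvd hj0 (hj ▸ Dvd.intro_left _ rfl), hj,
        Nat.mul_div_cancel _ (Nat.pos_of_ne_zero hj0)]⟩
  have hτ1 : π t ≠ 1 := fun e => hr.ne_one (by rw [← hτ, e, orderOf_one])
  have hτr : IsPRegular 2 (π t) := (isPRegular_coe.1 ht).map π
  refine ⟨t, r, ⟨hQ, hr, ht, h.Nn t.2, fun e => hτ1 (hk'.2 (mem_sup_right e)),
    mem_centralizer_of_mem_sup hQ (ht.pow r) ((hk' (n := t ^ r)).1 ?_)⟩, ?_⟩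
  · rw [map_pow, ← hτ, pow_orderOf_eq_one]
  refine or_iff_not_imp_left.2 fun hQP => ?_
  obtain ⟨M, hM1, hM2, hM3⟩ := exists_relIndex_eq_of_lt' (h.pg.to_le inf_le_left)
    (lt_inf_normalizer_of_lt h.pg (lt_of_le_of_ne h.le hQP))
  obtain ⟨x₀, hx1, hx2⟩ := SetLike.not_le_iff_exists.1 (show ¬ M ≤ Q from fun e => by
    rw [relIndex_eq_one.2 e] at hM3; omega)
  obtain ⟨_, -, hx3⟩ := exists_idx_of_card_le hM1 (by rw [← card_mul_relIndex hM1, hM3, mul_comm])
  have hne : ∀ {y : G} (hy : y ∈ P ⊓ normalizer (Q : Set G)), y ∉ Q → π ⟨y, h.dN hy⟩ ≠ 1 :=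
    fun hy hy' e => hy' (h.inf_sup_le ⟨hy.1, hk'.1 e⟩)
  have hpe : ∀ {y : G} (hy : y ∈ P ⊓ normalizer (Q : Set G)), IsPElt 2 (π ⟨y, h.dN hy⟩) :=
    fun hy => ((isPElt_mk _).2 (isPElt_of_mem h.pg hy.1)).map π
  set σ := π ⟨x₀, h.dN (hM2 hx1)⟩ with hσ
  have hfpf : MonoidHom.FixedPointFree (MulAut.conjNormal σ : MulAut (pPrimeCore 2 X)) :=
    fun o ho => Subtype.ext (H0 (hpe (hM2 hx1)) (hne (hM2 hx1) hx2)
      (isPRegular_of_mem (not_dvd_card_pPrimeCore 2 X) o.2) (congrArg Subtype.val ho))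
  have hinv : Function.Involutive (MulAut.conjNormal σ : MulAut (pPrimeCore 2 X)) := fun o => by
    rw [← MulAut.mul_apply, ← map_mul, ← map_mul, hk'.2 (mem_sup_left (hx3.sq_mem hx1)), map_one,
      MulAut.one_apply]
  have hστ : σ * π t * σ⁻¹ = (π t)⁻¹ :=
    congrArg Subtype.val (congrFun (hfpf.coe_eq_inv_of_involutive hinv) ⟨π t, hO _ hτr⟩)
  have hx4 : x₀ * t * x₀⁻¹ ∈ normalizer (Q : Set G) :=
    mul_mem (mul_mem (hM2 hx1).2 (h.Nn t.2)) (inv_mem (hM2 hx1).2)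
  obtain ⟨q, hq, h5⟩ := (coprimeAct_zpowers hx4 (hQ.coprime_card (ht.conj x₀))).exists_le_conj
    (S := zpowers (t : G) ⊔ centralizer (Q : Set G)) fun a ha => by
      obtain ⟨i, rfl⟩ := mem_zpowers_iff.1 ha
      obtain ⟨q, hq, c, hc, h5⟩ := (mem_sup_of_le_normalizer_right
        (le_normalizer.trans (normalizer_le_normalizer_centralizer Q))).1
        ((hk' (n := (⟨x₀, h.dN (hM2 hx1)⟩ * t * (⟨x₀, h.dN (hM2 hx1)⟩ : N)⁻¹) ^ i * t ^ i)).1 (by
          rw [map_mul, map_zpow, map_zpow, map_mul, map_mul, map_inv, hστ]; simp))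
      refine ⟨q, hq, ?_⟩
      rw [show q⁻¹ * (x₀ * t * x₀⁻¹) ^ i = c * ((t : G) ^ i)⁻¹ by
        rw [inv_mul_eq_iff_eq_mul, ← mul_assoc, h5, eq_mul_inv_iff_mul_eq]; rfl]
      exact mul_mem (mem_sup_right hc) (inv_mem (mem_sup_left (zpow_mem_zpowers _ i)))
  have hxD : q⁻¹ * x₀ ∈ P ⊓ normalizer (Q : Set G) := mul_mem (inv_mem (h.qD hq)) (hM2 hx1)
  have hxQ : q⁻¹ * x₀ ∉ Q := by rwa [Q.mul_mem_cancel_left (inv_mem hq)]
  have hxσ : π ⟨_, h.dN hxD⟩ = σ := by
    rw [show (⟨_, h.dN hxD⟩ : N) = ⟨q⁻¹, h.dN (inv_mem (h.qD hq))⟩ * ⟨x₀, h.dN (hM2 hx1)⟩ from rfl,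
      map_mul, hk'.2 (mem_sup_left (inv_mem hq)), one_mul]
  have hxx : q⁻¹ * x₀ * (q⁻¹ * x₀) ∈ Q := hx3.sq_mem (mul_mem (inv_mem (hM1 hq)) hx1)
  refine ⟨_, hxD.1, hxQ, hxD.2, hxx, ?_, fun h3 y hy => ?_⟩
  · obtain ⟨_, ⟨j, rfl⟩, c, hc, h6⟩ := (mem_sup_of_le_normalizer_right (zpowers_le.2
      (normalizer_le_normalizer_centralizer Q (h.Nn t.2)))).1 (mem_conj_smul.1 (h5 (mem_zpowers _)))
    have h7 : q⁻¹ * x₀ * t * (q⁻¹ * x₀)⁻¹ * t = (t : G) ^ (j + 1) * ((t : G)⁻¹ * c * t) := by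
      rw [show q⁻¹ * x₀ * t * (q⁻¹ * x₀)⁻¹ = q⁻¹ * (x₀ * t * x₀⁻¹) * q by group, ← h6]; group
    have h8 := inv_conj_mem_of_mem_normalizer
      (normalizer_le_normalizer_centralizer Q (h.Nn t.2)) hc
    have h9 := (hk' (n := ⟨_, h.dN hxD⟩ * t * (⟨_, h.dN hxD⟩ : N)⁻¹ * t)).1 (by
      rw [map_mul, map_mul, map_mul, map_inv, hxσ, hστ, inv_mul_cancel])
    change q⁻¹ * x₀ * t * (q⁻¹ * x₀)⁻¹ * t ∈ _ at h9
    rw [h7] at h9 ⊢
    exact mul_mem (mem_centralizer_of_mem_sup hQ (ht.zpow _)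
      ((mul_mem_cancel_right (mem_sup_right h8)).1 h9)) h8
  subst h3
  by_contra h6
  rw [not_or] at h6
  set η := π ⟨y, h.dN hy⟩ with hη
  by_cases h7 : η * π t * η⁻¹ ∈ zpowers (π t)
  · obtain ⟨i, hi, h8⟩ : ∃ i < 3, π t ^ i = η * π t * η⁻¹ := by
      obtain ⟨i, hi⟩ := mem_powers_iff_mem_zpowers.2 h7
      exact ⟨i % 3, Nat.mod_lt _ three_pos, by rw [← hτ, pow_mod_orderOf]; exact hi⟩
    have h9 : π t ^ 3 = 1 := hτ ▸ pow_orderOf_eq_one _
    interval_cases i
    · exact hτ1 (by simpa using h8.symm)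
    · exact hτ1 (H0 (hpe hy) (hne hy h6.1) hτr (by rw [← h8, pow_one]))
    · have hyx := mul_mem hy (inv_mem hxD)
      refine hτ1 (H0 (hpe hyx) (hne hyx h6.2) hτr ?_)
      rw [show (⟨_, h.dN hyx⟩ : N) = ⟨y, h.dN hy⟩ * (⟨_, h.dN hxD⟩ : N)⁻¹ from rfl, map_mul, map_inv,
        hxσ, ← hη]
      have h10 : σ⁻¹ * π t * σ = (π t)⁻¹ := by
        conv_lhs => rw [← inv_inv (π t), ← hστ]
        group
      calc η * σ⁻¹ * π t * (η * σ⁻¹)⁻¹ = η * (σ⁻¹ * π t * σ) * η⁻¹ := by group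
        _ = (η * π t * η⁻¹)⁻¹ := by rw [h10]; group
        _ = π t := by rw [← h8, inv_eq_iff_mul_eq_one, ← pow_succ, h9]
  have hc : Commute (π t) (η * π t * η⁻¹) := congrArg Subtype.val
    (hfpf.commute_all_of_involutive hinv ⟨_, hO _ hτr⟩ ⟨_, hO _ (hτr.conj η)⟩).eq
  have : Fact (Nat.Prime 3) := ⟨hr⟩
  have h9 : 3 ^ 2 ∣ Nat.card (Q.normalizerMonoidHom.comp (inclusion h.Nn)).range := by
    have h8 := card_sup_of_disjoint_of_le_normalizer (H := zpowers (η * π t * η⁻¹))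
      (N := zpowers (π t)) (zpowers_le.2 (centralizer_le_normalizer _ (by
        rw [centralizer_zpowers, mem_centralizer_singleton_iff]; exact hc.symm.eq)))
      (disjoint_zpowers_of_notMem (p := 3) (by
        rw [conj_pow, ← hτ, pow_orderOf_eq_one]; group) h7)
    rw [Nat.card_zpowers, Nat.card_zpowers, orderOf_conj', hτ] at h8
    rw [← index_ker]
    refine (h8 ▸ card_subgroup_dvd_card _).trans ?_
    rw [← Nat.card_congr (QuotientGroup.quotientKerEquivOfSurjective π hπ).toEquiv,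
      ← index_eq_card]
    refine index_dvd_of_le fun n hn => hk.ge (mem_sup_right ?_)
    rw [MonoidHom.mem_ker, MonoidHom.comp_apply, ← MonoidHom.mem_ker, normalizerMonoidHom_ker] at hn
    exact hn
  obtain ⟨E, hE⟩ := Sylow.exists_subgroup_card_pow_prime 3 h9
  have hzQ : z ∈ Q := h.centric ⟨hzP, center_le_centralizer _ hz⟩
  have h10 := two_mul_card_le_of_lt (left_lt_sup.2 (mt zpowers_le.1 hxQ))
  have h11 := two_mul_card_le_of_lt (lt_of_le_of_ne (sup_le h.qD (zpowers_le.2 hxD)) fun e =>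
    (idx_sup_zpowers hxD.2 hxx y (e ▸ hy)).elim h6.1 h6.2)
  have h12 := card_le_of_le (inf_le_left : P ⊓ normalizer (Q : Set G) ≤ P)
  refine not_nine_fix hQ (by omega) (z := ⟨z, hzQ⟩) (fun e => hz1 (congrArg Subtype.val e))
    (E := E.map (Subgroup.subtype _)) (by rw [card_map_of_injective (subtype_injective _), hE]; rfl) ?_
  rintro _ ⟨⟨_, n, rfl⟩, -, rfl⟩
  refine Subtype.ext ?_
  change n * z * (n : G)⁻¹ = z
  rw [mem_center_iff.1 hz, mul_inv_cancel_right]

end Ess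

end GT
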