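import Cfsg.Agent.Lib.Char.UnifCent
import Cfsg.Agent.Lib.Char.FrobSchur
import Cfsg.Agent.Lib.Grp.Coprime

/-!
# Groups with a self-centralizing element of prime order
-/

set_option autoImplicit false
set_option linter.unusedSectionVars false

namespace GT

open Cfsg Subgroup
open scoped Pointwise commutatorElement

variable {G : Type*} [Group G] [Finite G] {p : ℕ} [hp : Fact p.Prime]

/-- `x` has order `p` and is self-centralizing. -/
structure SelfCentP (p : ℕ) (x : G) : Prop where
  ord : orderOf x = p
  cent : centralizer ({x} : Set G) = zpowers x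

theorem card_filter_orderOf_eq_prime [Fintype G] :
    (Finset.univ.filter fun g : G => orderOf g = p).card =
      Nat.card {H : Subgroup G // Nat.card H = p} * (p - 1) := by
  classical
  have := Fintype.ofFinite (Subgroup G)
  rw [Finset.card_eq_sum_card_fiberwise (f := fun g : G => zpowers g)
    (t := Finset.univ.filter fun H : Subgroup G => Nat.card H = p)
    (fun g hg => by simpa [-Nat.card_eq_fintype_card, Nat.card_zpowers] using hg), Nat.subtype_card
      (Finset.univ.filter fun H : Subgroup G => Nat.card H = p) (by simp),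
    Finset.sum_congr rfl (g := fun _ => p - 1), Finset.sum_const, smul_eq_mul]
  intro H hH
  have hH : Nat.card H = p := (Finset.mem_filter.1 hH).2
  have h1 : ((Finset.univ.filter fun g : G => orderOf g = p).filter fun g => zpowers g = H) =
      (Finset.univ.filter fun g => g ∈ H).erase 1 := by
    ext g
    simp only [Finset.mem_filter, Finset.mem_univ, true_and, Finset.mem_erase]
    constructor
    · rintro ⟨h1, rfl⟩
      refine ⟨?_, mem_zpowers g⟩
      rintro rfl
      exact hp.out.one_lt.ne (by simpa using h1)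
    · rintro ⟨h1, h2⟩
      have h3 : orderOf g = p := by
        have : orderOf g ∣ p := hH ▸ H.orderOf_dvd_natCard h2
        rcases (Nat.dvd_prime hp.out).1 this with h | h
        · exact absurd (orderOf_eq_one_iff.1 h) h1
        · exact h
      exact ⟨h3, eq_of_le_of_card_ge (zpowers_le.2 h2) (by rw [Nat.card_zpowers, h3, hH])⟩
  rw [h1, Finset.card_erase_of_mem (by simp), ← hH, Nat.subtype_card
    (Finset.univ.filter fun g => g ∈ H) (by simp)]

namespace SelfCentP
variable {x : G} (S : SelfCentP p x)
include S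

theorem card_zp : Nat.card (zpowers x) = p := by rw [Nat.card_zpowers, S.ord]

theorem pgroup : IsPGroup p (zpowers x) := IsPGroup.of_card (n := 1) (by rw [S.card_zp, pow_one])

theorem ne_one : x ≠ 1 := fun h => hp.out.one_lt.ne (by rw [← S.ord, h, orderOf_one])

theorem cent' : centralizer (zpowers x : Set G) = zpowers x := by
  rw [centralizer_zpowers, S.cent]

theorem sylow : IsSylowIn p (zpowers x) ⊤ := by
  refine isSylowIn_of_maximal S.pgroup le_top fun Q hQ _ hle => ?_
  have h1 : Q ≠ ⊥ := fun h => S.ne_one (by simpa [h] using hle (mem_zpowers x))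
  have h2 := inf_centralizer_ne_bot_of_isPGroup hQ hQ h1 le_normalizer
  have h3 : Q ⊓ centralizer (Q : Set G) ≤ zpowers x :=
    inf_le_right.trans ((centralizer_anti hle).trans S.cent'.le)
  have h4 : Q ⊓ centralizer (Q : Set G) = zpowers x := by
    refine eq_of_le_of_card_ge h3 ?_
    have := card_dvd_of_le h3
    rw [S.card_zp] at this ⊢
    rcases (Nat.dvd_prime hp.out).1 this with h | h
    · exact absurd (card_eq_one.1 h) h2
    · exact h.ge
  refine le_antisymm ?_ hle
  rw [← S.cent', ← le_centralizer_iff, ← h4]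
  exact inf_le_right

theorem zpowers_eq {y : G} (hy : y ∈ zpowers x) (h1 : y ≠ 1) : zpowers y = zpowers x := by
  refine eq_of_le_of_card_ge (zpowers_le.2 hy) ?_
  have := card_dvd_of_le (zpowers_le.2 hy)
  rw [S.card_zp] at this ⊢
  rcases (Nat.dvd_prime hp.out).1 this with h | h
  · exact absurd (zpowers_eq_bot.1 (card_eq_one.1 h)) h1
  · exact h.ge

theorem unifCent : CT.UnifCent (zpowers x) := fun y hy h1 => by
  rw [← centralizer_zpowers, S.zpowers_eq hy h1]

theorem card_centralizer {g : G} (hg : orderOf g = p) :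
    Nat.card (centralizer ({g} : Set G)) = p := by
  obtain ⟨u, -, hu⟩ := S.sylow.exists_conj_mem (x := g) ⟨1, by rw [hg, pow_one]⟩ trivial
  have h1 : u * g * u⁻¹ ≠ 1 := fun h => hp.out.one_lt.ne (by
    rw [← hg, ← orderOf_conj' g u, h, orderOf_one])
  rw [← card_conj_smul u, conj_smul_centralizer_singleton, S.unifCent _ hu h1, S.cent', S.card_zp]

theorem card_subgroups : Nat.card {H : Subgroup G // Nat.card H = p} =
    (normalizer (zpowers x : Set G)).index := by
  have h1 : p ^ (Nat.card G).factorization p = p := by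
    rw [← card_top (G := G), ← S.sylow.card_eq, S.card_zp]
  refine Eq.trans ?_ S.sylow.toSylowTop.card_eq_index_normalizer
  refine Nat.card_congr (Equiv.ofBijective (fun Q : Sylow p G => ⟨Q, by
    rw [Q.card_eq_multiplicity, h1]⟩) ⟨fun Q R h => Sylow.ext (congrArg Subtype.val h), ?_⟩).symm
  rintro ⟨H, hH⟩
  exact ⟨Sylow.ofCard H (hH.trans h1.symm), rfl⟩

theorem classes_mul : Nat.card {C : ConjClasses G // ∃ g ∈ C.carrier, orderOf g = p} *
    (zpowers x).relIndex (normalizer (zpowers x : Set G)) = p - 1 := by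
  classical
  have := Fintype.ofFinite G
  have h1 := CT.sum_card_centralizer_filter (G := G) fun C => ∃ g ∈ C.carrier, orderOf g = p
  have h2 : ∀ g : G, (∃ h ∈ (ConjClasses.mk g).carrier, orderOf h = p) ↔ orderOf g = p := by
    intro g
    simp only [ConjClasses.mem_carrier_iff_mk_eq, ConjClasses.mk_eq_mk_iff_isConj]
    exact ⟨fun ⟨h, h1, h2⟩ => by rw [← orderOf_eq_of_isConj h1, h2], fun h => ⟨g, IsConj.refl g, h⟩⟩
  rw [Finset.sum_congr (s₂ := Finset.univ.filter fun g : G => orderOf g = p) (g := fun _ => p)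
    (by ext g; simp only [Finset.mem_filter, h2])
    (fun g hg => S.card_centralizer (Finset.mem_filter.1 hg).2), Finset.sum_const, smul_eq_mul,
    card_filter_orderOf_eq_prime, S.card_subgroups,
    ← (normalizer (zpowers x : Set G)).card_mul_index, ← card_mul_relIndex le_normalizer,
    S.card_zp] at h1
  have h3 := index_pos (normalizer (zpowers x : Set G))
  have h4 := hp.out.pos
  apply Nat.eq_of_mul_eq_mul_left (Nat.mul_pos h3 h4)
  linarith

theorem inf_normalizer_eq_bot {K : Subgroup G} [K.Normal] (hK : ¬ p ∣ Nat.card K) :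
    K ⊓ normalizer (zpowers x : Set G) = ⊥ := by
  rw [(coprimeAct_of_isPGroup_left (by simp [normalizer_eq_top]) S.pgroup hK).inf_normalizer_eq,
    S.cent']
  exact (disjoint_of_isPGroup_of_not_dvd S.pgroup hK).symm.eq_bot

theorem eq_commutator {K : Subgroup G} [K.Normal] (hK : ¬ p ∣ Nat.card K) :
    ⁅K, zpowers x⁆ = K := by
  have := (coprimeAct_of_isPGroup_left (G := K) (by simp [normalizer_eq_top]) S.pgroup
    hK).inf_centralizer_sup_commutator
  rwa [S.cent', (disjoint_of_isPGroup_of_not_dvd S.pgroup hK).symm.eq_bot, bot_sup_eq] at this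

theorem le_commutator {K : Subgroup G} [K.Normal] (hK : ¬ p ∣ Nat.card K) : K ≤ commutator G := by
  rw [← S.eq_commutator hK]
  exact commutator_mono le_top le_top

theorem commutator_normalizer_le :
    ⁅normalizer (zpowers x : Set G), normalizer (zpowers x : Set G)⁆ ≤ zpowers x := by
  rw [commutator_le]
  intro a ha b hb
  rw [← S.cent, mem_centralizer_singleton_iff]
  obtain ⟨i, hi⟩ := conj_mem_of_mem_normalizer ha (mem_zpowers x)
  obtain ⟨j, hj⟩ := conj_mem_of_mem_normalizer hb (mem_zpowers x)
  simp only at hi hj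
  have h1 : a * b * x * (a * b)⁻¹ = b * a * x * (b * a)⁻¹ := by
    calc a * b * x * (a * b)⁻¹ = a * (b * x * b⁻¹) * a⁻¹ := by group
      _ = (a * x * a⁻¹) ^ j := by rw [← hj, conj_zpow]
      _ = (b * x * b⁻¹) ^ i := by rw [← hi, ← hj, ← zpow_mul, ← zpow_mul, mul_comm]
      _ = b * (a * x * a⁻¹) * b⁻¹ := by rw [← hi, conj_zpow]
      _ = _ := by group
  have h2 := conj_mem_of_mem_normalizer (mul_mem hb ha) (mem_zpowers x)
  have h3 : (b * a)⁻¹ * (a * b) ∈ centralizer ({x} : Set G) := by
    rw [mem_centralizer_singleton_iff]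
    calc (b * a)⁻¹ * (a * b) * x = (b * a)⁻¹ * (a * b * x * (a * b)⁻¹) * (a * b) := by group
      _ = _ := by rw [h1]; group
  rw [S.cent] at h3
  have h4 := conj_mem_of_mem_normalizer (mul_mem hb ha) h3
  rw [← S.cent, mem_centralizer_singleton_iff] at h4
  convert h4 using 2 <;> rw [commutatorElement_def] <;> group

theorem commutator_le_of_le {K : Subgroup G} [K.Normal] (hK : zpowers x ≤ K) :
    commutator G ≤ K := by
  have h1 := (S.sylow.of_le hK le_top).frattini_top
  rw [commutator_def, commutator_le]
  intro a _ b _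
  rw [← QuotientGroup.eq_one_iff]
  obtain ⟨k, hk, n, hn, rfl⟩ := (mem_sup_of_normal_left).1 (h1.ge (mem_top a))
  obtain ⟨k', hk', n', hn', rfl⟩ := (mem_sup_of_normal_left).1 (h1.ge (mem_top b))
  have h2 := (QuotientGroup.eq_one_iff _).2
    (hK (S.commutator_normalizer_le (commutator_mem_commutator hn hn')))
  rw [← QuotientGroup.eq_one_iff] at hk hk'
  simpa [commutatorElement_def, hk, hk'] using h2

theorem le_commutator_of_ne (h : (zpowers x).relIndex (normalizer (zpowers x : Set G)) ≠ 1) :
    zpowers x ≤ commutator G := by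
  rw [Ne, relIndex_eq_one] at h
  obtain ⟨n, hn, hn'⟩ := SetLike.not_le_iff_exists.1 h
  have h1 : ⁅n, x⁆ ∈ zpowers x :=
    mul_mem (conj_mem_of_mem_normalizer hn (mem_zpowers x)) (inv_mem (mem_zpowers x))
  have h2 : ⁅n, x⁆ ≠ 1 := fun h => hn' (by
    rw [← S.cent, mem_centralizer_singleton_iff]
    exact commutatorElement_eq_one_iff_mul_comm.1 h)
  rw [← S.zpowers_eq h1 h2, zpowers_le]
  exact commutator_mem_commutator (mem_top _) (mem_top _)

theorem index_commutator_le (h : (zpowers x).relIndex (normalizer (zpowers x : Set G)) ≠ 1) :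
    (commutator G).index ≤ (zpowers x).relIndex (normalizer (zpowers x : Set G)) := by
  have h0 := S.le_commutator_of_ne h
  have h1 := (S.sylow.of_le h0 le_top).frattini_top
  rw [index_eq_relIndex_of_sup_eq_top ((sup_comm _ _).trans h1)]
  exact relIndex_le_of_le_left h0 (relIndex_pos _ _).ne'

theorem sup_eq_top_of_eq (h : (zpowers x).relIndex (normalizer (zpowers x : Set G)) = 1) :
    pPrimeCore p G ⊔ zpowers x = ⊤ := by
  rw [relIndex_eq_one] at h
  exact (hasNormalPComplement_iff_sup_eq_top S.sylow.toSylowTop).1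
    (hasNormalPComplement_of_normalizer_le_centralizer S.sylow.toSylowTop (h.trans S.cent'.ge))

theorem index_pPrimeCore_of_eq (h : (zpowers x).relIndex (normalizer (zpowers x : Set G)) = 1) :
    (pPrimeCore p G).index = p := by
  rw [index_eq_card_of_disjoint_of_sup_eq_top (disjoint_of_isPGroup_of_not_dvd S.pgroup
    (not_dvd_card_pPrimeCore p G)).symm (S.sup_eq_top_of_eq h), S.card_zp]

theorem commutator_eq_of_eq (h : (zpowers x).relIndex (normalizer (zpowers x : Set G)) = 1) :
    commutator G = pPrimeCore p G := by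
  refine le_antisymm ?_ (S.le_commutator (not_dvd_card_pPrimeCore p G))
  have : IsCyclic (G ⧸ pPrimeCore p G) := isCyclic_of_prime_card (S.index_pPrimeCore_of_eq h)
  exact Normal.quotient_commutative_iff_commutator_le.1 inferInstance

/-- Normal subgroups of `G'`. -/
theorem normal_commutator (h : (zpowers x).relIndex (normalizer (zpowers x : Set G)) ≠ 1)
    (M : Subgroup (commutator G)) [M.Normal] :
    M ≤ (pPrimeCore p G).subgroupOf (commutator G) ∨ M = ⊤ := by
  have h0 := S.le_commutator_of_ne h
  by_cases hM : p ∣ Nat.card M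
  · right
    have hs := S.sylow.of_le h0 le_top
    have h1 : ¬ p ∣ M.index := fun h1 => by
      have h2 : p * p ∣ Nat.card (commutator G) := M.card_mul_index ▸ mul_dvd_mul hM h1
      rw [← card_mul_relIndex h0, S.card_zp] at h2
      exact hs.not_dvd (Nat.dvd_of_mul_dvd_mul_left hp.out.pos h2)
    have h2 := map_subtype_pPrimeResidual (p := p) (commutator G)
      (S.sylow.not_dvd_relIndex_of_le h0 ∘ by rw [relIndex_top_right]; exact id)
    have h3 := S.commutator_le_of_le (le_pPrimeResidual_of_isPGroup S.pgroup)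
    rw [← h2] at h3
    rw [eq_top_iff]
    intro y _
    obtain ⟨z, hz, hz'⟩ := h3 y.2
    exact Subtype.ext hz' ▸ pPrimeResidual_le h1 hz
  · left
    intro y hy
    exact ((map_subtype_pPrimeCore (p := p) (commutator G)).le
      ⟨y, le_pPrimeCore' hM hy, rfl⟩).1

end SelfCentP

end GT
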