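import Cfsg.Agent.Lib.Grp.Zass3
import Cfsg.Agent.Lib.Grp.NormalCompl
import Cfsg.Agent.Lib.Block.CycSub

/-!
# Recognition of `PSL(2, p)` from its action on `p + 1` points (Frobenius)
-/

set_option autoImplicit false
set_option linter.unusedSectionVars false

namespace GT

open Cfsg Matrix OnePoint

theorem sign_of_free {α : Type*} [Fintype α] [DecidableEq α] {π : Equiv.Perm α} {n : ℕ}
    (hn : π ^ n = 1) (h : ∀ x, π x ≠ x → ∀ i, (π ^ i) x = x → n ∣ i) :
    ∃ m, π.support.card = m * n ∧ Equiv.Perm.sign π = (-1) ^ (m * n + m) := by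
  have h1 : π.cycleType = Multiset.replicate (Multiset.card π.cycleType) n :=
    Multiset.eq_replicate_card.2 fun k hk => by
      refine Nat.dvd_antisymm ((Equiv.Perm.dvd_of_mem_cycleType hk).trans
        (orderOf_dvd_of_pow_eq_one hn)) ?_
      obtain ⟨c, τ, rfl, hd, hc, rfl⟩ := Equiv.Perm.mem_cycleType_iff.1 hk
      obtain ⟨x, hx, -⟩ := id hc
      have hτ : τ x = x := (hd x).resolve_left hx
      refine h x (by rwa [Equiv.Perm.mul_apply, hτ]) _ ?_
      rw [hd.commute.mul_pow, Equiv.Perm.mul_apply, Equiv.Perm.pow_apply_eq_self_of_apply_eq_self hτ,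
        ← hc.orderOf, pow_orderOf_eq_one, Equiv.Perm.one_apply]
  have h2 : π.cycleType.sum = Multiset.card π.cycleType * n := by
    rw [h1]; simp
  exact ⟨_, by rw [← Equiv.Perm.sum_cycleType, h2], by rw [Equiv.Perm.sign_of_cycleType, h2]⟩

theorem not_hasNormalPComplement_of_perfect {G : Type*} [Group G] [Finite G] {q : ℕ}
    [Fact q.Prime] (h : commutator G = ⊤) (hq : q ∣ Nat.card G) : ¬ HasNormalPComplement q G := by
  rw [hasNormalPComplement_iff_not_dvd_card_pResidual, pResidual_eq_top_iff_not_dvd.2 (by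
    rw [h, Subgroup.index_top, Nat.dvd_one]; exact (Fact.out : q.Prime).ne_one), Subgroup.card_top]
  exact not_not.2 hq

theorem map_eq_one_of_perfect {G B : Type*} [Group G] [CommGroup B] (h : commutator G = ⊤)
    (f : G →* B) (g : G) : f g = 1 :=
  Abelianization.commutator_subset_ker f (h ▸ Subgroup.mem_top g)

theorem exists_eq_mul_sq_of_not_isSquare {F : Type*} [Field F] [Fintype F] {a b : F}
    (ha : ¬ IsSquare a) (hb : ¬ IsSquare b) : ∃ c, c ≠ 0 ∧ b = a * c ^ 2 := by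
  classical
  have ha0 : a ≠ 0 := fun h => ha (h ▸ IsSquare.zero)
  have hb0 : b ≠ 0 := fun h => hb (h ▸ IsSquare.zero)
  obtain ⟨c, hc⟩ : IsSquare (a * b) := (quadraticChar_one_iff_isSquare (mul_ne_zero ha0 hb0)).1 (by
    rw [map_mul, quadraticChar_neg_one_iff_not_isSquare.2 ha,
      quadraticChar_neg_one_iff_not_isSquare.2 hb]; simp)
  refine ⟨c / a, fun h => ?_, by field_simp; linear_combination hc⟩
  rw [div_eq_zero_iff, or_iff_left ha0] at h
  simp [h, ha0, hb0] at hc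

/-- A perfect group acting on the projective line with the point stabilizer of `PSL(2, p)`. -/
structure P2 (p : ℕ) (G : Type*) [Group G] [MulAction G (OnePoint (ZMod p))] : Prop where
  three : 3 < p
  faith : ∀ g : G, (∀ x : OnePoint (ZMod p), g • x = x) → g = 1
  stab : ∀ g : G, g • (∞ : OnePoint (ZMod p)) = ∞ → ∃ a b : ZMod p, a ≠ 0 ∧
    ∀ x : ZMod p, g • (x : OnePoint (ZMod p)) = (a ^ 2 * x + b : ZMod p)
  ex : ∀ a b : ZMod p, a ≠ 0 → ∃ g : G, g • (∞ : OnePoint (ZMod p)) = ∞ ∧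
    ∀ x : ZMod p, g • (x : OnePoint (ZMod p)) = (a ^ 2 * x + b : ZMod p)
  trans : ∃ g : G, g • (∞ : OnePoint (ZMod p)) ≠ ∞
  perf : commutator G = ⊤
  card : 2 * Nat.card G = (p + 1) * p * (p - 1)

namespace P2
variable {p : ℕ} [hp : Fact p.Prime] {G : Type*} [Group G] [Finite G]
  [MulAction G (OnePoint (ZMod p))] (S : P2 p G)
include S

local notation "F" => ZMod p
local notation "Ω" => OnePoint (ZMod p)
local notation "o" => ((0 : ZMod p) : OnePoint (ZMod p))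

theorem two_ne : (2 : F) ≠ 0 := by
  have := S.three
  intro h
  have h2 : ((2 : ℕ) : F) = 0 := by exact_mod_cast h
  have := Nat.le_of_dvd two_pos ((ZMod.natCast_eq_zero_iff 2 p).1 h2)
  omega

theorem odd : Odd p := hp.out.odd_of_ne_two (by have := S.three; omega)

theorem exists_swap : ∃ σ : G, σ • (∞ : Ω) = o ∧ σ • o = ∞ := by
  obtain ⟨g, hg⟩ := S.trans
  obtain ⟨b, hb⟩ := ne_infty_iff_exists.1 hg
  obtain ⟨t, -, ht⟩ := S.ex 1 (-b) one_ne_zero
  have h1 : (t * g) • (∞ : Ω) = o := by rw [mul_smul, ← hb, ht]; simp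
  obtain ⟨w, hw⟩ := ne_infty_iff_exists.1 (show (t * g)⁻¹ • (∞ : Ω) ≠ ∞ from fun h => by
    rw [inv_smul_eq_iff, h1] at h; exact infty_ne_coe _ h)
  obtain ⟨s, hs, hs'⟩ := S.ex 1 w one_ne_zero
  exact ⟨t * g * s, by rw [mul_smul, hs, h1], by
    rw [mul_smul, hs', one_pow, mul_zero, zero_add, hw, smul_inv_smul]⟩

theorem exists_smul_eq_infty (x : Ω) : ∃ g : G, g • x = ∞ := by
  cases x with
  | infty => exact ⟨1, one_smul _ _⟩
  | coe b =>
    obtain ⟨σ, -, hσ⟩ := S.exists_swap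
    obtain ⟨t, -, ht⟩ := S.ex 1 (-b) one_ne_zero
    exact ⟨σ * t, by rw [mul_smul, ht]; simpa using hσ⟩

theorem sharp {g : G} {a b c : Ω} (hab : a ≠ b) (hac : a ≠ c) (hbc : b ≠ c) (ha : g • a = a)
    (hb : g • b = b) (hc : g • c = c) : g = 1 := by
  obtain ⟨h, hh⟩ := S.exists_smul_eq_infty a
  obtain ⟨b', hb'⟩ := ne_infty_iff_exists.1 (show h • b ≠ ∞ from fun h' =>
    hab (MulAction.injective h (hh.trans h'.symm)))
  obtain ⟨c', hc'⟩ := ne_infty_iff_exists.1 (show h • c ≠ ∞ from fun h' =>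
    hac (MulAction.injective h (hh.trans h'.symm)))
  have h0 : (h * g * h⁻¹) • (∞ : Ω) = ∞ := by rw [← hh]; simp [mul_smul, ha]
  obtain ⟨α, β, -, h1⟩ := S.stab _ h0
  have h2 := h1 b'
  have h3 := h1 c'
  rw [hb', mul_smul, mul_smul, inv_smul_smul, hb, ← hb', coe_eq_coe] at h2
  rw [hc', mul_smul, mul_smul, inv_smul_smul, hc, ← hc', coe_eq_coe] at h3
  have h4 : b' - c' ≠ 0 := sub_ne_zero.2 fun h' => hbc (MulAction.injective h (show h • b = h • c by
    rw [← hb', ← hc', h']))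
  have h5 : α ^ 2 = 1 := mul_right_cancel₀ h4 (by linear_combination h3 - h2)
  have h6 : β = 0 := by rw [h5] at h2; linear_combination -h2
  have := S.faith (h * g * h⁻¹) fun x => by
    cases x with
    | infty => exact h0
    | coe x => rw [h1, h5, h6]; simp
  simpa using this

theorem ext3 {g g' : G} (h1 : g • (∞ : Ω) = g' • ∞) (h2 : g • o = g' • o)
    (h3 : g • ((1 : F) : Ω) = g' • ((1 : F) : Ω)) : g = g' :=
  (inv_mul_eq_one.1 (S.sharp (a := ∞) (b := o) (c := (1 : F)) (by simp) (by simp) (by simp)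
    (by rw [mul_smul, ← h1, inv_smul_smul]) (by rw [mul_smul, ← h2, inv_smul_smul])
    (by rw [mul_smul, ← h3, inv_smul_smul])))

theorem stab2 {g : G} (h1 : g • (∞ : Ω) = ∞) (h2 : g • o = o) :
    ∃ a : F, a ≠ 0 ∧ ∀ x : F, g • (x : Ω) = (a ^ 2 * x : F) := by
  obtain ⟨a, b, ha, h⟩ := S.stab g h1
  have := h 0
  rw [h2, coe_eq_coe] at this
  exact ⟨a, ha, fun x => by rw [h, show b = 0 by simpa using this.symm, add_zero]⟩

theorem comm2 {g g' : G} (h1 : g • (∞ : Ω) = ∞) (h2 : g • o = o) (h1' : g' • (∞ : Ω) = ∞)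
    (h2' : g' • o = o) : g * g' = g' * g := by
  obtain ⟨a, -, ha⟩ := S.stab2 h1 h2
  obtain ⟨b, -, hb⟩ := S.stab2 h1' h2'
  refine S.ext3 (by simp [mul_smul, h1, h1']) (by simp [mul_smul, h2, h2']) ?_
  simp only [mul_smul, ha, hb]
  congr 1; ring

omit S in
theorem card_omega : Nat.card Ω = p + 1 :=
  (Finite.card_option (α := F)).trans (by rw [Nat.card_zmod])

/-- The stabilizer of two points as a subgroup. -/
theorem isCyclic_of_fix {K : Subgroup G} (h : ∀ g ∈ K, g • (∞ : Ω) = ∞ ∧ g • o = o) :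
    IsCyclic K := by
  choose a ha0 ha using fun g : K => S.stab2 (h g g.2).1 (h g g.2).2
  let f : K →* F := ⟨⟨fun g => a g ^ 2, by simpa using (ha 1 1).symm⟩, fun g g' => by
    have := ha (g * g') 1
    rw [Subgroup.coe_mul, mul_smul, ha, ha, coe_eq_coe] at this
    simpa using this.symm⟩
  refine isCyclic_of_injective_ringHom f ((injective_iff_map_eq_one f).2 fun g hg => Subtype.ext ?_)
  exact S.ext3 (by simp [(h g g.2).1]) (by simp [(h g g.2).2]) (by
    rw [ha, show a g ^ 2 = 1 from hg]; simp)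

theorem eq_one_of_commute {σ y : G} (h1 : σ • (∞ : Ω) = o) (h2 : σ • o = ∞)
    (hy1 : y • (∞ : Ω) = ∞) (hy2 : y • o = o) (hc : Commute σ y) (hy : ¬ 2 ∣ orderOf y) :
    y = 1 := by
  by_contra hne
  obtain ⟨q, hq, hqy⟩ := Nat.exists_prime_and_dvd (mt orderOf_eq_one_iff.1 hne)
  have := Fact.mk hq
  have hq2 : q ≠ 2 := by rintro rfl; exact hy hqy
  obtain ⟨y, hy1, hy2, hc, hy⟩ : ∃ y : G, y • (∞ : Ω) = ∞ ∧ y • o = o ∧ Commute σ y ∧
      orderOf y = q := ⟨y ^ (orderOf y / q), MulAction.mem_stabilizer_iff.1 (pow_mem hy1 _),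
      MulAction.mem_stabilizer_iff.1 (pow_mem hy2 _), hc.pow_right _,
      orderOf_pow_orderOf_div (orderOf_pos y).ne' hqy⟩
  replace hne : y ≠ 1 := by rintro rfl; exact hq.ne_one (by simpa using hy.symm)
  obtain ⟨Q, hQ⟩ := IsPElt.exists_mem_sylow (p := q) (g := y) ⟨1, by simpa using hy⟩
  have hfix : ∀ x : Ω, y • x = x → x = ∞ ∨ x = o := fun x hx => by
    by_contra h
    rw [not_or] at h
    exact hne (S.sharp (by simp) (Ne.symm h.1) (Ne.symm h.2) hy1 hy2 hx)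
  have hqp : q ∣ p - 1 := by
    obtain ⟨a, ha0, ha⟩ := S.stab2 hy1 hy2
    have h3 : ∀ k : ℕ, y ^ k • ((1 : F) : Ω) = ((a ^ 2) ^ k : F) := fun k => by
      induction k with
      | zero => simp
      | succ k ih => rw [pow_succ', mul_smul, ih, ha, ← pow_succ']
    have h4 : (a ^ 2) ^ q = 1 := by
      have := h3 q
      rw [← hy, pow_orderOf_eq_one, one_smul, coe_eq_coe] at this
      rw [← hy, ← this]
    have h5 : a ^ 2 ≠ 1 := fun h => by
      have := hfix (1 : F) (by rw [ha, h]; simp)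
      simp at this
    rw [← orderOf_eq_prime h4 h5]
    exact ZMod.orderOf_dvd_card_sub_one (pow_ne_zero _ ha0)
  have hQfix : MulAction.fixedPoints (Q : Subgroup G) Ω = {∞, o} := by
    refine Set.eq_of_subset_of_ncard_le (fun x hx => hfix x (hx ⟨y, hQ⟩)) ?_
    have h3 := Q.isPGroup'.card_modEq_card_fixedPoints Ω
    rw [card_omega, Nat.card_coe_set_eq] at h3
    rw [Set.ncard_pair (by simp)]
    by_contra h4
    have h5 : p + 1 ≡ 2 [MOD q] := ((Nat.modEq_iff_dvd' (by have := S.three; omega)).2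
      (by simpa using hqp)).symm
    have h6 := (Nat.modEq_iff_dvd' (by omega)).1 (h3.symm.trans h5)
    have h7 := Nat.le_of_dvd (by omega) h6
    have := hq.two_le
    omega
  have hQ1 : ∀ g ∈ (Q : Subgroup G), g • (∞ : Ω) = ∞ ∧ g • o = o := fun g hg =>
    ⟨hQfix.ge (by simp) ⟨g, hg⟩, hQfix.ge (by simp) ⟨g, hg⟩⟩
  have := S.isCyclic_of_fix hQ1
  refine not_hasNormalPComplement_of_perfect S.perf (hy ▸ orderOf_dvd_natCard y)
    (hasNormalPComplement_of_normalizer_le_centralizer Q fun n hn => ?_)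
  have hn1 : ∀ x ∈ ({∞, o} : Set Ω), n • x ∈ ({∞, o} : Set Ω) := fun x hx => by
    rw [← hQfix] at hx ⊢
    intro g
    have := hx ⟨_, inv_conj_mem_of_mem_normalizer hn g.2⟩
    rwa [Subgroup.mk_smul, mul_smul, mul_smul, inv_smul_eq_iff] at this
  have hinj : n • (∞ : Ω) ≠ n • o := (MulAction.injective n).ne (by simp)
  rw [Subgroup.mem_centralizer_iff]
  rcases hn1 ∞ (by simp) with h3 | h3
  · have h4 : n • o = o := (hn1 o (by simp)).resolve_left fun h => hinj (h3.trans h.symm)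
    exact fun g hg => S.comm2 (hQ1 g hg).1 (hQ1 g hg).2 h3 h4
  replace h3 : n • (∞ : Ω) = o := h3
  have h4 : n • o = ∞ := (hn1 o (by simp)).resolve_right fun h => hinj (h3.trans h.symm)
  let φ := (Q : Subgroup G).normalizerMonoidHom ⟨n, hn⟩
  have hφ : ∀ g : (Q : Subgroup G), (φ g : G) = n * g * n⁻¹ := fun _ => rfl
  let _ : CommGroup (Q : Subgroup G) := IsCyclic.commGroup
  have h5 : φ = 1 := BT.mulAut_eq_one_of_apply_eq Q.isPGroup' (u := ⟨y, hQ⟩) (fun h => hq2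
    ((Nat.prime_dvd_prime_iff_eq hq Nat.prime_two).1 (h.trans (orderOf_dvd_of_pow_eq_one
      (MulEquiv.ext fun g => Subtype.ext ?_))))) (fun h => hne (congrArg Subtype.val h))
      (Subtype.ext ?_)
  · intro g hg
    have := hφ ⟨g, hg⟩
    rw [h5] at this
    exact eq_mul_inv_iff_mul_eq.1 this
  · have := S.comm2 (g := n * n) (by rw [mul_smul, h3, h4]) (by rw [mul_smul, h4, h3])
      (hQ1 g g.2).1 (hQ1 g g.2).2
    rw [sq, MulAut.mul_apply, hφ, hφ, MulAut.one_apply]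
    calc n * (n * g * n⁻¹) * n⁻¹ = n * n * g * (n * n)⁻¹ := by group
      _ = g := by rw [this]; group
  · have := S.comm2 (g := σ⁻¹ * n) (by rw [mul_smul, h3, ← h1, inv_smul_smul])
      (by rw [mul_smul, h4, ← h2, inv_smul_smul]) hy1 hy2
    rw [hφ]
    calc n * y * n⁻¹ = σ * (σ⁻¹ * n * y) * n⁻¹ := by group
      _ = y := by rw [this, ← mul_assoc, hc.eq]; group

theorem sign_eq_one [DecidableEq Ω] [Fintype Ω] (g : G) :
    Equiv.Perm.sign (MulAction.toPermHom G Ω g) = 1 :=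
  map_eq_one_of_perfect S.perf (Equiv.Perm.sign.comp (MulAction.toPermHom G Ω)) g

theorem swap_sq {σ : G} (h1 : σ • (∞ : Ω) = o) (h2 : σ • o = ∞) : σ * σ = 1 := by
  classical
  have : Fact (Nat.Prime 2) := ⟨Nat.prime_two⟩
  have hev : ∀ k : ℕ, (σ ^ 2) ^ k • (∞ : Ω) = ∞ ∧ (σ ^ 2) ^ k • o = o := fun k =>
    ⟨MulAction.mem_stabilizer_iff.1 (pow_mem (by simp [sq, mul_smul, h1, h2]) _),
      MulAction.mem_stabilizer_iff.1 (pow_mem (by simp [sq, mul_smul, h1, h2]) _)⟩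
  have hy : pRegPart 2 σ = 1 := by
    obtain ⟨n, hn⟩ := exists_pRegPart_eq_pow 2 σ
    have h3 := not_dvd_orderOf_pRegPart 2 σ
    obtain ⟨k, hk⟩ : ∃ k, orderOf (pRegPart 2 σ) + 1 = 2 * k :=
      ⟨(orderOf (pRegPart 2 σ) + 1) / 2, by omega⟩
    have h4 : pRegPart 2 σ = (σ ^ 2) ^ (n * k) := by
      rw [← pow_mul, ← mul_assoc, mul_comm 2, mul_assoc, pow_mul, ← hn, ← hk, pow_succ,
        pow_orderOf_eq_one, one_mul]
    exact S.eq_one_of_commute h1 h2 (h4 ▸ (hev _).1) (h4 ▸ (hev _).2)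
      (hn ▸ (Commute.refl σ).pow_right n) h3
  obtain ⟨k, hk⟩ : IsPElt 2 σ := by
    have := isPElt_pPart 2 σ
    rwa [← mul_one (pPart 2 σ), ← hy, pPart_mul_pRegPart] at this
  by_contra hne
  have hk2 : 2 ≤ k := by
    by_contra h
    refine hne (by rw [← sq, ← orderOf_dvd_iff_pow_eq_one, hk]; exact pow_dvd_pow 2 (by omega : k ≤ 1))
  let π := MulAction.toPermHom G Ω σ * Equiv.swap ∞ o
  have hπ1 : π ∞ = ∞ := by simp [π, h2]
  have hπ2 : π o = o := by simp [π, h1]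
  have hπ : ∀ x : Ω, x ≠ ∞ → x ≠ o → ∀ i : ℕ, (π ^ i) x = σ ^ i • x ∧ σ ^ i • x ≠ ∞ ∧
      σ ^ i • x ≠ o := fun x hx hx' i => by
    induction i with
    | zero => simp [hx, hx']
    | succ i ih =>
      rw [pow_succ', pow_succ', Equiv.Perm.mul_apply, ih.1, mul_smul]
      refine ⟨by simp [π, Equiv.swap_apply_of_ne_of_ne ih.2.1 ih.2.2], ?_, ?_⟩
      · rw [← h2]; exact (MulAction.injective σ).ne ih.2.2
      · rw [← h1]; exact (MulAction.injective σ).ne ih.2.1
  have hfree : ∀ x : Ω, x ≠ ∞ → x ≠ o → ∀ i : ℕ, σ ^ i • x = x → 2 ^ k ∣ i := fun x hx hx' i hi => by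
    have h3 : ∀ j, (σ ^ 2) ^ j • x = x → 2 ^ k ∣ 2 * j := fun j hj => by
      rw [← hk, orderOf_dvd_iff_pow_eq_one, pow_mul]
      exact S.sharp (by simp) hx.symm hx'.symm (hev j).1 (hev j).2 hj
    have h4 := h3 i (by rw [← pow_mul, two_mul, pow_add, mul_smul, hi, hi])
    obtain ⟨j, rfl⟩ : 2 ∣ i := Nat.dvd_of_mul_dvd_mul_left two_pos
      ((pow_dvd_pow 2 hk2).trans h4)
    exact h3 j (by rwa [← pow_mul])
  obtain ⟨m, hm, hs⟩ := sign_of_free (π := π) (n := 2 ^ k) (Equiv.ext fun x => by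
    by_cases hx : x = ∞
    · rw [hx, Equiv.Perm.pow_apply_eq_self_of_apply_eq_self hπ1]; rfl
    by_cases hx' : x = o
    · rw [hx', Equiv.Perm.pow_apply_eq_self_of_apply_eq_self hπ2]; rfl
    rw [(hπ x hx hx' _).1, ← hk, pow_orderOf_eq_one, one_smul]; rfl) fun x hx i hi => by
      have h3 : x ≠ ∞ := by rintro rfl; exact hx hπ1
      have h4 : x ≠ o := by rintro rfl; exact hx hπ2
      exact hfree x h3 h4 i (by rw [← (hπ x h3 h4 i).1, hi])
  have h3 : π.support = ({∞, o} : Finset Ω)ᶜ := Finset.ext fun x => by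
    simp only [Equiv.Perm.mem_support, Finset.mem_compl, Finset.mem_insert, Finset.mem_singleton,
      not_or]
    refine ⟨fun h => ⟨by rintro rfl; exact h hπ1, by rintro rfl; exact h hπ2⟩, fun h h' => ?_⟩
    have := Nat.le_of_dvd one_pos (hfree x h.1 h.2 1 (by rw [← (hπ x h.1 h.2 1).1, pow_one, h']))
    have := Nat.pow_le_pow_right two_pos hk2
    omega
  rw [h3, Finset.card_compl, Finset.card_pair (by simp), ← Nat.card_eq_fintype_card, card_omega]
    at hm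
  rw [map_mul, S.sign_eq_one, Equiv.Perm.sign_swap (by simp), one_mul, pow_add,
    Even.neg_one_pow (Even.mul_left ((Nat.even_pow' (by omega)).2 even_two) _), one_mul] at hs
  have h4 : Odd m := by
    by_contra h
    rw [(Nat.not_odd_iff_even.1 h).neg_one_pow] at hs
    exact absurd hs (by decide)
  obtain ⟨j, rfl⟩ : ∃ j, k = j + 2 := ⟨k - 2, by omega⟩
  have h5 : Nat.card G = 2 ^ (j + 2) * ((2 * (m * 2 ^ j) + 1) * p * m) := by
    have h6 : p - 1 = m * 2 ^ (j + 2) := by omega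
    have h7 : p + 1 = 2 * (2 * (m * 2 ^ j) + 1) := by
      have := S.three
      have : p - 1 = 4 * (m * 2 ^ j) := by rw [h6]; ring
      omega
    have := S.card
    rw [h7, h6] at this
    linarith
  have h6 : IsSylowIn 2 (Subgroup.zpowers σ) ⊤ := ⟨le_top, IsPElt.isPGroup_zpowers ⟨_, hk⟩, by
    have := (Subgroup.zpowers σ).card_mul_index
    rw [Nat.card_zpowers, hk, h5] at this
    rw [Subgroup.relIndex_top_right, mul_left_cancel₀ (by positivity) this]
    exact Odd.not_two_dvd_nat (((odd_two_mul_add_one _).mul S.odd).mul h4)⟩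
  have : IsCyclic (h6.toSylowTop : Subgroup G) := inferInstanceAs (IsCyclic (Subgroup.zpowers σ))
  exact not_hasNormalPComplement_of_perfect S.perf ⟨_, by rw [h5, pow_succ', mul_assoc]⟩
    (hasNormalPComplement_two_of_isCyclic h6.toSylowTop)

theorem exists_fixed (h4 : p % 4 ≠ 3) {τ : G} (hτ : τ * τ = 1) : ∃ x : Ω, τ • x = x := by
  classical
  by_contra! h
  obtain ⟨m, hm, hs⟩ := sign_of_free (π := MulAction.toPermHom G Ω τ) (n := 2)
    (by rw [← map_pow, sq, hτ, map_one]) fun x _ i hi => by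
      by_contra h2
      obtain ⟨k, rfl⟩ : Odd i := Nat.odd_iff.2 (by omega)
      rw [← map_pow, pow_succ, pow_mul, sq, hτ, one_pow, one_mul] at hi
      exact h x hi
  rw [Finset.eq_univ_of_forall fun x => Equiv.Perm.mem_support.2 (h x), Finset.card_univ,
    ← Nat.card_eq_fintype_card, card_omega] at hm
  rw [S.sign_eq_one, Odd.neg_one_pow (Nat.odd_iff.2 (by omega))] at hs
  exact absurd hs (by decide)

theorem eq_one_of_fixed (h : ¬ IsSquare (-1 : F)) {τ : G} (hτ : τ * τ = 1) {x : Ω}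
    (hx : τ • x = x) : τ = 1 := by
  obtain ⟨g, hg⟩ := S.exists_smul_eq_infty x
  have h0 : (g * τ * g⁻¹) • (∞ : Ω) = ∞ := by rw [← hg]; simp [mul_smul, hx]
  obtain ⟨a, b, -, h1⟩ := S.stab _ h0
  have h2 : ∀ y : F, a ^ 2 * (a ^ 2 * y + b) + b = y := fun y => by
    rw [← coe_eq_coe, ← h1, ← h1, ← mul_smul,
      show g * τ * g⁻¹ * (g * τ * g⁻¹) = g * (τ * τ) * g⁻¹ by group, hτ]
    simp
  have h3 : a ^ 2 = 1 := (mul_self_eq_one_iff.1 (by linear_combination h2 1 - h2 0)).resolve_right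
    fun h' => h ⟨a, by rw [← h', sq]⟩
  have h4 : b = 0 := mul_left_cancel₀ S.two_ne (by linear_combination h2 0 - b * h3)
  have := S.faith (g * τ * g⁻¹) fun x => by
    cases x with
    | infty => exact h0
    | coe x => rw [h1, h3, h4]; simp
  simpa using this

theorem exists_fun {σ : G} (h1 : σ • (∞ : Ω) = o) (h2 : σ • o = ∞) : ∃ f : F → F,
    (∀ x : F, x ≠ 0 → σ • (x : Ω) = f x ∧ f x ≠ 0 ∧ f (f x) = x) ∧
      ∀ a ≠ 0, ∀ x ≠ 0, a ^ 2 * f (a ^ 2 * x) = f x := by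
  have h3 : ∀ x : F, ∃ y : F, x ≠ 0 → σ • (x : Ω) = y := fun x => by
    by_cases hx : x = 0
    · exact ⟨0, fun h => (h hx).elim⟩
    obtain ⟨y, hy⟩ := ne_infty_iff_exists.1 (show σ • (x : Ω) ≠ ∞ from
      h2 ▸ (MulAction.injective σ).ne (by simpa using hx))
    exact ⟨y, fun _ => hy.symm⟩
  choose f hf using h3
  have h4 : ∀ x ≠ 0, f x ≠ 0 := fun x hx h => by
    have := hf x hx
    rw [h, ← h1] at this
    exact coe_ne_infty _ (MulAction.injective σ this)
  have h5 : ∀ a ≠ 0, ∀ x ≠ 0, f (a ^ 2 * f (a ^ 2 * x)) = x := fun a ha x hx => by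
    obtain ⟨g, hg1, hg⟩ := S.ex a 0 ha
    have := congrArg (· • (x : Ω)) (S.swap_sq (σ := σ * g) (by rw [mul_smul, hg1, h1])
      (by rw [mul_smul, hg]; simpa using h2))
    have h6 : a ^ 2 * x ≠ 0 := by simp [ha, hx]
    simp only [mul_smul, hg, add_zero, one_smul] at this
    rwa [hf _ h6, hg, add_zero, hf _ (by simp [ha, h4 _ h6]), coe_eq_coe] at this
  have h6 : ∀ x ≠ 0, f (f x) = x := fun x hx => by simpa using h5 1 one_ne_zero x hx
  refine ⟨f, fun x hx => ⟨hf x hx, h4 x hx, h6 x hx⟩, fun a ha x hx => ?_⟩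
  conv_rhs => rw [← h5 a ha x hx]
  rw [h6 _ (by simp [ha, h4 _ (show a ^ 2 * x ≠ 0 by simp [ha, hx])])]

theorem exists_nonsquare : ∃ n : F, ¬ IsSquare n :=
  FiniteField.exists_nonsquare (by rw [ZMod.ringChar_zmod_n]; have := S.three; omega)

theorem exists_omega : ∃ (τ : G) (b : F), b ≠ 0 ∧ τ • (∞ : Ω) = o ∧ τ • o = ∞ ∧
    ∀ x : F, x ≠ 0 → τ • (x : Ω) = (-b ^ 2 / x : F) := by
  obtain ⟨σ, h1, h2⟩ := S.exists_swap
  have key : ∀ f : F → F, (∀ x : F, x ≠ 0 → σ • (x : Ω) = f x) → IsSquare (f 1) → f 1 ≠ 0 →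
      ∃ τ : G, τ • (∞ : Ω) = o ∧ τ • o = ∞ ∧ τ • ((1 : F) : Ω) = (1 : F) := by
    rintro f hf ⟨a, ha⟩ h0
    have ha0 : a ≠ 0 := by rintro rfl; simp [ha] at h0
    obtain ⟨g, hg1, hg⟩ := S.ex a⁻¹ 0 (inv_ne_zero ha0)
    refine ⟨g * σ, by rw [mul_smul, h1, hg]; simp, by rw [mul_smul, h2, hg1], ?_⟩
    rw [mul_smul, hf 1 one_ne_zero, hg, ha]
    congr 1; field_simp; ring
  obtain ⟨f, hf, hf'⟩ := S.exists_fun h1 h2
  have hsq : ∀ {x : F}, x ≠ 0 → IsSquare x → ∃ a, a ≠ 0 ∧ x = a ^ 2 := by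
    rintro x hx ⟨a, rfl⟩
    exact ⟨a, left_ne_zero_of_mul hx, (sq a).symm⟩
  by_cases h : IsSquare (-1 : F)
  swap
  · have h3 : ¬ IsSquare (f 1) := fun h' => by
      obtain ⟨τ, e1, e2, e3⟩ := key f (fun x hx => (hf x hx).1) h' (hf 1 one_ne_zero).2.1
      rw [S.eq_one_of_fixed h (S.swap_sq e1 e2) e3, one_smul] at e1
      exact infty_ne_coe _ e1
    obtain ⟨b, hb, hb'⟩ := exists_eq_mul_sq_of_not_isSquare h h3
    refine ⟨σ, b, hb, h1, h2, fun x hx => ?_⟩
    rw [(hf x hx).1, coe_eq_coe, eq_div_iff hx]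
    by_cases hx' : IsSquare x
    · obtain ⟨a, ha, rfl⟩ := hsq hx hx'
      have := hf' a ha 1 one_ne_zero
      rw [mul_one] at this
      linear_combination this + hb'
    · obtain ⟨a, ha, rfl⟩ := exists_eq_mul_sq_of_not_isSquare h3 hx'
      have := hf' a ha _ (hf 1 one_ne_zero).2.1
      rw [(hf 1 one_ne_zero).2.2, mul_comm (a ^ 2) (f 1)] at this
      linear_combination f 1 * this + hb'
  have h3 : IsSquare (f 1) := by
    by_contra h3
    obtain ⟨x, hx⟩ := S.exists_fixed (ZMod.mod_four_ne_three_of_sq_eq_neg_one (y := h.choose)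
      (by rw [sq, ← h.choose_spec])) (S.swap_sq h1 h2)
    cases x with
    | infty => exact coe_ne_infty _ (h1.symm.trans hx)
    | coe x =>
      have hx0 : x ≠ 0 := by rintro rfl; exact infty_ne_coe _ (h2.symm.trans hx)
      rw [(hf x hx0).1, coe_eq_coe] at hx
      by_cases hx' : IsSquare x
      · obtain ⟨a, ha, rfl⟩ := hsq hx0 hx'
        have := hf' a ha 1 one_ne_zero
        rw [mul_one, hx] at this
        exact h3 ⟨_, this.symm⟩
      · obtain ⟨a, ha, rfl⟩ := exists_eq_mul_sq_of_not_isSquare h3 hx'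
        have := hf' a ha _ (hf 1 one_ne_zero).2.1
        rw [(hf 1 one_ne_zero).2.2, mul_comm (a ^ 2) (f 1), hx] at this
        exact h3 ⟨(a ^ 2)⁻¹, by field_simp; linear_combination this⟩
  obtain ⟨τ, e1, e2, e3⟩ := key f (fun x hx => (hf x hx).1) h3 (hf 1 one_ne_zero).2.1
  clear key h3 hf hf' f h1 h2 σ
  obtain ⟨f, hf, hf'⟩ := S.exists_fun e1 e2
  have h1 : f 1 = 1 := by rw [← coe_eq_coe, ← (hf 1 one_ne_zero).1, e3]
  obtain ⟨i, hi0, hi⟩ := hsq (by simp) h
  obtain ⟨s, hs1, hs⟩ := S.ex i 1 hi0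
  have hs0 : s • o = (1 : F) := by rw [hs]; simp
  have hs2 : s • ((1 : F) : Ω) = o := by rw [hs, ← hi]; simp
  have h2 : τ * s * τ = s * τ * s := S.ext3 (by simp [mul_smul, e1, e3, hs0, hs1])
    (by simp [mul_smul, e1, e2, e3, hs0, hs1, hs2]) (by simp [mul_smul, e2, e3, hs1, hs2])
  obtain ⟨x, hx, hx'⟩ : ∃ x : F, IsSquare x ∧ ¬ IsSquare (1 - x) := by
    by_contra! h3
    obtain ⟨n, hn⟩ := S.exists_nonsquare
    have h4 : ∀ k : ℕ, IsSquare (-k : F) := fun k => by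
      induction k with
      | zero => simp
      | succ k ih => exact (show (-(k + 1 : ℕ) : F) = -1 * (1 - -k) by push_cast; ring) ▸ h.mul (h3 _ ih)
    exact hn (by simpa using h4 (-n).val)
  have hx0 : x ≠ 0 := by rintro rfl; simp at hx'
  have hx1 : 1 - x ≠ 0 := fun h => hx' (h ▸ IsSquare.zero)
  obtain ⟨a, ha, rfl⟩ := hsq hx0 hx
  have h3 : ∀ a ≠ 0, f (a ^ 2) = (a ^ 2)⁻¹ := fun a ha => by
    have := hf' a ha 1 one_ne_zero
    rw [mul_one, h1] at this
    exact eq_inv_of_mul_eq_one_right this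
  have h4 : i ^ 2 * (a ^ 2)⁻¹ + 1 = (i / a) ^ 2 * (1 - a ^ 2) := by
    field_simp; linear_combination -a ^ 2 * hi
  have h5 := congrArg (· • ((a ^ 2 : F) : Ω)) h2
  simp only [mul_smul] at h5
  rw [(hf _ hx0).1, h3 a ha, hs, hs, h4, (hf _ (by simp [hx1, hi0, ha])).1, ← hi, neg_one_mul,
    neg_add_eq_sub, (hf _ hx1).1, hs, coe_eq_coe] at h5
  have h6 := hf' (i / a) (by simp [hi0, ha]) _ hx1
  have h7 : (1 - a ^ 2) * f (1 - a ^ 2) = 1 := by
    rw [h5, div_pow, ← hi] at h6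
    field_simp at h6
    linear_combination h6
  refine ⟨τ, i, hi0, e1, e2, fun y hy => ?_⟩
  rw [(hf y hy).1, coe_eq_coe, ← hi, neg_neg, eq_div_iff hy]
  by_cases hy' : IsSquare y
  · obtain ⟨b, hb, rfl⟩ := hsq hy hy'
    rw [h3 b hb, inv_mul_cancel₀ hy]
  · obtain ⟨b, hb, rfl⟩ := exists_eq_mul_sq_of_not_isSquare hx' hy'
    have := hf' b hb _ hx1
    rw [mul_comm (b ^ 2) (1 - a ^ 2)] at this
    linear_combination (1 - a ^ 2) * this + h7

theorem nonempty_mulEquiv : Nonempty (G ≃* ProjectiveSpecialLinearGroup (Fin 2) F) := by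
  classical
  let φ : SpecialLinearGroup (Fin 2) F →* Equiv.Perm Ω :=
    (MulAction.toPermHom (GL (Fin 2) F) Ω).comp SpecialLinearGroup.toGL
  have hφ : ∀ s x, φ s x = SpecialLinearGroup.toGL s • x := fun _ _ => rfl
  let ψ := MulAction.toPermHom G Ω
  have hψ : ∀ g x, ψ g x = g • x := fun _ _ => rfl
  have hB : ∀ (s : SpecialLinearGroup (Fin 2) F) (g : G), s 1 0 = 0 → g • (∞ : Ω) = ∞ →
      (∀ x : F, g • (x : Ω) = (s 0 0 ^ 2 * x + s 0 0 * s 0 1 : F)) → φ s = ψ g := by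
    intro s g h1 h2 h3
    have hd := s.det_coe
    rw [det_fin_two, h1, mul_zero, sub_zero] at hd
    ext x
    rw [hφ, hψ]
    cases x with
    | infty => rw [sl2_smul_infty, if_pos h1, h2]
    | coe k =>
      rw [sl2_smul_some, h1, zero_mul, zero_add, if_neg (right_ne_zero_of_mul_eq_one hd), h3,
        coe_eq_coe, div_eq_iff (right_ne_zero_of_mul_eq_one hd)]
      linear_combination -(s 0 0 * k + s 0 1) * hd
  have h1 : ∀ g : G, g • (∞ : Ω) = ∞ → ψ g ∈ φ.range := fun g hg => by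
    obtain ⟨a, b, ha, h⟩ := S.stab g hg
    obtain ⟨s, a1, a2, a3, -⟩ := exists_sl2_entries a (b / a) 0 a⁻¹ (by simp [ha])
    exact ⟨s, hB s g a3 hg fun x => by rw [h, a1, a2, mul_div_cancel₀ _ ha]⟩
  obtain ⟨τ, b, hb, e1, e2, e3⟩ := S.exists_omega
  have h2 : ψ τ ∈ φ.range := by
    obtain ⟨s, a1, a2, a3, a4⟩ := exists_sl2_entries 0 (-b) b⁻¹ 0 (by simp [hb])
    refine ⟨s, Equiv.ext fun x => ?_⟩
    rw [hφ, hψ]
    cases x with
    | infty => rw [sl2_smul_infty, a1, a3, if_neg (by simpa), e1]; simp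
    | coe k =>
      by_cases hk : k = 0
      · rw [sl2_smul_some, a3, a4, if_pos (by simp [hk]), hk, e2]
      · rw [sl2_smul_some, a1, a2, a3, a4, if_neg (by simp [hk, hb]), e3 k hk, coe_eq_coe]
        simp only [zero_mul, zero_add, add_zero]
        field_simp
  have h3 : ψ.range ≤ φ.range := by
    rintro _ ⟨g, rfl⟩
    by_cases hg : g • (∞ : Ω) = ∞
    · exact h1 g hg
    obtain ⟨y, hy⟩ := ne_infty_iff_exists.1 hg
    obtain ⟨t, ht1, ht⟩ := S.ex 1 (-y) one_ne_zero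
    refine (mul_mem_cancel_left (h1 t ht1)).1 ((mul_mem_cancel_left h2).1 ?_)
    rw [← map_mul, ← map_mul]
    exact h1 _ (by rw [mul_smul, mul_smul, ← hy, ht]; simpa using e2)
  have h4 : φ.range ≤ ψ.range := by
    rintro _ ⟨s, rfl⟩
    obtain ⟨g, hg⟩ := S.exists_smul_eq_infty (φ s ∞)
    obtain ⟨s', hs'⟩ : ψ g ∈ φ.range := h3 ⟨g, rfl⟩
    have h5 : (s' * s) 1 0 = 0 := smul_infty_eq_self_iff.1 ((hφ (s' * s) ∞).symm.trans (by
      rw [map_mul, hs', Equiv.Perm.mul_apply, hψ, hg]))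
    have hd := (s' * s).det_coe
    rw [det_fin_two, h5, mul_zero, sub_zero] at hd
    obtain ⟨g', hg1, hg'⟩ := S.ex _ ((s' * s) 0 0 * (s' * s) 0 1) (left_ne_zero_of_mul_eq_one hd)
    refine (mul_mem_cancel_left (show φ s' ∈ ψ.range from ⟨g, hs'.symm⟩)).1 ?_
    rw [← map_mul, hB _ g' h5 hg1 hg']
    exact ⟨g', rfl⟩
  have h5 : φ.ker = Subgroup.center _ := by
    ext s
    rw [Matrix.SpecialLinearGroup.mem_center_iff, MonoidHom.mem_ker]
    have hd := s.det_coe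
    rw [det_fin_two] at hd
    constructor
    · intro h
      have a1 : s 1 0 = 0 := smul_infty_eq_self_iff.1 ((hφ s ∞).symm.trans (by rw [h]; rfl))
      have a2 : s 1 1 ≠ 0 := fun h => by simp [a1, h] at hd
      have b2 : φ s o = o := by rw [h]; rfl
      have b3 : φ s (1 : F) = (1 : F) := by rw [h]; rfl
      rw [hφ, sl2_smul_some, if_neg (by simpa [a1])] at b2 b3
      have a3 : s 0 1 = 0 := by simpa [a1, a2] using b2
      have a4 : s 0 0 = s 1 1 := by simpa [a1, a3, div_eq_one_iff_eq a2] using b3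
      refine ⟨s 1 1, by simpa [a1, a4, sq] using hd, ?_⟩
      ext i j
      fin_cases i <;> fin_cases j <;> simp [a1, a3, a4]
    · rintro ⟨r, hr, h⟩
      rw [hB s 1 (by simp [← h]) (one_smul _ _) fun x => by simpa [← h] using
        (by rw [show r ^ 2 = 1 by simpa using hr, one_mul] : x = r ^ 2 * x), map_one]
  exact ⟨(MonoidHom.ofInjective (f := ψ) ((injective_iff_map_eq_one ψ).2 fun g hg =>
    S.faith g fun x => by rw [← hψ, hg]; rfl)).trans ((MulEquiv.subgroupCongr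
      (le_antisymm h3 h4)).trans ((QuotientGroup.quotientKerEquivRange φ).symm.trans
        (QuotientGroup.quotientMulEquivOfEq h5)))⟩

end P2

end GT
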