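import Cfsg.Agent.Lib.Grp.PGrp

/-!
# Normal chains of `p`-subgroups: a sign reversing involution
-/

set_option autoImplicit false
set_option linter.unusedSectionVars false

namespace GT

open Subgroup
open scoped Pointwise

variable {G : Type*} [Group G] [Finite G] {p : ℕ} [Fact p.Prime]

/-- The stabilizer of a chain. -/
def chStab (s : Finset (Subgroup G)) : Subgroup G := ⨅ Q ∈ s, normalizer (Q : Set G)

theorem le_chStab {s : Finset (Subgroup G)} {H : Subgroup G} :
    H ≤ chStab s ↔ ∀ Q ∈ s, H ≤ normalizer (Q : Set G) := le_iInf₂_iff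

theorem mem_chStab {s : Finset (Subgroup G)} {x : G} :
    x ∈ chStab s ↔ ∀ Q ∈ s, x ∈ normalizer (Q : Set G) := by
  simp [chStab, Subgroup.mem_iInf]

theorem chStab_empty : chStab (∅ : Finset (Subgroup G)) = ⊤ := by simp [chStab]

theorem mem_normalizer_finsetSup {s : Finset (Subgroup G)} {x : G}
    (h : ∀ Q ∈ s, x ∈ normalizer (Q : Set G)) :
    x ∈ normalizer ((s.sup id : Subgroup G) : Set G) := by
  refine Finset.sup_induction (p := fun Q : Subgroup G => x ∈ normalizer (Q : Set G)) ?_ ?_ h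
  · exact mem_normalizer_of_conj_mem fun y hy => by rw [mem_bot.1 hy]; simp
  · intro a ha b hb
    exact le_normalizer_sup (zpowers_le.2 ha) (zpowers_le.2 hb) (mem_zpowers x)

theorem chStab_le_normalizer_sup (s : Finset (Subgroup G)) :
    chStab s ≤ normalizer ((s.sup id : Subgroup G) : Set G) :=
  fun _ hx => mem_normalizer_finsetSup (mem_chStab.1 hx)

theorem centralizer_sup_le_chStab (s : Finset (Subgroup G)) :
    centralizer ((s.sup id : Subgroup G) : Set G) ≤ chStab s :=
  le_chStab.2 fun _ hQ => (centralizer_anti (Finset.le_sup (f := id) hQ)).trans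
    (centralizer_le_normalizer _)

/-- A (possibly empty) chain of nontrivial `p`-subgroups. -/
structure IsPChain (p : ℕ) (s : Finset (Subgroup G)) : Prop where
  total : ∀ Q ∈ s, ∀ R ∈ s, Q ≤ R ∨ R ≤ Q
  mem : ∀ Q ∈ s, Q ≠ ⊥ ∧ IsPGroup p Q

theorem IsPChain.mono {s t : Finset (Subgroup G)} (h : IsPChain p s) (hts : t ⊆ s) :
    IsPChain p t := ⟨fun Q hQ R hR => h.total Q (hts hQ) R (hts hR), fun Q hQ => h.mem Q (hts hQ)⟩

theorem IsPChain.sup_mem {s : Finset (Subgroup G)} (h : IsPChain p s) (hs : s.Nonempty) :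
    s.sup id ∈ s := by
  obtain ⟨T, hT⟩ := s.exists_maximal hs
  rw [show s.sup id = T from le_antisymm (Finset.sup_le fun Q hQ => (h.total Q hQ T hT.1).elim id
    fun h' => hT.2 hQ h') (Finset.le_sup (f := id) hT.1)]
  exact hT.1

theorem IsPChain.isPGroup_sup {s : Finset (Subgroup G)} (h : IsPChain p s) :
    IsPGroup p (s.sup id : Subgroup G) := by
  rcases s.eq_empty_or_nonempty with rfl | hs
  · exact IsPGroup.of_bot
  · exact (h.mem _ (h.sup_mem hs)).2

/-- The smallest subgroup containing `L` and normalized by `W`. -/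
def nclIn (L W : Subgroup G) : Subgroup G := sInf {K | L ≤ K ∧ W ≤ normalizer (K : Set G)}

theorem le_nclIn (L W : Subgroup G) : L ≤ nclIn L W := le_sInf fun _ h => h.1

theorem nclIn_le {L W K : Subgroup G} (h1 : L ≤ K) (h2 : W ≤ normalizer (K : Set G)) :
    nclIn L W ≤ K := sInf_le ⟨h1, h2⟩

theorem le_normalizer_nclIn (L W : Subgroup G) :
    W ≤ normalizer ((nclIn L W : Subgroup G) : Set G) := fun _ hw =>
  mem_normalizer_of_conj_mem fun _ hy => mem_sInf.2 fun K hK =>
    conj_mem_of_mem_normalizer (hK.2 hw) (mem_sInf.1 hy K hK)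

theorem mem_normalizer_nclIn {L W : Subgroup G} {x : G} (h1 : x ∈ normalizer (L : Set G))
    (h2 : x ∈ normalizer (W : Set G)) : x ∈ normalizer ((nclIn L W : Subgroup G) : Set G) := by
  refine mem_normalizer_of_conj_mem fun y hy => mem_sInf.2 fun K hK => ?_
  have h3 : nclIn L W ≤ MulAut.conj x⁻¹ • K := by
    refine nclIn_le ?_ ?_
    · rw [← conj_smul_eq_of_mem_normalizer (inv_mem h1)]
      exact conj_smul_mono _ hK.1
    · rw [← conj_smul_normalizer, ← conj_smul_eq_of_mem_normalizer (inv_mem h2)]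
      exact conj_smul_mono _ hK.2
  simpa using mem_conj_smul.1 (h3 hy)

theorem eq_of_le_nclIn {L W : Subgroup G} (hW : IsPGroup p W) (h : L ≤ W) (h' : W ≤ nclIn L W) :
    L = W := by
  by_contra hne
  obtain ⟨K, h1, h2, h3⟩ := exists_relIndex_eq_of_lt hW (lt_of_le_of_ne h hne)
  have h4 := h'.trans (nclIn_le h1 (le_normalizer_of_relIndex_eq hW h2 h3))
  rw [relIndex_eq_one.2 h4] at h3
  exact (Fact.out : p.Prime).one_lt.ne h3

open Classical in
/-- The subgroup that is inserted into or removed from a chain. -/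
noncomputable def chTog (U : Subgroup G) (s : Finset (Subgroup G)) : Subgroup G :=
  nclIn ((s.filter fun Q => ¬ U ≤ Q).sup id ⊔ U) (U ⊔ s.sup id)

section
variable {U : Subgroup G} {s : Finset (Subgroup G)}

theorem le_chTog : U ≤ chTog U s := le_sup_right.trans (le_nclIn _ _)

open Classical in
theorem chTog_le : chTog U s ≤ U ⊔ s.sup id :=
  nclIn_le (sup_le ((Finset.sup_mono (Finset.filter_subset _ _)).trans le_sup_right) le_sup_left)
    le_normalizer

theorem le_chTog_of_not_le {Q : Subgroup G} (hQ : Q ∈ s) (h : ¬ U ≤ Q) : Q ≤ chTog U s := by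
  classical
  exact ((Finset.le_sup (f := id) (Finset.mem_filter.2 ⟨hQ, h⟩)).trans le_sup_left).trans
    (le_nclIn _ _)

open Classical in
theorem chTog_le_of_le (hs : IsPChain p s) (hN : U ⊔ s.sup id ≤ chStab s) {Q : Subgroup G}
    (hQ : Q ∈ s) (h : U ≤ Q) : chTog U s ≤ Q :=
  nclIn_le (sup_le (Finset.sup_le fun R hR => (hs.total R (Finset.mem_filter.1 hR).1 Q hQ).elim id
    fun h' => absurd (h.trans h') (Finset.mem_filter.1 hR).2) h) (le_chStab.1 hN Q hQ)

variable [DecidableEq (Subgroup G)]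

theorem sup_insert_chTog : U ⊔ (insert (chTog U s) s).sup id = U ⊔ s.sup id := by
  rw [Finset.sup_insert, id]
  exact le_antisymm (sup_le le_sup_left (sup_le chTog_le le_sup_right))
    (sup_le_sup_left le_sup_right _)

theorem chTog_insert : chTog U (insert (chTog U s) s) = chTog U s := by
  classical
  conv_lhs => rw [chTog, sup_insert_chTog, Finset.filter_insert, if_neg (not_not.2 le_chTog)]
  rfl

theorem isPChain_insert_chTog (hU : IsPGroup p U) (hU1 : U ≠ ⊥) (hs : IsPChain p s)
    (hN : U ⊔ s.sup id ≤ chStab s) : IsPChain p (insert (chTog U s) s) := by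
  have h1 : ∀ Q ∈ s, Q ≤ chTog U s ∨ chTog U s ≤ Q := fun Q hQ =>
    (em (U ≤ Q)).elim (fun h => Or.inr (chTog_le_of_le hs hN hQ h))
      fun h => Or.inl (le_chTog_of_not_le hQ h)
  refine ⟨fun Q hQ R hR => ?_, fun Q hQ => ?_⟩
  · rcases Finset.mem_insert.1 hQ with rfl | hQ <;> rcases Finset.mem_insert.1 hR with rfl | hR
    · exact Or.inl le_rfl
    · exact (h1 R hR).symm
    · exact h1 Q hQ
    · exact hs.total Q hQ R hR
  · rcases Finset.mem_insert.1 hQ with rfl | hQ
    · exact ⟨fun h => hU1 (le_bot_iff.1 (h ▸ le_chTog)), (hU.to_sup_of_normal_right'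
        hs.isPGroup_sup ((le_sup_left.trans hN).trans (chStab_le_normalizer_sup s))).to_le chTog_le⟩
    · exact hs.mem Q hQ

theorem le_chStab_insert_chTog (hN : U ⊔ s.sup id ≤ chStab s) :
    U ⊔ (insert (chTog U s) s).sup id ≤ chStab (insert (chTog U s) s) := by
  rw [sup_insert_chTog, le_chStab]
  intro Q hQ
  rcases Finset.mem_insert.1 hQ with rfl | hQ
  · exact le_normalizer_nclIn _ _
  · exact le_chStab.1 hN Q hQ

theorem chStab_insert_chTog :
    chStab (insert (chTog U s) s) ⊓ normalizer (U : Set G) = chStab s ⊓ normalizer (U : Set G) := by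
  classical
  ext x
  simp only [mem_inf, mem_chStab, Finset.forall_mem_insert]
  refine ⟨fun h => ⟨h.1.2, h.2⟩, fun h => ⟨⟨mem_normalizer_nclIn ?_ ?_, h.1⟩, h.2⟩⟩
  · exact le_normalizer_sup (zpowers_le.2 (mem_normalizer_finsetSup fun Q hQ =>
      h.1 Q (Finset.mem_filter.1 hQ).1)) (zpowers_le.2 h.2) (mem_zpowers x)
  · exact le_normalizer_sup (zpowers_le.2 h.2) (zpowers_le.2 (mem_normalizer_finsetSup h.1))
      (mem_zpowers x)

theorem sup_erase_chTog (hU : IsPGroup p U) (hs : IsPChain p s) (hN : U ⊔ s.sup id ≤ chStab s)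
    : U ⊔ (s.erase (chTog U s)).sup id = U ⊔ s.sup id := by
  classical
  refine le_antisymm (sup_le_sup_left (Finset.sup_mono (Finset.erase_subset _ _)) _) ?_
  have h1 : ∀ Q ∈ s, Q ≠ chTog U s → Q ≤ U ⊔ (s.erase (chTog U s)).sup id := fun Q hQ hne =>
    (Finset.le_sup (f := id) (Finset.mem_erase.2 ⟨hne, hQ⟩)).trans le_sup_right
  by_cases h2 : ∃ Q ∈ s, Q ≠ chTog U s ∧ U ≤ Q
  · obtain ⟨Q, hQ, hne, hUQ⟩ := h2
    refine sup_le le_sup_left (Finset.sup_le fun R hR => ?_)
    by_cases hR' : R = chTog U s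
    · exact (hR' ▸ chTog_le_of_le hs hN hQ hUQ).trans (h1 Q hQ hne)
    · exact h1 R hR hR'
  · push Not at h2
    rw [← eq_of_le_nclIn (L := (s.filter fun Q => ¬ U ≤ Q).sup id ⊔ U) (hU.to_sup_of_normal_right'
        hs.isPGroup_sup ((le_sup_left.trans hN).trans (chStab_le_normalizer_sup s)))
      (sup_le ((Finset.sup_mono (Finset.filter_subset _ _)).trans le_sup_right) le_sup_left)
      (sup_le le_chTog (Finset.sup_le fun Q hQ => (em (Q = chTog U s)).elim (fun h => h.le)
        fun h => le_chTog_of_not_le hQ (h2 Q hQ h)))]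
    exact sup_le (Finset.sup_le fun Q hQ => h1 Q (Finset.mem_filter.1 hQ).1 fun h =>
      (Finset.mem_filter.1 hQ).2 (h ▸ le_chTog)) le_sup_left

theorem chTog_erase (hU : IsPGroup p U) (hs : IsPChain p s) (hN : U ⊔ s.sup id ≤ chStab s)
    : chTog U (s.erase (chTog U s)) = chTog U s := by
  classical
  have h : chTog U s ∉ s.filter fun Q => ¬ U ≤ Q := fun h => (Finset.mem_filter.1 h).2 le_chTog
  conv_lhs => rw [chTog, sup_erase_chTog hU hs hN, Finset.filter_erase,
    Finset.erase_eq_of_notMem h]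
  rfl

end

/-- The alternating sum over the normal chains normalized by `U ≠ 1` vanishes. -/
theorem sum_normalChains_eq_zero {U : Subgroup G} (hU : IsPGroup p U) (hU1 : U ≠ ⊥)
    (S : Finset (Finset (Subgroup G)))
    (hS : ∀ s, s ∈ S ↔ IsPChain p s ∧ U ⊔ s.sup id ≤ chStab s)
    (F : Subgroup G → Subgroup G → ℤ) :
    ∑ s ∈ S, (-1) ^ s.card * F (chStab s ⊓ normalizer (U : Set G)) (U ⊔ s.sup id) = 0 := by
  classical
  refine Finset.sum_involution
    (fun s _ => if chTog U s ∈ s then s.erase (chTog U s) else insert (chTog U s) s)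
    (fun s hs => ?_) (fun s _ _ => ?_) (fun s hs => ?_) (fun s hs => ?_)
  · obtain ⟨h1, h2⟩ := (hS s).1 hs
    split_ifs with h
    · have h3 := chStab_insert_chTog (U := U) (s := s.erase (chTog U s))
      rw [chTog_erase hU h1 h2, Finset.insert_erase h] at h3
      rw [← h3, sup_erase_chTog hU h1 h2, ← Finset.card_erase_add_one h]
      ring
    · rw [chStab_insert_chTog, sup_insert_chTog, Finset.card_insert_of_notMem h]
      ring
  · split_ifs with h
    · exact (Finset.erase_ssubset h).ne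
    · exact (Finset.ssubset_insert h).ne'
  · obtain ⟨h1, h2⟩ := (hS s).1 hs
    rw [hS]
    split_ifs with h
    · refine ⟨h1.mono (Finset.erase_subset _ _), ?_⟩
      rw [sup_erase_chTog hU h1 h2]
      exact le_chStab.2 fun Q hQ => le_chStab.1 h2 Q (Finset.mem_of_mem_erase hQ)
    · exact ⟨isPChain_insert_chTog hU hU1 h1 h2, le_chStab_insert_chTog h2⟩
  · obtain ⟨h1, h2⟩ := (hS s).1 hs
    by_cases h : chTog U s ∈ s
    · simp only [if_pos h, chTog_erase hU h1 h2, Finset.notMem_erase, if_false,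
        Finset.insert_erase h]
    · simp only [if_neg h, chTog_insert, Finset.mem_insert_self, if_true, Finset.erase_insert h]

end GT
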