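import Mathlib

/-!
# Groups with a normal subgroup with cyclic quotient

If `N ⊴ G` and `G = N ⊔ ⟨x⟩`, then modulo `N'` the commutator subgroup consists of the
elements `⁅x, n⁆`; this gives the counting formula `|N| |N'| = c(x) |G'|`.
-/

set_option autoImplicit false

namespace GT

open scoped commutatorElement

variable {G : Type*} [Group G]

/-- `A` abelian normal, `G = A ⟨x⟩`: every element of `G'` is a commutator `⁅x, a⁆`, `a ∈ A`. -/
theorem exists_eq_commutator_of_abelian_sup_zpowers (A : Subgroup G) [hA : A.Normal]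
    (hcomm : ∀ a ∈ A, ∀ b ∈ A, a * b = b * a) (x : G) (hx : A ⊔ Subgroup.zpowers x = ⊤)
    (g : G) (hg : g ∈ commutator G) : ∃ a ∈ A, g = x * a * x⁻¹ * a⁻¹ := by
  let R : Subgroup G :=
    { carrier := {g | ∃ a ∈ A, g = x * a * x⁻¹ * a⁻¹}
      mul_mem' := by
        rintro _ _ ⟨a, ha, rfl⟩ ⟨b, hb, rfl⟩
        refine ⟨a * b, A.mul_mem ha hb, ?_⟩
        have h1 := hcomm a⁻¹ (A.inv_mem ha) (x * b * x⁻¹ * b⁻¹)
          (A.mul_mem (hA.conj_mem b hb x) (A.inv_mem hb))
        calc x * a * x⁻¹ * a⁻¹ * (x * b * x⁻¹ * b⁻¹)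
            = x * a * x⁻¹ * (a⁻¹ * (x * b * x⁻¹ * b⁻¹)) := by group
          _ = x * a * x⁻¹ * ((x * b * x⁻¹ * b⁻¹) * a⁻¹) := by rw [h1]
          _ = x * (a * b) * x⁻¹ * (a * b)⁻¹ := by group
      one_mem' := ⟨1, A.one_mem, by group⟩
      inv_mem' := by
        rintro _ ⟨a, ha, rfl⟩
        refine ⟨a⁻¹, A.inv_mem ha, ?_⟩
        have h1 := hcomm a ha (x * a⁻¹ * x⁻¹) (hA.conj_mem _ (A.inv_mem ha) x)
        calc (x * a * x⁻¹ * a⁻¹)⁻¹ = a * (x * a⁻¹ * x⁻¹) := by group
          _ = (x * a⁻¹ * x⁻¹) * a := h1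
          _ = x * a⁻¹ * x⁻¹ * a⁻¹⁻¹ := by group }
  have hRA : R ≤ A := by
    rintro _ ⟨a, ha, rfl⟩
    exact A.mul_mem (hA.conj_mem a ha x) (A.inv_mem ha)
  have hRn : R.Normal := by
    rw [← Subgroup.normalizer_eq_top_iff, eq_top_iff, ← hx, sup_le_iff]
    constructor
    · intro a ha
      rw [Subgroup.mem_normalizer_iff]
      intro h
      constructor
      · intro hh
        rw [hcomm a ha h (hRA hh), mul_inv_cancel_right]; exact hh
      · intro hh
        have h1 : h ∈ A := by
          have := hA.conj_mem _ (hRA hh) a⁻¹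
          simpa [mul_assoc] using this
        rw [hcomm a ha h h1, mul_inv_cancel_right] at hh; exact hh
    · rw [Subgroup.zpowers_le, Subgroup.mem_normalizer_iff]
      intro h
      constructor
      · rintro ⟨a, ha, rfl⟩
        exact ⟨x * a * x⁻¹, hA.conj_mem a ha x, by group⟩
      · rintro ⟨a, ha, h1⟩
        refine ⟨x⁻¹ * a * x, by simpa using hA.conj_mem a ha x⁻¹, ?_⟩
        calc h = x⁻¹ * (x * h * x⁻¹) * x := by group
          _ = x⁻¹ * (x * a * x⁻¹ * a⁻¹) * x := by rw [h1]
          _ = _ := by group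
  have key : ∀ g : G, (∀ a ∈ A, Commute (QuotientGroup.mk' R g) (QuotientGroup.mk' R a)) →
      Commute (QuotientGroup.mk' R g) (QuotientGroup.mk' R x) →
      ∀ h : G, Commute (QuotientGroup.mk' R g) (QuotientGroup.mk' R h) := by
    intro g h1 h2 h
    have : (⊤ : Subgroup G) ≤
        (Subgroup.centralizer {QuotientGroup.mk' R g}).comap (QuotientGroup.mk' R) := by
      rw [← hx, sup_le_iff, Subgroup.zpowers_le]
      constructor
      · intro a ha
        rw [Subgroup.mem_comap, Subgroup.mem_centralizer_singleton_iff]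
        exact (h1 a ha).symm
      · rw [Subgroup.mem_comap, Subgroup.mem_centralizer_singleton_iff]
        exact h2.symm
    have := this (Subgroup.mem_top h)
    rw [Subgroup.mem_comap, Subgroup.mem_centralizer_singleton_iff] at this
    exact this.symm
  have hxa : ∀ a ∈ A, Commute (QuotientGroup.mk' R x) (QuotientGroup.mk' R a) := by
    intro a ha
    rw [← commutatorElement_eq_one_iff_commute, ← map_commutatorElement, QuotientGroup.mk'_apply,
      QuotientGroup.eq_one_iff]
    exact ⟨a, ha, rfl⟩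
  have hall : ∀ g h : G, Commute (QuotientGroup.mk' R g) (QuotientGroup.mk' R h) := by
    intro g
    apply key
    · intro a ha
      refine (key a (fun b hb => ?_) (hxa a ha).symm g).symm
      show _ * _ = _ * _
      rw [← map_mul, ← map_mul, hcomm a ha b hb]
    · exact (key x hxa (Commute.refl _) g).symm
  have : commutator G ≤ R := by
    rw [commutator_def, Subgroup.commutator_le]
    intro g _ h _
    rw [← QuotientGroup.eq_one_iff, ← QuotientGroup.mk'_apply, map_commutatorElement,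
      commutatorElement_eq_one_iff_commute]
    exact hall g h
  exact this hg

/-- `N ⊴ G`, `G = N ⟨x⟩`: `|N| |N'| = c(x) |G'|`, `c(x)` the number of `n ∈ N` with `⁅x, n⁆ ∈ N'`. -/
theorem card_mul_card_commutator_of_sup_zpowers [Finite G] (N : Subgroup G) [hN : N.Normal] (x : G)
    (hx : N ⊔ Subgroup.zpowers x = ⊤) :
    Nat.card N * Nat.card ↥⁅N, N⁆ =
      Nat.card {n : N // x * n * x⁻¹ * (n : G)⁻¹ ∈ ⁅N, N⁆} * Nat.card (commutator G) := by
  let π := QuotientGroup.mk' ⁅N, N⁆
  have hπ : Function.Surjective π := QuotientGroup.mk'_surjective _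
  have hcomm : ∀ a ∈ N, ∀ b ∈ N, π a * π b = π b * π a := by
    intro a ha b hb
    rw [← commutatorElement_eq_one_iff_mul_comm, ← map_commutatorElement, QuotientGroup.mk'_apply,
      QuotientGroup.eq_one_iff]
    exact Subgroup.commutator_mem_commutator ha hb
  let φ : N →* G ⧸ ⁅N, N⁆ := MonoidHom.mk' (fun n => π (x * n * x⁻¹ * (n : G)⁻¹)) (by
    intro a b
    have h1 := hcomm (a : G)⁻¹ (N.inv_mem a.2) (x * b * x⁻¹ * (b : G)⁻¹)
      (N.mul_mem (hN.conj_mem b b.2 x) (N.inv_mem b.2))
    calc π (x * (a * b : N) * x⁻¹ * ((a * b : N) : G)⁻¹)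
        = π (x * a * x⁻¹) * (π (x * b * x⁻¹ * (b : G)⁻¹) * π (a : G)⁻¹) := by
          rw [← map_mul, ← map_mul]; congr 1; rw [Subgroup.coe_mul]; group
      _ = π (x * a * x⁻¹) * (π (a : G)⁻¹ * π (x * b * x⁻¹ * (b : G)⁻¹)) := by rw [h1]
      _ = _ := by simp only [← map_mul]; congr 1; group)
  have hφ : ∀ n : N, φ n = π (x * n * x⁻¹ * (n : G)⁻¹) := fun n => rfl
  have hker : Nat.card φ.ker = Nat.card {n : N // x * n * x⁻¹ * (n : G)⁻¹ ∈ ⁅N, N⁆} := by
    refine Nat.card_congr (Equiv.subtypeEquivRight fun n => ?_)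
    rw [MonoidHom.mem_ker, hφ, QuotientGroup.mk'_apply, QuotientGroup.eq_one_iff]
  have hrange : φ.range = (commutator G).map π := by
    apply le_antisymm
    · rintro _ ⟨n, rfl⟩
      exact ⟨_, Subgroup.commutator_mem_commutator (Subgroup.mem_top x) (Subgroup.mem_top (n : G)),
        rfl⟩
    · intro g hg
      have hg' : g ∈ commutator (G ⧸ ⁅N, N⁆) := by
        rw [map_commutator_eq, MonoidHom.range_eq_top.mpr hπ] at hg
        exact hg
      have : (N.map π).Normal := hN.map π hπ
      obtain ⟨_, ⟨a, ha, rfl⟩, rfl⟩ := exists_eq_commutator_of_abelian_sup_zpowers (N.map π)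
        (by rintro _ ⟨a, ha, rfl⟩ _ ⟨b, hb, rfl⟩; exact hcomm a ha b hb) (π x)
        (by rw [← MonoidHom.map_zpowers, ← Subgroup.map_sup, hx, Subgroup.map_top_of_surjective _ hπ])
        g hg'
      exact ⟨⟨a, ha⟩, by rw [hφ]; simp only [map_mul, map_inv]⟩
  have h1 : Nat.card N = Nat.card φ.ker * Nat.card φ.range := by
    rw [← φ.ker.card_mul_index, Subgroup.index_ker]
  have hle : ⁅N, N⁆ ≤ commutator G := Subgroup.commutator_mono le_top le_top
  have h2 : Nat.card ↥((commutator G).map π) * Nat.card ↥⁅N, N⁆ = Nat.card (commutator G) := by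
    have h3 := (π.comp (commutator G).subtype).ker.card_mul_index
    rw [Subgroup.index_ker, MonoidHom.range_comp, Subgroup.range_subtype] at h3
    rw [← h3, mul_comm]
    congr 1
    have : (π.comp (commutator G).subtype).ker = (⁅N, N⁆).subgroupOf (commutator G) := by
      rw [← MonoidHom.comap_ker, QuotientGroup.ker_mk']; rfl
    rw [this]
    exact (Nat.card_congr (Subgroup.subgroupOfEquivOfLe hle).toEquiv).symm
  rw [h1, hker, hrange, mul_assoc, h2]

/-- `A` abelian normal, `G = A ⟨x⟩`: `|A| = |C_A(x)| |G'|`. -/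
theorem card_eq_card_centralizer_mul_card_commutator [Finite G] (A : Subgroup G) [A.Normal]
    (hcomm : ∀ a ∈ A, ∀ b ∈ A, a * b = b * a) (x : G) (hx : A ⊔ Subgroup.zpowers x = ⊤) :
    Nat.card A = Nat.card ↥(A ⊓ Subgroup.centralizer {x}) * Nat.card (commutator G) := by
  have h0 : ⁅A, A⁆ = ⊥ := by
    rw [Subgroup.commutator_eq_bot_iff_le_centralizer]
    intro a ha b hb
    exact hcomm b hb a ha
  have := card_mul_card_commutator_of_sup_zpowers A x hx
  rw [h0, Subgroup.card_bot, mul_one] at this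
  rw [this]
  congr 1
  refine Nat.card_congr ⟨fun n => ⟨n.1.1, n.1.2, ?_⟩, fun n => ⟨⟨n.1, n.2.1⟩, ?_⟩, fun _ => rfl,
    fun _ => rfl⟩
  · have := n.2
    rw [Subgroup.mem_bot, mul_inv_eq_one, mul_inv_eq_iff_eq_mul] at this
    exact Subgroup.mem_centralizer_singleton_iff.mpr this.symm
  · have := Subgroup.mem_centralizer_singleton_iff.mp n.2.2
    rw [Subgroup.mem_bot, mul_inv_eq_one, mul_inv_eq_iff_eq_mul]
    exact this.symm

/-- `A` abelian normal, `G = A ⟨x⟩`: `C_A(x) = A ∩ Z(G)`. -/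
theorem inf_centralizer_eq_inf_center_of_sup_zpowers (A : Subgroup G)
    (hcomm : ∀ a ∈ A, ∀ b ∈ A, a * b = b * a) (x : G) (hx : A ⊔ Subgroup.zpowers x = ⊤) :
    A ⊓ Subgroup.centralizer {x} = A ⊓ Subgroup.center G := by
  apply le_antisymm
  · rintro a ⟨ha, hax⟩
    refine ⟨ha, ?_⟩
    have : (⊤ : Subgroup G) ≤ Subgroup.centralizer {a} := by
      rw [← hx, sup_le_iff, Subgroup.zpowers_le]
      constructor
      · intro b hb
        rw [Subgroup.mem_centralizer_singleton_iff]
        exact hcomm b hb a ha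
      · rw [Subgroup.mem_centralizer_singleton_iff]
        exact (Subgroup.mem_centralizer_singleton_iff.mp hax).symm
    refine Subgroup.mem_center_iff.mpr fun g => ?_
    exact Subgroup.mem_centralizer_singleton_iff.mp (this (Subgroup.mem_top g))
  · exact inf_le_inf_left _ (Subgroup.center_le_centralizer _)

/-- A subgroup of prime index together with any element outside it generates the group. -/
theorem sup_zpowers_eq_top_of_index_prime {N : Subgroup G} (hp : N.index.Prime) {x : G}
    (hx : x ∉ N) : N ⊔ Subgroup.zpowers x = ⊤ := by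
  have h1 := Subgroup.relIndex_mul_index (H := N) (K := N ⊔ Subgroup.zpowers x) le_sup_left
  have h2 : (N ⊔ Subgroup.zpowers x).index ∣ N.index := Subgroup.index_dvd_of_le le_sup_left
  rcases (Nat.dvd_prime hp).mp h2 with h | h
  · exact Subgroup.index_eq_one.mp h
  · exfalso
    rw [h] at h1
    have h3 : N.relIndex (N ⊔ Subgroup.zpowers x) = 1 := by
      have := hp.pos
      nlinarith [Nat.eq_of_mul_eq_mul_right this (h1.trans (one_mul _).symm)]
    rw [Subgroup.relIndex_eq_one] at h3
    exact hx (h3 (Subgroup.mem_sup_right (Subgroup.mem_zpowers x)))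

end GT
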