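import Cfsg.Agent.Lib.Grp.Coprime

/-!
# An involutory automorphism attached to a coprime action

If `S` acts coprimely on `G` and `K = ⁅G, S⁆` has central derived subgroup `D`, there is an
involutory automorphism of `G` commuting with `S`, fixing `C_G(S)` and inverting `K / D`.
-/

set_option autoImplicit false

namespace GT

open Subgroup
open scoped commutatorElement

variable {Γ : Type*} [Group Γ]

theorem normal_of_le_center'' {Z : Subgroup Γ} (h : Z ≤ center Γ) : Z.Normal :=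
  ⟨fun z hz g => by rwa [mem_center_iff.1 (h hz) g, mul_inv_cancel_right]⟩

theorem CoprimeAct.inf_centralizer_le_commutator [Finite Γ] {S M : Subgroup Γ}
    (H : CoprimeAct S M) (hM : ⁅M, S⁆ = M) [(⁅M, M⁆).Normal] :
    M ⊓ centralizer (S : Set Γ) ≤ ⁅M, M⁆ := by
  let f := QuotientGroup.mk' ⁅M, M⁆
  have : IsMulCommutative (M.map f) := by
    rw [← commutator_self_eq_bot_iff, ← map_commutator, map_mk'_eq_bot_iff]
  have h1 := (H.map f).disjoint_commutator_centralizer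
  rw [← map_commutator, hM, disjoint_iff, ← H.map_inf_centralizer] at h1
  exact map_mk'_eq_bot_iff.1 h1

/-- Pairs of elements of `K` which are mutually inverse modulo `K'`. -/
def invPairs (K : Subgroup Γ) : Subgroup (Γ × Γ) where
  carrier := {p | p.1 ∈ K ∧ p.2 ∈ K ∧ p.1 * p.2 ∈ ⁅K, K⁆}
  one_mem' := ⟨one_mem _, one_mem _, by simp⟩
  mul_mem' := fun {p q} ⟨h1, h2, h3⟩ ⟨h4, h5, h6⟩ => ⟨mul_mem h1 h4, mul_mem h2 h5, by
    have := mul_mem (mul_mem h3 (commutator_mem_commutator (inv_mem h2) h4)) h6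
    convert this using 1
    simp only [Prod.fst_mul, Prod.snd_mul, commutatorElement_def]
    group⟩
  inv_mem' := fun {p} ⟨h1, h2, h3⟩ => ⟨inv_mem h1, inv_mem h2, by
    have := mul_mem (commutator_mem_commutator (inv_mem h1) (inv_mem h2)) (inv_mem h3)
    convert this using 1
    simp only [Prod.fst_inv, Prod.snd_inv, commutatorElement_def]
    group⟩

theorem mem_invPairs {K : Subgroup Γ} {p : Γ × Γ} :
    p ∈ invPairs K ↔ p.1 ∈ K ∧ p.2 ∈ K ∧ p.1 * p.2 ∈ ⁅K, K⁆ := Iff.rfl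

theorem swap_mem_invPairs {K : Subgroup Γ} {p : Γ × Γ} (h : p ∈ invPairs K) :
    p.swap ∈ invPairs K := ⟨h.2.1, h.1, by
  have := mul_mem (commutator_mem_commutator h.2.1 h.1) h.2.2
  convert this using 1
  simp only [Prod.fst_swap, Prod.snd_swap, commutatorElement_def]
  group⟩

theorem diag_mem_normalizer_invPairs [Finite Γ] {K : Subgroup Γ} {x : Γ}
    (hx : x ∈ normalizer (K : Set Γ)) : (x, x) ∈ normalizer (invPairs K : Set (Γ × Γ)) := by
  refine mem_normalizer_of_conj_mem fun p ⟨h1, h2, h3⟩ =>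
    ⟨conj_mem_of_mem_normalizer hx h1, conj_mem_of_mem_normalizer hx h2, ?_⟩
  have h4 := le_normalizer_commutator (A := zpowers x) (zpowers_le.2 hx) (zpowers_le.2 hx)
  convert conj_mem_of_mem_normalizer (h4 (mem_zpowers x)) h3 using 1
  simp only [Prod.fst_mul, Prod.snd_mul, Prod.fst_inv, Prod.snd_inv]
  group

theorem commutator_invPairs_le {K : Subgroup Γ} (hZ : ⁅K, K⁆ ≤ center Γ) :
    ⁅invPairs K, invPairs K⁆ ≤ ⁅K, K⁆.map ((MonoidHom.id Γ).prod (MonoidHom.id Γ)) := by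
  rw [commutator_le]
  rintro ⟨a, b⟩ ⟨h1, h2, h3⟩ ⟨c, d⟩ ⟨h4, h5, h6⟩
  refine ⟨⁅a, c⁆, commutator_mem_commutator h1 h4, Prod.ext rfl ?_⟩
  have h7 := mem_center_iff.1 (hZ h3)
  have h8 := mem_center_iff.1 (hZ h6)
  have h9 := mem_center_iff.1 (hZ (commutator_mem_commutator h1 h4))
  dsimp only at h7 h8
  change ⁅a, c⁆ = ⁅b, d⁆
  obtain ⟨z, rfl⟩ : ∃ z, b = a⁻¹ * z := ⟨a * b, by group⟩
  obtain ⟨w, rfl⟩ : ∃ w, d = c⁻¹ * w := ⟨c * d, by group⟩
  rw [mul_inv_cancel_left] at h7 h8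
  calc ⁅a, c⁆ = (c * a)⁻¹ * ⁅a, c⁆ * (c * a) := by rw [h9]; group
    _ = a⁻¹ * c⁻¹ * (w * a * w⁻¹) * c := by rw [← h8, commutatorElement_def]; group
    _ = a⁻¹ * (z * (c⁻¹ * w) * z⁻¹) * a * w⁻¹ * c := by rw [← h7]; group
    _ = _ := by rw [commutatorElement_def]; group

theorem CoprimeAct.exists_inversion [Finite Γ] {S G : Subgroup Γ} (H : CoprimeAct S G)
    (hZ : ⁅⁅G, S⁆, ⁅G, S⁆⁆ ≤ center Γ) :
    ∃ σ : MulAut G, (∀ g, σ (σ g) = g) ∧ (∀ c : G, (c : Γ) ∈ centralizer (S : Set Γ) → σ c = c) ∧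
      (∀ k : G, (k : Γ) ∈ ⁅G, S⁆ → (k * σ k : Γ) ∈ ⁅⁅G, S⁆, ⁅G, S⁆⁆) ∧
      ∀ s ∈ S, ∀ g g' : G, (g' : Γ) = s * g * s⁻¹ → (σ g' : Γ) = s * σ g * s⁻¹ := by
  set K := ⁅G, S⁆ with hK
  have HK : CoprimeAct S K := H.commutator
  have hKG : K ≤ G := H.commutator_le
  have hKS : ⁅K, S⁆ = K := H.commutator_commutator_eq
  let δ : Γ →* Γ × Γ := (MonoidHom.id Γ).prod (MonoidHom.id Γ)
  let C := G ⊓ centralizer (S : Set Γ)
  have hΔ : invPairs K ≤ K.prod K := fun p h => ⟨h.1, h.2.1⟩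
  have H2 : CoprimeAct (S.map δ) (invPairs K) := by
    refine ⟨?_, ?_, ?_⟩
    · rintro _ ⟨s, hs, rfl⟩
      exact diag_mem_normalizer_invPairs (HK.norm hs)
    · refine Nat.Coprime.of_dvd (card_dvd_of_le hΔ) (card_map_dvd S δ) ?_
      rw [Nat.card_congr (K.prodEquiv K).toEquiv, Nat.card_prod]
      exact HK.cop.mul_left HK.cop
    · rcases HK.solv with h | h
      · have := isSolvable_of_mulEquiv (K.prodEquiv K).symm
        exact .inl (isSolvable_of_le hΔ)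
      · exact .inr (isSolvable_map S δ)
  set M := ⁅invPairs K, S.map δ⁆ with hM
  have hMΔ : M ≤ invPairs K := H2.commutator_le
  have hMM : ⁅M, M⁆ ≤ ⁅K, K⁆.map δ := (commutator_mono hMΔ hMΔ).trans (commutator_invPairs_le hZ)
  have hMn : ⁅M, M⁆.Normal := normal_of_le_center'' (hMM.trans (by
    rintro _ ⟨z, hz, rfl⟩
    exact mem_center_iff.2 fun p => Prod.ext (mem_center_iff.1 (hZ hz) p.1)
      (mem_center_iff.1 (hZ hz) p.2)))
  have h1 := (H2.commutator.inf_centralizer_le_commutator H2.commutator_commutator_eq).trans hMM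
  have hKn := normal_of_le_center'' hZ
  have h2 := HK.inf_centralizer_le_commutator hKS
  have hCM : C.map δ ≤ normalizer (M : Set (Γ × Γ)) := by
    refine le_normalizer_commutator ?_ (le_normalizer_of_le_centralizer ?_)
    · rintro _ ⟨c, hc, rfl⟩
      exact diag_mem_normalizer_invPairs (le_normalizer_commutator (A := C)
        (inf_le_left.trans le_normalizer) (le_normalizer_of_le_centralizer inf_le_right) hc)
    · rintro _ ⟨c, hc, rfl⟩ _ ⟨s, hs, rfl⟩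
      rw [← map_mul, ← map_mul, hc.2 s hs]
  have hfst : M.map (MonoidHom.fst Γ Γ) = K := by
    rw [hM, map_commutator, map_map, show (MonoidHom.fst Γ Γ).comp δ = MonoidHom.id Γ from rfl,
      map_id, show (invPairs K).map (MonoidHom.fst Γ Γ) = K from le_antisymm ?_ ?_, hKS]
    · rintro _ ⟨p, hp, rfl⟩; exact hp.1
    · exact fun k hk => ⟨(k, k⁻¹), ⟨hk, inv_mem hk, by simp⟩, rfl⟩
  have hswap : M.map (MulEquiv.prodComm : Γ × Γ ≃* Γ × Γ).toMonoidHom ≤ M := by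
    rw [hM, map_commutator]
    refine commutator_mono ?_ ?_
    · rintro _ ⟨p, hp, rfl⟩; exact swap_mem_invPairs hp
    · rintro _ ⟨_, ⟨s, hs, rfl⟩, rfl⟩; exact ⟨s, hs, rfl⟩
  have hmem : ∀ p : Γ × Γ, p ∈ M ⊔ C.map δ ↔ ∃ m ∈ M, ∃ c ∈ C, m * δ c = p := fun p => by
    rw [mem_sup_of_le_normalizer_left hCM]
    exact ⟨fun ⟨m, hm, _, ⟨c, hc, rfl⟩, e⟩ => ⟨m, hm, c, hc, e⟩,
      fun ⟨m, hm, c, hc, e⟩ => ⟨m, hm, _, ⟨c, hc, rfl⟩, e⟩⟩
  have hdiag : ∀ m ∈ M, m.1 ∈ centralizer (S : Set Γ) → m.2 = m.1 := fun m hm hc => by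
    have h3 := h2 ⟨(hMΔ hm).1, hc⟩
    have h4 : m.2 ∈ ⁅K, K⁆ := by simpa using mul_mem (inv_mem h3) (hMΔ hm).2.2
    obtain ⟨z, -, e⟩ := h1 (x := m) ⟨hm, by
      rintro _ ⟨s, hs, rfl⟩
      exact Prod.ext (mem_center_iff.1 (hZ h3) s) (mem_center_iff.1 (hZ h4) s)⟩
    rw [← e]; rfl
  let W : Subgroup (G × G) := (M ⊔ C.map δ).comap (G.subtype.prodMap G.subtype)
  obtain ⟨f, hf⟩ := Subgroup.exists_eq_graph (G := W) (by
    refine ⟨(injective_iff_map_eq_one ((MonoidHom.fst G G).comp W.subtype)).2 ?_, fun g => ?_⟩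
    · rintro ⟨⟨x, y⟩, hp⟩ e
      obtain rfl : x = 1 := e
      obtain ⟨m, hm, c, hc, e⟩ := (hmem _).1 hp
      have e1 : m.1 * c = 1 := congrArg Prod.fst e
      have e2 : m.2 * c = y := congrArg Prod.snd e
      rw [hdiag m hm (by rw [eq_inv_of_mul_eq_one_left e1]; exact inv_mem hc.2), e1] at e2
      exact Subtype.ext (Prod.ext rfl (Subtype.ext e2.symm))
    · obtain ⟨k, hk, c, hc, e⟩ := H.exists_commutator_mul_centralizer g.2
      obtain ⟨m, hm, rfl⟩ := hfst.ge hk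
      exact ⟨⟨(g, ⟨m.2 * c, mul_mem (hKG (hMΔ hm).2.1) hc.1⟩),
        (hmem _).2 ⟨m, hm, c, hc, Prod.ext e rfl⟩⟩, rfl⟩)
  have hW : ∀ x y : G, f x = y ↔ ((x : Γ), (y : Γ)) ∈ M ⊔ C.map δ := fun x y =>
    (MonoidHom.mem_graph (x := (x, y))).symm.trans (by rw [← hf]; rfl)
  have hff : ∀ g, f (f g) = g := fun g => by
    obtain ⟨m, hm, c, hc, e⟩ := (hmem _).1 ((hW g _).1 rfl)
    exact (hW _ _).2 ((hmem _).2 ⟨_, hswap ⟨m, hm, rfl⟩, c, hc, congrArg Prod.swap e⟩)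
  refine ⟨f.toMulEquiv f (MonoidHom.ext hff) (MonoidHom.ext hff), hff, fun c hc => ?_,
    fun k hk => ?_, fun s hs g g' e => ?_⟩
  · exact (hW c c).2 (mem_sup_right ⟨c, ⟨c.2, hc⟩, rfl⟩)
  · obtain ⟨m, hm, e⟩ := hfst.ge hk
    have h3 : f k = ⟨m.2, hKG (hMΔ hm).2.1⟩ := (hW _ _).2 (mem_sup_left (by rw [← e]; exact hm))
    change (k : Γ) * f k ∈ _
    rw [h3, ← e]
    exact (hMΔ hm).2.2
  · have h3 : S.map δ ≤ normalizer ((M ⊔ C.map δ : Subgroup (Γ × Γ)) : Set (Γ × Γ)) :=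
      le_normalizer_sup H2.commutator.norm (map_le_normalizer_map
        (le_normalizer_of_le_centralizer (le_centralizer_iff.1 inf_le_right)) δ)
    have h4 := conj_mem_of_mem_normalizer (h3 ⟨s, hs, rfl⟩) ((hW g _).1 rfl)
    exact congrArg Subtype.val ((hW g' ⟨_, conj_mem_of_mem_normalizer (H.norm hs) (f g).2⟩).2
      (by rw [e]; exact h4))

end GT
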