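import Mathlib

/-!
# Zsigmondy primes
-/

set_option autoImplicit false

namespace GT

open Polynomial

theorem zsig_aux {a n r : ℕ} (hn : n ≠ 0) (hr : r.Prime)
    (h : (r : ℤ) ∣ (cyclotomic n ℤ).eval (a : ℤ)) :
    ∃ k m, n = r ^ k * m ∧ ¬ r ∣ m ∧ m ∣ r - 1 ∧ ∀ j, (r : ℤ) ∣ (a : ℤ) ^ j - 1 ↔ m ∣ j := by
  haveI := Fact.mk hr
  obtain ⟨k, m, hm, rfl⟩ := Nat.exists_eq_pow_mul_and_not_dvd hn r hr.ne_one
  haveI : NeZero (m : ZMod r) := ⟨by rwa [Ne, ZMod.natCast_eq_zero_iff]⟩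
  have h1 : (cyclotomic (r ^ k * m) (ZMod r)).IsRoot (a : ZMod r) := by
    have h2 := (ZMod.intCast_zmod_eq_zero_iff_dvd _ r).2 h
    rw [IsRoot.def, ← map_cyclotomic_int, eval_map, ← Int.cast_natCast (R := ZMod r) a]
    rw [← eq_intCast (Int.castRingHom (ZMod r)), ← eval₂_at_apply] at h2
    simpa using h2
  rw [isRoot_cyclotomic_prime_pow_mul_iff_of_charP] at h1
  have hm0 : m ≠ 0 := by rintro rfl; exact hm (dvd_zero r)
  have h3 : ∀ j, (r : ℤ) ∣ (a : ℤ) ^ j - 1 ↔ m ∣ j := fun j => by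
    rw [← h1.pow_eq_one_iff_dvd, ← ZMod.intCast_zmod_eq_zero_iff_dvd]
    push_cast
    exact sub_eq_zero
  refine ⟨k, m, rfl, hm, ?_, h3⟩
  rw [← h1.pow_eq_one_iff_dvd]
  exact ZMod.pow_card_sub_one_eq_one (h1.ne_zero hm0)

/-- **Zsigmondy's theorem** for `a ≥ 3`, `n ≥ 3`. -/
theorem exists_zsigmondy {a n : ℕ} (ha : 3 ≤ a) (hn : 3 ≤ n) :
    ∃ r : ℕ, r.Prime ∧ (r : ℤ) ∣ (a : ℤ) ^ n - 1 ∧
      ∀ j, 0 < j → j < n → ¬ (r : ℤ) ∣ (a : ℤ) ^ j - 1 := by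
  by_contra hcon
  push Not at hcon
  set N := ((cyclotomic n ℤ).eval (a : ℤ)).natAbs with hN
  have hlt : (a - 1) ^ n.totient < N :=
    sub_one_pow_totient_lt_natAbs_cyclotomic_eval (by omega) (by omega)
  have hlt2 : 2 ^ n.totient < N := lt_of_le_of_lt (Nat.pow_le_pow_left (by omega) _) hlt
  have hA : ∀ r : ℕ, r.Prime → r ∣ N → ∃ k m, n = r ^ (k + 1) * m ∧ ¬ r ∣ m ∧ m ∣ r - 1 ∧
      ∀ j, (r : ℤ) ∣ (a : ℤ) ^ j - 1 ↔ m ∣ j := by
    intro r hr h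
    obtain ⟨k, m, h1, h2, h3, h4⟩ := zsig_aux (a := a) (n := n) (by omega) hr
      (Int.natCast_dvd.2 h)
    rcases k with _ | k
    · rw [pow_zero, one_mul] at h1
      subst h1
      obtain ⟨j, hj0, hjn, hj⟩ := hcon r hr ((h4 n).2 dvd_rfl)
      exact absurd (Nat.le_of_dvd hj0 ((h4 j).1 hj)) (by omega)
    · exact ⟨k, m, h1, h2, h3, h4⟩
  have hC : ∀ r s : ℕ, r.Prime → s.Prime → r ∣ N → s ∣ N → r ≠ s → s < r := by
    intro r s hr hs h h' hne
    obtain ⟨k, m, h1, -, h3, -⟩ := hA r hr h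
    obtain ⟨k', m', h1', -⟩ := hA s hs h'
    have h4 : s ∣ r ^ (k + 1) * m := by rw [← h1, h1', pow_succ', mul_assoc]; exact dvd_mul_right _ _
    have h5 : s ∣ m := ((Nat.coprime_primes hs hr).2 hne.symm).pow_right _ |>.dvd_of_dvd_mul_left h4
    have := hr.two_le
    have := Nat.le_of_dvd (by omega) (h5.trans h3)
    omega
  have hN1 : N ≠ 1 := by have := Nat.one_le_two_pow (n := n.totient); omega
  obtain ⟨r, hr, hrN⟩ := Nat.exists_prime_and_dvd hN1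
  obtain ⟨k, m, h1, h2, h3, h4⟩ := hA r hr hrN
  have hB : ¬ r ^ 2 ∣ N := by
    intro h
    set d := r ^ k * m with hd
    have hnd : n = d * r := by rw [h1, hd]; ring
    have hd0 : 0 < d := Nat.pos_of_ne_zero fun h0 => by rw [h0] at hnd; omega
    have hdn : d ∈ n.properDivisors := Nat.mem_properDivisors.2
      ⟨⟨r, hnd⟩, by rw [hnd]; exact lt_mul_of_one_lt_right hd0 hr.one_lt⟩
    have h5 := eval_dvd (x := (a : ℤ))
      (X_pow_sub_one_mul_cyclotomic_dvd_X_pow_sub_one_of_dvd ℤ hdn)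
    simp only [eval_mul, eval_sub, eval_pow, eval_X, eval_one] at h5
    set b : ℤ := (a : ℤ) ^ d with hb
    have hb1 : b - 1 ≠ 0 := by
      have : (1 : ℤ) < b := one_lt_pow₀ (by exact_mod_cast (by omega : 1 < a)) hd0.ne'
      omega
    rw [hnd, pow_mul, ← hb, ← mul_geom_sum b r, mul_dvd_mul_iff_left hb1, ← hnd] at h5
    have h6 : (r : ℤ) ^ 2 ∣ ∑ i ∈ Finset.range r, b ^ i :=
      (by exact_mod_cast Int.natCast_dvd.2 h : (r : ℤ) ^ 2 ∣ _).trans h5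
    obtain ⟨c, hc⟩ := (h4 d).2 (dvd_mul_left _ _)
    rcases hr.eq_two_or_odd' with rfl | hodd
    · obtain rfl : m = 1 := Nat.dvd_one.1 h3
      rcases k with _ | k
      · omega
      have h7 : b = ((a : ℤ) ^ 2 ^ k) ^ 2 := by rw [hb, hd, ← pow_mul, mul_one, pow_succ]
      have h8 : (4 : ℤ) ∣ 1 + b := by simpa [Finset.sum_range_succ] using h6
      rw [h7] at h8
      generalize (a : ℤ) ^ 2 ^ k = x at h8
      have h9 : x % 4 = 0 ∨ x % 4 = 1 ∨ x % 4 = 2 ∨ x % 4 = 3 := by omega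
      have h10 : (1 + x ^ 2) % 4 = 0 := Int.emod_eq_zero_of_dvd h8
      rcases h9 with h9 | h9 | h9 | h9 <;> simp [pow_two, Int.add_emod, Int.mul_emod, h9] at h10
    · have h7 := odd_sq_dvd_geom_sum₂_sub (R := ℤ) 1 c hodd
      simp only [one_pow, mul_one] at h7
      rw [show 1 + (r : ℤ) * c = b by rw [hb]; linarith] at h7
      have h8 : (r : ℤ) ^ 2 ∣ r := by simpa using (dvd_sub h6 h7)
      have h9 : r ^ 2 ∣ r := by exact_mod_cast h8
      have := Nat.le_of_dvd hr.pos h9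
      nlinarith [hr.two_le]
  obtain ⟨t, ht⟩ := hrN
  have ht1 : t = 1 := by
    by_contra h
    obtain ⟨s, hs, hst⟩ := Nat.exists_prime_and_dvd h
    have hsN : s ∣ N := ht ▸ hst.mul_left r
    by_cases hrs : r = s
    · subst hrs
      exact hB (ht ▸ by rw [pow_two]; exact mul_dvd_mul_left r hst)
    · have := hC r s hr hs ⟨t, ht⟩ hsN hrs
      have := hC s r hs hr hsN ⟨t, ht⟩ (Ne.symm hrs)
      omega
  have h5 : r - 1 ≤ n.totient := by
    rw [← Nat.totient_prime hr]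
    exact Nat.le_of_dvd (Nat.totient_pos.2 (by omega))
      (Nat.totient_dvd_of_dvd (by rw [h1, pow_succ', mul_assoc]; exact dvd_mul_right _ _))
  have h6 : r - 1 < 2 ^ (r - 1) := Nat.lt_two_pow_self
  have h7 := Nat.pow_le_pow_right (n := 2) (by norm_num) h5
  rw [ht, ht1, mul_one] at hlt2
  omega

end GT
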