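import Cfsg.Agent.Lib.Grp.SylowIn
import Cfsg.Agent.Lib.Grp.PGrp

/-!
# `p`-subgroups under homomorphisms with central kernel

Radical subgroups and Sylow subgroups of centralizers of `p`-regular elements are preserved; a
central `p`-element of the derived subgroup lies in the derived subgroup of a Sylow subgroup.
-/

set_option autoImplicit false
set_option linter.unusedSectionVars false

namespace GT

open Subgroup
open scoped Pointwise

variable {H K : Type*} [Group H] [Group K] {π : H →* K} (hπ : π.ker ≤ center H)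

include hπ in
theorem comm_mem_center {x y : H} (h : Commute (π x) (π y)) : x * y * x⁻¹ * y⁻¹ ∈ center H :=
  hπ (by rw [MonoidHom.mem_ker, map_mul, map_mul, map_mul, map_inv, map_inv, h.eq]; group)

theorem conj_pow_eq_of_central {x y z : H} (hz : z ∈ center H) (h : x * y * x⁻¹ = z * y) (n : ℕ) :
    x ^ n * y * (x ^ n)⁻¹ = z ^ n * y := by
  induction n with
  | zero => simp
  | succ n ih =>
    have h1 := mem_center_iff.1 (pow_mem hz n) x
    calc x ^ (n + 1) * y * (x ^ (n + 1))⁻¹ = x * (x ^ n * y * (x ^ n)⁻¹) * x⁻¹ := by group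
      _ = z ^ n * (x * y * x⁻¹) := by rw [ih, ← mul_assoc, h1]; group
      _ = _ := by rw [h, pow_succ, mul_assoc]

include hπ in
/-- The commutator of two elements with commuting images is killed by the order of the image. -/
theorem comm_pow_eq_one {x y : H} (h : Commute (π x) (π y)) {n : ℕ} (hn : π x ^ n = 1) :
    (x * y * x⁻¹ * y⁻¹) ^ n = 1 := by
  have h1 := conj_pow_eq_of_central (comm_mem_center hπ h) (x := x) (y := y) (by group) n
  have h2 : x ^ n ∈ center H := hπ (by rw [MonoidHom.mem_ker, map_pow, hn])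
  rw [← mem_center_iff.1 h2 y, mul_inv_cancel_right] at h1
  simpa using h1.symm

include hπ in
theorem commute_of_coprime {x y : H} (h : Commute (π x) (π y)) {a b : ℕ} (hab : a.Coprime b)
    (ha : π x ^ a = 1) (hb : π y ^ b = 1) : Commute x y := by
  have h1 := comm_pow_eq_one hπ h ha
  have h2 := comm_pow_eq_one hπ h.symm hb
  have h3 : (x * y * x⁻¹ * y⁻¹) ^ b = 1 := by
    rw [← inv_eq_one, ← inv_pow, ← h2]; congr 1; group
  have h4 : x * y * x⁻¹ * y⁻¹ = 1 := by
    rw [← orderOf_eq_one_iff]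
    exact Nat.eq_one_of_dvd_coprimes hab (orderOf_dvd_of_pow_eq_one h1)
      (orderOf_dvd_of_pow_eq_one h3)
  rw [mul_inv_eq_one, mul_inv_eq_iff_eq_mul] at h4
  exact h4

variable [Finite H] [Finite K] {p : ℕ} [hp : Fact p.Prime]

include hπ in
/-- Sylow subgroups of preimages of `p`-groups. -/
theorem IsSylowIn.comap_le_normalizer {Q : Subgroup K} (hQ : IsPGroup p Q) {S : Subgroup H}
    (hS : IsSylowIn p S (Q.comap π)) :
    Q.comap π ≤ normalizer (S : Set H) ∧ S.map π = Q ⊓ π.range := by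
  have h1 : S.map π = Q ⊓ π.range := by
    have h2 := hS.map π
    rw [map_comap_eq, inf_comm] at h2
    exact h2.eq_self_of_isPGroup (hQ.to_le inf_le_left)
  refine ⟨fun x hx => ?_, h1⟩
  have h2 : π x ∈ S.map π := h1 ▸ ⟨hx, x, rfl⟩
  obtain ⟨s, hs, h3⟩ := h2
  have h4 : s⁻¹ * x ∈ center H := hπ (by rw [MonoidHom.mem_ker, map_mul, map_inv, h3]; group)
  rw [← mul_inv_cancel_left s x]
  exact mul_mem (le_normalizer hs) (center_le_normalizer _ h4)

/-- `D` contains every `p`-subgroup of `L` that normalizes it and is normalized by its normalizer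
in `L`. -/
def Radical {G : Type*} [Group G] (p : ℕ) (L D : Subgroup G) : Prop :=
  ∀ R : Subgroup G, IsPGroup p R → R ≤ L → R ≤ normalizer (D : Set G) →
    L ⊓ normalizer (D : Set G) ≤ normalizer (R : Set G) → R ≤ D

theorem Radical.le_of_le_center {D : Subgroup H} (hD : Radical p ⊤ D) {Z : Subgroup H}
    (hZ : IsPGroup p Z) (hc : Z ≤ center H) : Z ≤ D := by
  have : Z.Normal := ⟨fun z hz g => by
    rwa [mem_center_iff.1 (hc hz) g, mul_inv_cancel_right]⟩
  exact hD Z hZ le_top (hc.trans (center_le_normalizer _)) (le_top.trans (normalizer_eq_top Z).ge)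

include hπ in
theorem Radical.isSylowIn_comap {D : Subgroup H} (hD : Radical p ⊤ D) (hDp : IsPGroup p D) :
    IsSylowIn p D ((D.map π).comap π) := by
  obtain ⟨S, hS, hDS⟩ := exists_isSylowIn_ge hDp (le_comap_map π D)
  suffices S = D from this ▸ hS
  refine le_antisymm (fun s hs => ?_) hDS
  obtain ⟨d, hd, h1⟩ := hS.le hs
  have h2 : d⁻¹ * s ∈ center H := hπ (by rw [MonoidHom.mem_ker, map_mul, map_inv, h1]; group)
  have h3 : IsPElt p (d⁻¹ * s) := isPElt_of_mem hS.isPGroup (mul_mem (inv_mem (hDS hd)) hs)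
  have h4 := hD.le_of_le_center h3.isPGroup_zpowers (zpowers_le_of_mem h2) (mem_zpowers _)
  rw [← mul_inv_cancel_left d s]
  exact mul_mem hd h4

theorem mem_normalizer_comap {Q : Subgroup K} {x : H} (hx : π x ∈ normalizer (Q : Set K)) :
    x ∈ normalizer (Q.comap π : Set H) := by
  refine mem_normalizer_iff.2 fun y => ?_
  rw [mem_comap, mem_comap, map_mul, map_mul, map_inv]
  exact mem_normalizer_iff.1 hx (π y)

include hπ in
theorem Radical.map {D : Subgroup H} (hD : Radical p ⊤ D) (hDp : IsPGroup p D) :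
    Radical p π.range (D.map π) := by
  intro R hR hRL h1 h2
  obtain ⟨S, hS⟩ := exists_isSylowIn p (R.comap π)
  obtain ⟨h3, h4⟩ := hS.comap_le_normalizer hπ hR
  have h5 := hD.isSylowIn_comap hπ hDp
  have h6 := h5.normalizer_le_normalizer (h5.comap_le_normalizer hπ (hDp.map π)).1
  rw [inf_eq_left.2 hRL] at h4
  rw [← h4]
  refine map_mono (hD S hS.isPGroup le_top (fun s hs => h6 (mem_normalizer_comap (h1 (hS.le hs))))
    fun x hx => hS.normalizer_le_normalizer h3 (mem_normalizer_comap (h2 ⟨⟨x, rfl⟩, ?_⟩)))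
  exact le_normalizer_map π ⟨x, hx.2, rfl⟩

include hπ in
theorem IsSylowIn.map_centralizer {D : Subgroup H} {s : H} (hs : ¬ p ∣ orderOf s)
    (hD : IsSylowIn p D (centralizer ({s} : Set H))) :
    IsSylowIn p (D.map π) (centralizer ({π s} : Set K) ⊓ π.range) := by
  refine isSylowIn_of_maximal (hD.isPGroup.map π) ?_ fun Q hQ hQ1 hQ2 => ?_
  · rintro _ ⟨d, hd, rfl⟩
    refine ⟨mem_centralizer_singleton_iff.2 ?_, d, rfl⟩
    rw [← map_mul, mem_centralizer_singleton_iff.1 (hD.le hd), map_mul]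
  · obtain ⟨S, hS, hDS⟩ := exists_isSylowIn_ge hD.isPGroup (map_le_iff_le_comap.1 hQ2)
    have h1 := (hS.comap_le_normalizer hπ hQ).2
    rw [inf_eq_left.2 (hQ1.trans inf_le_right)] at h1
    rw [← h1, hD.eq_of_le hS.isPGroup (fun x hx => ?_) hDS]
    obtain ⟨k, hk⟩ := (isPElt_of_mem hS.isPGroup hx).exists_pow_eq_one
    refine mem_centralizer_singleton_iff.2 (commute_of_coprime hπ
      (mem_centralizer_singleton_iff.1 (hQ1 (hS.le hx)).1) (a := p ^ k) (b := orderOf s)
      (Nat.Coprime.pow_left _ ((Nat.Prime.coprime_iff_not_dvd hp.out).2 hs)) ?_ ?_)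
    · rw [← map_pow, hk, map_one]
    · rw [← map_pow, pow_orderOf_eq_one, map_one]

omit [Finite K] in
/-- A `p`-element that centralizes a central element of a Sylow subgroup up to the centre
centralizes it. -/
theorem IsSylowIn.commute_of_comm_mem_center {D L : Subgroup H} (hD : IsSylowIn p D L) {z g : H}
    (hz : ∀ d ∈ D, d * z = z * d) (hg : IsPElt p g) (hgL : g ∈ L)
    (h : g * z * g⁻¹ * z⁻¹ ∈ center H) : Commute g z := by
  let C := L ⊓ centralizer ({z} : Set H)
  have key : ∀ x : H, x ∈ L → x * z * x⁻¹ * z⁻¹ ∈ center H → ∀ y ∈ C, x * y * x⁻¹ ∈ C := by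
    intro x hx h1 y hy
    refine mem_inf.2 ⟨mul_mem (mul_mem hx hy.1) (inv_mem hx), mem_centralizer_singleton_iff.2 ?_⟩
    have h2 := mem_centralizer_singleton_iff.1 hy.2
    have h3 : z = (x * z * x⁻¹ * z⁻¹)⁻¹ * (x * z * x⁻¹) := by group
    have h4 := mem_center_iff.1 (inv_mem h1) (x * y * x⁻¹)
    calc x * y * x⁻¹ * z = (x * y * x⁻¹ * (x * z * x⁻¹ * z⁻¹)⁻¹) * (x * z * x⁻¹) := by group
      _ = (x * z * x⁻¹ * z⁻¹)⁻¹ * (x * (y * z) * x⁻¹) := by rw [h4]; group
      _ = _ := by rw [h2]; group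
  have h1 : g ∈ normalizer (C : Set H) := by
    refine mem_normalizer_iff.2 fun y => ⟨key g hgL h y, fun hy => ?_⟩
    have h2 : g⁻¹ * z * g⁻¹⁻¹ * z⁻¹ ∈ center H := by
      have h3 := (inferInstance : (center H).Normal).conj_mem _ (inv_mem h) g⁻¹
      convert h3 using 1
      group
    simpa [mul_assoc] using key g⁻¹ (inv_mem hgL) h2 _ hy
  have hDC : D ≤ C := fun d hd => ⟨hD.le hd, mem_centralizer_singleton_iff.2 (hz d hd)⟩
  have h2 : IsSylowIn p D (C ⊔ zpowers g) :=
    hD.of_le (hDC.trans le_sup_left) (sup_le inf_le_left (zpowers_le_of_mem hgL))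
  obtain ⟨x, hx, h3⟩ := h2.exists_conj_mem hg (mem_sup_right (mem_zpowers g))
  have h4 : x ∈ normalizer (C : Set H) := (sup_le le_normalizer (zpowers_le_of_mem h1) :) hx
  exact mem_centralizer_singleton_iff.1 ((mem_normalizer_iff.1 h4 g).2 (hDC h3)).2

omit [Finite K] in
/-- A central element of a Sylow subgroup `P` in the derived subgroup lies in `P'`. -/
theorem IsSylowIn.mem_commutator_of_mem_center {P : Subgroup H} (hP : IsSylowIn p P ⊤) {z : H}
    (hz : z ∈ center H) (hzP : z ∈ P) (h : z ∈ commutator H) : z ∈ ⁅P, P⁆ := by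
  have h1 := MonoidHom.transfer_eq_pow (Abelianization.of : P →* Abelianization P) z
    fun k g _ => by rw [mul_assoc, ← mem_center_iff.1 (pow_mem hz k) g, inv_mul_cancel_left]
  rw [Abelianization.commutator_subset_ker _ h, eq_comm, ← MonoidHom.mem_ker,
    Abelianization.ker_of] at h1
  have h2 : z ^ P.index ∈ ⁅P, P⁆ := by
    rw [← map_subtype_commutator]
    exact ⟨_, h1, rfl⟩
  have h3 : (orderOf z).Coprime P.index := (isPElt_of_mem hP.isPGroup hzP).coprime_orderOf
    ((Nat.Prime.coprime_iff_not_dvd hp.out).2 (by simpa using hP.not_dvd))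
  obtain ⟨m, hm⟩ := exists_pow_eq_self_of_coprime h3.symm
  rw [← hm]
  exact pow_mem h2 m

end GT
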