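import Cfsg.Agent.Lib.Grp.DStar
import Cfsg.Agent.Lib.Grp.PGrp

/-!
# `2`-groups with a cyclic subgroup of index four
-/

set_option autoImplicit false
set_option linter.unusedSectionVars false

namespace GT

open Cfsg Subgroup

universe u

/-- The defect groups for which `l(B) ≤ 3` is known. -/
def SmallThree {H : Type*} [Group H] (D : Subgroup H) : Prop :=
  (∃ a ∈ D, ∃ b ∈ D, Idx D (zpowers a) b) ∨
    ((∀ x ∈ D, ∀ y ∈ D, x * y = y * x) ∧ Nat.card {a : D // a ^ 2 = 1} = 4) ∨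
      ∃ n a c b, DStar D n a c b

variable {P : Type*} [Group P] [Finite P]

theorem Idx.map_quot {H : Type*} [Group H] {f : P →* H} {a ζ b : P} (hf : f ζ = 1)
    (h : Idx ⊤ (zpowers a ⊔ zpowers ζ) b) : Idx f.range (zpowers (f a)) (f b) := by
  have := h.map f
  rwa [← MonoidHom.range_eq_map, Subgroup.map_sup, MonoidHom.map_zpowers, MonoidHom.map_zpowers,
    hf, zpowers_one_eq_bot, sup_bot_eq] at this

theorem Idx.le_sup {G : Type*} [Group G] {D C : Subgroup G} {y : G} (h : Idx D C y) :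
    D ≤ C ⊔ zpowers y := fun g hg => (h g hg).elim mem_sup_left fun h1 => by
  simpa using mul_mem_sup h1 (mem_zpowers y)

theorem mem_zpowers_zpow_of_odd {x : P} (hx : IsPElt 2 x) (j : ℤ) :
    x ∈ zpowers (x ^ (2 * j + 1)) := by
  obtain ⟨k, hk⟩ := hx
  obtain ⟨a, b, h⟩ := (Int.isCoprime_two_left.2 (odd_two_mul_add_one j)).pow_left (m := k)
  refine ⟨b, ?_⟩
  have h1 : x ^ ((2 : ℤ) ^ k) = 1 := by
    rw [← orderOf_dvd_iff_zpow_eq_one, hk]; push_cast; rfl
  simp only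
  rw [← zpow_mul, mul_comm, eq_sub_of_add_eq' h, zpow_sub, mul_comm, zpow_mul, h1]
  simp

/-- The case where the cyclic subgroup is not self-centralizing. -/
theorem exists_idx_of_abelian (hP : IsPGroup 2 P) {A : Subgroup P} {x a y : P} (hx : x ∈ A)
    (ha : a ∈ A) (hA : Idx A (zpowers x) a) (hax : Commute a x) (hy : Idx ⊤ A y)
    (hyx : y * x * y⁻¹ ≠ x) : ∃ ζ ∈ center P, ∃ g, Idx ⊤ (zpowers g ⊔ zpowers ζ) y := by
  have hX : zpowers x ≤ A := zpowers_le.2 hx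
  have hab : ∀ {u v}, u ∈ A → v ∈ A → Commute u v := fun hu hv => by
    obtain ⟨i, j, rfl⟩ := (mem_sup_zpowers_of_commute hax.symm).1 (hA.le_sup hu)
    obtain ⟨k, l, rfl⟩ := (mem_sup_zpowers_of_commute hax.symm).1 (hA.le_sup hv)
    exact (((Commute.refl x).zpow_zpow i k).mul_right (hax.symm.zpow_zpow i l)).mul_left
      ((hax.zpow_zpow j k).mul_right ((Commute.refl a).zpow_zpow j l))
  have hσ : ∀ {u}, u ∈ A → y * u * y⁻¹ ∈ A := fun hu => hy.conj_mem le_top (mem_top y) hu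
  have hσσ : ∀ {u}, u ∈ A → y * (y * u * y⁻¹) * y⁻¹ = u := fun {u} hu => by
    calc y * (y * u * y⁻¹) * y⁻¹ = y * y * u * (y * y)⁻¹ := by group
      _ = u := by rw [(hab (hy.sq_mem (mem_top y)) hu).eq, mul_inv_cancel_right]
  have hcen : ∀ {u}, u ∈ A → y * u * y⁻¹ = u → u ∈ center P := fun {u} hu h1 =>
    mem_center_iff.2 fun g => by
      rcases hy g (mem_top g) with h2 | h2
      · exact (hab h2 hu).eq
      · have h3 : Commute y u := mul_inv_eq_iff_eq_mul.1 h1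
        simpa using ((hab h2 hu).mul_left h3).eq
  have key : ∀ ζ ∈ A, ζ ∉ zpowers x → y * ζ * y⁻¹ = ζ →
      ∃ ζ ∈ center P, ∃ g, Idx ⊤ (zpowers g ⊔ zpowers ζ) y := fun ζ h1 h2 h3 =>
    ⟨ζ, hcen h1 h3, x, hy.mono le_rfl (hA.change h1 h2).le_sup⟩
  by_cases h1 : y * x * y⁻¹ ∈ zpowers x
  swap
  · refine key (x * (y * x * y⁻¹)) (mul_mem hx (hσ hx))
      (by rwa [Subgroup.mul_mem_cancel_left _ (mem_zpowers x)]) ?_
    rw [← conj_mul, hσσ hx, (hab hx (hσ hx)).eq]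
  by_cases h2 : a ∈ zpowers x
  · exact ⟨1, one_mem _, x, hy.mono le_rfl (hA.le_sup.trans
      (sup_le le_sup_left ((zpowers_le.2 h2).trans le_sup_left)))⟩
  obtain ⟨k, hk⟩ := mem_zpowers_iff.1 (hA.sq_mem ha)
  rcases Int.even_or_odd' k with ⟨j, rfl | rfl⟩
  swap
  · refine ⟨1, one_mem _, a, hy.mono le_rfl (hA.le_sup.trans (sup_le (zpowers_le.2 ?_) le_sup_left))⟩
    have h3 := mem_zpowers_zpow_of_odd (isPElt_of_isPGroup hP x) j
    rw [hk] at h3
    exact mem_sup_left (zpowers_le.2 (mul_mem (mem_zpowers a) (mem_zpowers a)) h3)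
  have h3 : ∀ {u}, u ∈ zpowers x → y * u * y⁻¹ ∈ zpowers x := by
    rintro _ ⟨i, rfl⟩
    simp only
    rw [← conj_zpow]; exact zpow_mem h1 i
  set b := a * x ^ (-j) with hb
  have hbA : b ∈ A := mul_mem ha (zpow_mem hx _)
  have hbx : b ∉ zpowers x := by
    rwa [hb, Subgroup.mul_mem_cancel_right _ (zpow_mem (mem_zpowers x) _)]
  have hbb : b * b = 1 := by
    rw [hb, (hax.zpow_right _).symm.mul_mul_mul_comm, ← hk]; group
  have h4 : y * b * y⁻¹ * b⁻¹ ∈ zpowers x :=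
    hA.mul_inv_mem (hσ hbA) hbA (fun h4 => hbx (hσσ hbA ▸ h3 h4)) hbx
  have h5 : y * x * y⁻¹ * x⁻¹ ∈ zpowers x := mul_mem h1 (inv_mem (mem_zpowers x))
  obtain ⟨s, hs, hs2, hs1⟩ := exists_mul_self_mem_zpowers
    (isPElt_of_isPGroup hP (y * x * y⁻¹ * x⁻¹)) fun h6 => hyx (mul_inv_eq_one.1 h6)
  have h6 : y * b * y⁻¹ * b⁻¹ ∈ zpowers (y * x * y⁻¹ * x⁻¹) := by
    rcases eq_of_mul_self_of_mem_zpowers (zpowers_le.2 h5 hs) h4 hs2 hs1 (by
      rw [(hab (inv_mem hbA) (hσ hbA)).mul_mul_mul_comm, conj_mul, ← mul_inv_rev, hbb]; group)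
      with h6 | h6 <;> rw [h6]
    exacts [one_mem _, hs]
  obtain ⟨r, hr⟩ := mem_zpowers_iff.1 h6
  refine key (b * (x ^ r)⁻¹) (mul_mem hbA (inv_mem (zpow_mem hx r)))
    (by rwa [Subgroup.mul_mem_cancel_right _ (inv_mem (zpow_mem (mem_zpowers x) r))]) ?_
  rw [(hab (hσ hx) (inv_mem hx)).mul_zpow, conj_zpow, inv_zpow] at hr
  have h7 := hab (inv_mem (hσ (zpow_mem hx r))) hbA
  calc y * (b * (x ^ r)⁻¹) * y⁻¹ = y * b * y⁻¹ * b⁻¹ * (b * (y * x ^ r * y⁻¹)⁻¹) := by group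
    _ = b * (x ^ r)⁻¹ := by
      rw [← hr, ← h7.eq, (hab (hσ (zpow_mem hx r)) (inv_mem (zpow_mem hx r))).eq, mul_assoc,
        mul_inv_cancel_left, (hab hbA (inv_mem (zpow_mem hx r))).eq]

theorem exists_conj_eq_mul {M : Subgroup P} {x t y : P} {n : ℕ} (ho : orderOf x = 2 ^ (n + 1))
    (hC : ∀ g, g * x * g⁻¹ = x → g ∈ zpowers x) (hx : x ∈ M) (ht : t ∈ M) (ht' : t ∉ zpowers x)
    (hM : Idx M (zpowers x) t) (hy : Idx ⊤ M y) (hy' : y ∉ M) :
    ∃ s, s * x * s⁻¹ = x * x ^ 2 ^ n := by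
  have hX : zpowers x ≤ M := zpowers_le.2 hx
  have hone : ∀ {i : ℤ}, x ^ i = 1 ↔ (2 : ℤ) ^ (n + 1) ∣ i := fun {i} => by
    rw [← orderOf_dvd_iff_zpow_eq_one, ho]; push_cast; rfl
  have hsq : ∀ {s}, s * s ∈ zpowers x → s * (s * x * s⁻¹) * s⁻¹ = x := fun {s} h1 => by
    calc s * (s * x * s⁻¹) * s⁻¹ = s * s * x * (s * s)⁻¹ := by group
      _ = x := by rw [(eq_of_commute_zpowers h1 (mem_zpowers x)).eq, mul_inv_cancel_right]
  have hzz : x ^ 2 ^ n * x ^ 2 ^ n = 1 := by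
    rw [← pow_add, ← two_mul, ← pow_succ', ← ho, pow_orderOf_eq_one]
  have hcases : ∀ s, s ∉ zpowers x → s * x * s⁻¹ ∈ zpowers x → s * s ∈ zpowers x →
      s * x * s⁻¹ = x * x ^ 2 ^ n ∨ ∃ ε : ℤ, (2 : ℤ) ^ n ∣ ε ∧ s * x * s⁻¹ = x ^ (ε - 1) :=
    fun s h1 h2 h3 => by
      rcases conj_cases_of_sq ho h2 (hsq h3) with h4 | h4 | h4 | h4
      · exact absurd (hC s h4) h1
      · exact Or.inl h4
      · exact Or.inr ⟨0, dvd_zero _, by simpa using h4⟩
      · exact Or.inr ⟨2 ^ n, dvd_rfl, by rw [h4, ← zpow_natCast]; push_cast; group⟩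
  have hfin : ∀ s, s ∉ zpowers x → ∀ ε : ℤ, (2 : ℤ) ^ n ∣ ε → s * x * s⁻¹ = x ^ (ε + 1) →
      s * x * s⁻¹ = x * x ^ 2 ^ n := fun s h1 ε h2 h3 => by
    obtain ⟨k, rfl⟩ := h2
    rw [add_comm, zpow_add, zpow_one, zpow_mul, show x ^ (2 : ℤ) ^ n = x ^ 2 ^ n by
      rw [← zpow_natCast]; push_cast; rfl] at h3
    rcases (mem_zpowers_of_mul_self hzz).1 (zpow_mem (mem_zpowers _) k) with h4 | h4 <;>
      rw [h4] at h3
    · exact absurd (hC s (by rw [h3, mul_one])) h1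
    · exact h3
  obtain h1 | ⟨ε, hε, h1⟩ := hcases t ht' (hM.conj_mem hX ht (mem_zpowers x)) (hM.sq_mem ht)
  · exact ⟨t, h1⟩
  by_cases hn : n ≤ 1
  · refine ⟨t, hfin t ht' (ε - 2) (dvd_sub hε ?_) (by rw [h1]; congr 1; ring)⟩
    simpa using pow_dvd_pow (2 : ℤ) hn
  obtain ⟨k, rfl⟩ : ∃ k, n = k + 2 := ⟨n - 2, by omega⟩
  have h8 : ∀ {i : ℤ}, x ^ i = 1 → 8 ∣ i := fun h =>
    (show (8 : ℤ) ∣ 2 ^ (k + 2 + 1) from ⟨2 ^ k, by ring⟩).trans (hone.1 h)
  have h4ε : (4 : ℤ) ∣ ε := (show (4 : ℤ) ∣ 2 ^ (k + 2) from ⟨2 ^ k, by ring⟩).trans hε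
  have hout : ∀ {g}, g ∈ M → g ∉ zpowers x → ∀ i : ℤ, g * x ^ i * g⁻¹ = x ^ ((ε - 1) * i) :=
    fun {g} hg hg' i => by
      have h2 := eq_of_commute_zpowers (hM.mul_inv_mem hg ht hg' ht')
        (zpow_mem (mem_zpowers x) ((ε - 1) * i))
      calc g * x ^ i * g⁻¹ = g * t⁻¹ * (t * x ^ i * t⁻¹) * (g * t⁻¹)⁻¹ := by group
        _ = _ := by rw [← conj_zpow, h1, ← zpow_mul, h2.eq, mul_inv_cancel_right]
  have hyM := hy.conj_mem le_top (mem_top y) hx
  by_cases h2 : y * x * y⁻¹ ∈ zpowers x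
  swap
  · exfalso
    obtain ⟨i, hi⟩ := mem_zpowers_iff.1 (hM.sq_mem hyM)
    have h3 := hout hyM h2 i
    rw [hi, ← mul_assoc (y * x * y⁻¹), mul_inv_cancel_right, ← hi, eq_comm, ← mul_inv_eq_one,
      ← zpow_sub, hone] at h3
    obtain ⟨e, rfl⟩ := h4ε
    rw [show (4 * e - 1) * i - i = (2 * e - 1) * (2 * i) by ring] at h3
    have h5 := (IsCoprime.pow_left (Int.isCoprime_two_left.2 (odd_sub_one.2 (even_two_mul e)))
      ).dvd_of_dvd_mul_left h3
    rw [← hone, mul_comm, zpow_mul, hi, conj_mul, conj_zpow, conj_eq_one_iff, ← zpow_two,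
      ← zpow_mul] at h5
    have := h8 h5
    omega
  by_cases h3 : y * y ∈ zpowers x
  · obtain h5 | ⟨ε', hε', h5⟩ := hcases y (fun h => hy' (hX h)) h2 h3
    · exact ⟨y, h5⟩
    refine ⟨t * y, hfin _ (fun h => hy' ((M.mul_mem_cancel_left ht).1 (hX h)))
      (ε * ε' - ε - ε') (dvd_sub (dvd_sub (hε.mul_right _) hε) hε') ?_⟩
    calc t * y * x * (t * y)⁻¹ = t * (y * x * y⁻¹) * t⁻¹ := by group
      _ = _ := by rw [h5, hout ht ht']; congr 1; ring
  · exfalso
    obtain ⟨j, hj⟩ := mem_zpowers_iff.1 h2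
    have h5 := hout (hy.sq_mem (mem_top y)) h3 1
    have h6 : y * y * x ^ (1 : ℤ) * (y * y)⁻¹ = x ^ (j * j) := by
      calc y * y * x ^ (1 : ℤ) * (y * y)⁻¹ = y * (y * x * y⁻¹) * y⁻¹ := by group
        _ = _ := by rw [← hj, ← conj_zpow, ← hj, ← zpow_mul]
    rw [h6, ← mul_inv_eq_one, ← zpow_sub] at h5
    have h7 := h8 h5
    rcases Int.even_or_odd' j with ⟨l, rfl | rfl⟩
    · rw [show 2 * l * (2 * l) = 4 * (l * l) by ring] at h7; omega
    · rw [show (2 * l + 1) * (2 * l + 1) = 4 * (l * l + l) + 1 by ring] at h7; omega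

theorem idx_sup_zpowers {G : Type*} [Group G] [Finite G] {C : Subgroup G} {t : G}
    (h1 : t ∈ normalizer (C : Set G)) (h2 : t * t ∈ C) : Idx (C ⊔ zpowers t) C t := by
  intro g hg
  obtain ⟨a, ha, _, ⟨i, rfl⟩, rfl⟩ := (mem_sup_of_le_normalizer_left (zpowers_le.2 h1)).1 hg
  simp only
  rcases Int.even_or_odd' i with ⟨j, rfl | rfl⟩
  · left; rw [zpow_mul, zpow_two]; exact mul_mem ha (zpow_mem h2 j)
  · right; rw [zpow_add, zpow_one, ← mul_assoc, mul_inv_cancel_right, zpow_mul, zpow_two]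
    exact mul_mem ha (zpow_mem h2 j)

/-- The case of a self-centralizing cyclic subgroup. -/
theorem smallThree_of_selfCent (hP : IsPGroup 2 P) {x t : P} {n : ℕ} (ho : orderOf x = 2 ^ (n + 1))
    (hc : Nat.card P = 4 * orderOf x) (hC : ∀ g, g * x * g⁻¹ = x → g ∈ zpowers x)
    (ht : t * x * t⁻¹ = x * x ^ 2 ^ n) {H : Type*} [Group H] [Finite H] {f : P →* H}
    (hf : f.ker = center P) : SmallThree f.range := by
  have hZ : center P ≤ zpowers x := fun g hg => hC g (by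
    rw [← mem_center_iff.1 hg, mul_inv_cancel_right])
  set z := x ^ 2 ^ n with hz
  have hzz : z * z = 1 := by rw [← pow_add, ← two_mul, ← pow_succ', ← ho, pow_orderOf_eq_one]
  have hzx : z ∈ zpowers x := pow_mem (mem_zpowers x) _
  have hz1 : z ≠ 1 := fun h1 => by
    have := Nat.le_of_dvd (Nat.two_pow_pos _) (orderOf_dvd_of_pow_eq_one h1)
    rw [ho, pow_succ] at this
    have := Nat.two_pow_pos n
    omega
  have hzc : z ∈ center P := by
    have : Nontrivial P := ⟨z, 1, hz1⟩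
    have := hP.center_nontrivial
    obtain ⟨g, hg⟩ := exists_ne (1 : center P)
    obtain ⟨s, hs, hs2, hs1⟩ := exists_mul_self_mem_zpowers (isPElt_of_isPGroup hP (g : P))
      fun h => hg (Subtype.ext h)
    have h1 := zpowers_le.2 g.2 hs
    exact (eq_of_mul_self_of_mem_zpowers hzx (hZ h1) hzz hz1 hs2).resolve_left hs1 ▸ h1
  have hcz : ∀ g, Commute g z := fun g => mem_center_iff.1 hzc g
  have htx : t ∉ zpowers x := fun h1 => hz1 (by
    rwa [(eq_of_commute_zpowers h1 (mem_zpowers x)).eq, mul_inv_cancel_right, left_eq_mul] at ht)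
  have hti : ∀ i : ℤ, t * x ^ i * t⁻¹ = x ^ i * z ^ i := fun i => by
    rw [← conj_zpow, ht, (hcz x).mul_zpow]
  have htt : t * t ∈ zpowers x := hC _ (by
    calc t * t * x * (t * t)⁻¹ = t * (t * x * t⁻¹) * t⁻¹ := by group
      _ = x := by rw [ht, ← conj_mul, ht, (hcz t).eq, mul_inv_cancel_right, mul_assoc, hzz, mul_one])
  have hM := idx_sup_zpowers (C := zpowers x) (mem_normalizer_fintype (by
    rintro _ ⟨i, rfl⟩
    simp only
    rw [hti]; exact mul_mem (zpow_mem (mem_zpowers x) i) (zpow_mem hzx i))) htt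
  obtain ⟨b, hb1, hb2⟩ : ∃ b, b * t⁻¹ ∈ zpowers x ∧ b * b ∈ center P := by
    obtain ⟨k, hk⟩ := mem_zpowers_iff.1 htt
    have h1 := hti k
    rw [hk, ← mul_assoc t t, mul_inv_cancel_right, left_eq_mul] at h1
    rcases Int.even_or_odd' k with ⟨j, rfl | rfl⟩
    · refine ⟨x ^ (-j) * t, by rw [mul_inv_cancel_right]; exact zpow_mem (mem_zpowers x) _, ?_⟩
      rw [show x ^ (-j) * t * (x ^ (-j) * t) = x ^ (-j) * (t * x ^ (-j) * t⁻¹) * (t * t) by group,
        hti, ← hk]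
      convert zpow_mem hzc (-j) using 1
      rw [← mul_assoc, mul_assoc _ (z ^ (-j)), ← ((hcz (x ^ (2 * j))).zpow_right _).eq]
      group
    · rw [zpow_of_mul_self_odd hzz] at h1; exact absurd h1 hz1
  have hbM : b ∈ zpowers x ⊔ zpowers t := by simpa using mul_mem_sup hb1 (mem_zpowers t)
  have hbx : b ∉ zpowers x := fun h1 => htx (by
    simpa using (Subgroup.mul_mem_cancel_left _ h1).1 hb1)
  have hb3 : b * x * b⁻¹ = x * z := by
    calc b * x * b⁻¹ = b * t⁻¹ * (t * x * t⁻¹) * (b * t⁻¹)⁻¹ := by group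
      _ = _ := by rw [ht, (eq_of_commute_zpowers hb1 (mul_mem (mem_zpowers x) hzx)).eq,
        mul_inv_cancel_right]
  replace hM := hM.change hbM hbx
  have hMeq : zpowers x ⊔ zpowers t = zpowers x ⊔ zpowers b :=
    le_antisymm hM.le_sup (sup_le le_sup_left (zpowers_le.2 hbM))
  rw [hMeq] at hM hbM
  clear hMeq htt hti htx hb1 ht t
  set M := zpowers x ⊔ zpowers b with hMdef
  have hxM : x ∈ M := mem_sup_left (mem_zpowers x)
  have hMc : Nat.card M = 2 * orderOf x := by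
    rw [hM.card_eq le_sup_left hbM hbx, Nat.card_zpowers]
  obtain ⟨y, -, hy⟩ := exists_idx_of_card_le (D := ⊤) (C := M) le_top
    (by rw [card_top, hc, hMc]; omega)
  have hyM : y ∉ M := fun h1 => by
    have h2 : ⊤ ≤ M := hy.le_sup.trans (sup_le le_rfl (zpowers_le.2 h1))
    have := card_le_of_le h2
    have := orderOf_pos x
    rw [card_top, hc, hMc] at *
    omega
  have hcen : ∀ {u v}, v ∉ M → (∀ g ∈ M, Commute g u) → Commute v u → u ∈ center P :=
    fun {u v} hv h1 h2 => mem_center_iff.2 fun g => by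
      rcases hy.change (mem_top v) hv g (mem_top g) with h3 | h3
      · exact (h1 g h3).eq
      · simpa using ((h1 _ h3).mul_left h2).eq
  have hx2 : ∀ g ∈ M, Commute g (x * x) := fun g hg => by
    have h1 : Commute b (x * x) := mul_inv_eq_iff_eq_mul.1 (by
      rw [← conj_mul, hb3, (hcz x).symm.mul_mul_mul_comm, hzz, mul_one])
    rcases hM g hg with h2 | h2
    · exact eq_of_commute_zpowers h2 (mul_mem (mem_zpowers x) (mem_zpowers x))
    · simpa using (eq_of_commute_zpowers h2 (mul_mem (mem_zpowers x) (mem_zpowers x))).mul_left h1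
  have hf1 : ∀ {g}, f g = 1 ↔ g ∈ center P := by intro g; rw [← MonoidHom.mem_ker, hf]
  obtain ⟨r, hr⟩ := (isPElt_of_isPGroup hP x).map f
  have hr1 : ∀ {k : ℕ}, x ^ k ∈ center P ↔ 2 ^ r ∣ k := fun {k} => by
    rw [← hf1, map_pow, ← orderOf_dvd_iff_pow_eq_one, hr]
  have hrP : IsPGroup 2 f.range := (hP.of_surjective _ f.rangeRestrict_surjective)
  rcases r with _ | _ | r
  · have h1 := mem_center_iff.1 (hr1.2 (one_dvd 1)) b
    rw [pow_one] at h1
    rw [h1, mul_inv_cancel_right, left_eq_mul] at hb3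
    exact absurd hb3 hz1
  · have h1 : x * x ∈ center P := by rw [← pow_two]; exact hr1.2 dvd_rfl
    obtain ⟨v, hv⟩ : ∃ v, v * v ∉ center P := by
      by_contra h2
      push Not at h2
      have h3 : x⁻¹ * (y * x * y⁻¹) ∈ center P := by
        convert mul_mem (mul_mem (inv_mem h1) (h2 (x * y))) (inv_mem (h2 y)) using 1
        group
      have h4 : x⁻¹ * (y * x * y⁻¹) * (x⁻¹ * (y * x * y⁻¹)) = 1 := by
        rw [Commute.mul_mul_mul_comm, conj_mul, mem_center_iff.1 h1 y]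
        · group
        · have h4 : Commute x (x⁻¹ * (y * x * y⁻¹)) := mem_center_iff.1 h3 x
          simpa using ((Commute.refl x).mul_right h4).symm.inv_right
      rcases eq_of_mul_self_of_mem_zpowers hzx (hZ h3) hzz hz1 h4 with h5 | h5
      · exact hyM (mem_sup_left (hC y (inv_mul_eq_one.1 h5).symm))
      · refine hyM ((M.mul_mem_cancel_left (inv_mem hbM)).1 (mem_sup_left (hC _ ?_)))
        calc b⁻¹ * y * x * (b⁻¹ * y)⁻¹ = b⁻¹ * (x * (x⁻¹ * (y * x * y⁻¹))) * b := by group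
          _ = x := by rw [h5, ← hb3]; group
    obtain ⟨w, hw, h2⟩ := exists_idx_of_card_le (D := f.range) (C := zpowers (f v))
      (zpowers_le.2 ⟨v, rfl⟩) (by
        have h2 := card_map_mul_card_inf_ker f ⊤
        rw [inf_top_eq, hf, card_top, ← MonoidHom.range_eq_map, hc] at h2
        have h3 := card_le_of_le (zpowers_le.2 h1)
        rw [Nat.card_zpowers, ← pow_two, orderOf_pow_of_dvd two_ne_zero
          (by rw [ho]; exact dvd_pow_self 2 n.succ_ne_zero), ho, pow_succ,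
          Nat.mul_div_cancel _ two_pos] at h3
        obtain ⟨s, hs⟩ := (isPElt_of_isPGroup hP v).map f
        have h4 : 2 ≤ s := by
          by_contra h4
          refine hv (hf1.1 ?_)
          rw [map_mul, ← pow_two, ← orderOf_dvd_iff_pow_eq_one, hs]
          exact pow_dvd_pow 2 (show s ≤ 1 by omega)
        have h5 := Nat.pow_le_pow_right two_pos h4
        rw [Nat.card_zpowers, hs]
        rw [ho, pow_succ] at h2
        have h6 := Nat.two_pow_pos n
        nlinarith)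
    exact Or.inl ⟨_, ⟨v, rfl⟩, w, hw, h2⟩
  have hab : AbC r (f x) (f b) := ⟨hr, by rw [← map_mul, hf1]; exact hb2, by
      rintro ⟨i, hi⟩
      simp only at hi
      rw [← map_zpow, ← inv_mul_eq_one, ← map_inv, ← map_mul, hf1] at hi
      exact hbx ((Subgroup.mul_mem_cancel_left _ (inv_mem (zpow_mem (mem_zpowers x) i))).1 (hZ hi)),
    by
      refine Commute.symm (mul_inv_eq_iff_eq_mul.1 ?_)
      rw [← map_inv, ← map_mul, ← map_mul, hb3, map_mul, hf1.2 hzc, mul_one]⟩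
  have hidx : Idx f.range (zpowers (f x) ⊔ zpowers (f b)) (f y) := by
    have := hy.map f
    rwa [← MonoidHom.range_eq_map, Subgroup.map_sup, MonoidHom.map_zpowers,
      MonoidHom.map_zpowers] at this
  have hmem : ∀ {g}, f g ∈ zpowers (f x) ⊔ zpowers (f b) ↔ g ∈ M := fun {g} => by
    rw [← MonoidHom.map_zpowers, ← MonoidHom.map_zpowers, ← Subgroup.map_sup, ← mem_comap,
      comap_map_eq, hf, sup_eq_left.2 (hZ.trans le_sup_left)]
  have hAle : zpowers (f x) ⊔ zpowers (f b) ≤ f.range :=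
    sup_le (zpowers_le.2 ⟨x, rfl⟩) (zpowers_le.2 ⟨b, rfl⟩)
  have hxr : ∀ g ∈ M, Commute g (x ^ 2 ^ (r + 1)) := fun g hg => by
    rw [pow_succ', pow_mul, pow_two]; exact (hx2 g hg).pow_right _
  have hxr' : x ^ 2 ^ (r + 1) ∉ center P := fun h1 => by
    have := Nat.le_of_dvd (Nat.two_pow_pos _) (hr1.1 h1)
    rw [pow_succ 2 (r + 1)] at this
    have := Nat.two_pow_pos (r + 1)
    omega
  have hsq : ∀ v ∈ f.range, v ∉ zpowers (f x) ⊔ zpowers (f b) → v * v ≠ f x ^ 2 ^ (r + 1) := by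
    rintro _ ⟨v, rfl⟩ hv h1
    rw [← map_mul, ← map_pow, ← inv_mul_eq_one, ← map_inv, ← map_mul, hf1] at h1
    refine hxr' (hcen (mt hmem.2 hv) hxr ?_)
    have h2 : Commute v ((v * v)⁻¹ * x ^ 2 ^ (r + 1)) := mem_center_iff.1 h1 v
    have h3 := ((Commute.refl v).mul_right (Commute.refl v)).mul_right h2
    rwa [mul_inv_cancel_left] at h3
  have hyc : Commute (f y) (f b) := by
    refine mul_inv_eq_iff_eq_mul.1 ?_
    rcases hab.omega_cases (hidx.conj_mem hAle ⟨y, rfl⟩ DStar.cA)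
      (by rw [conj_mul, hab.cc]; group) with h1 | h1 | h1 | h1
    · exact absurd (by simpa using h1) hab.c_ne
    · refine absurd ?_ hab.cx
      have h2 := hab.sq_mem (hidx.conj_mem hAle (inv_mem ⟨y, rfl⟩) (pow_mem DStar.xA (2 ^ r)))
      rw [conj_mul, ← pow_two, ← pow_mul, ← pow_succ, ← h1] at h2
      simpa [mul_assoc] using h2
    · exact h1
    · exfalso
      rw [← map_inv, ← map_mul, ← map_mul, ← map_pow, ← map_mul, ← inv_mul_eq_one, ← map_inv,
        ← map_mul, hf1] at h1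
      obtain ⟨k, hk⟩ := mem_zpowers_iff.1 (hZ h1)
      have h2 : y * b * y⁻¹ * x ^ k = x ^ 2 ^ (r + 1) * b := by rw [hk]; group
      have h3 : y * b * y⁻¹ * x ^ k * (y * b * y⁻¹ * x ^ k) = b * b * (x ^ k * x ^ k) := by
        rw [Commute.mul_mul_mul_comm, conj_mul, mem_center_iff.1 hb2 y, mul_inv_cancel_right]
        exact (show Commute (y * b * y⁻¹) (x ^ k) from mem_center_iff.1 (hk ▸ h1) _).symm
      rw [h2, (hxr b hbM).mul_mul_mul_comm, mem_center_iff.1 hb2, mul_right_inj, ← pow_add,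
        ← zpow_add, ← zpow_natCast, ← mul_inv_eq_one, ← zpow_sub,
        ← orderOf_dvd_iff_zpow_eq_one, ho] at h3
      have h4 : (2 : ℤ) ^ (r + 2) ∣ k := by
        rw [← hk, ← hf1, map_zpow, ← orderOf_dvd_iff_zpow_eq_one, hr] at h1
        exact_mod_cast h1
      have h5 : 2 ^ (r + 2) ∣ 2 ^ n := hr1.1 hzc
      have h6 : (2 : ℤ) ^ (r + 2) * 2 ∣ 2 ^ n * 2 := mul_dvd_mul_right (by exact_mod_cast h5) 2
      push_cast at h3
      have h7 := dvd_add (h6.trans h3) (show (2 : ℤ) ^ (r + 2) * 2 ∣ k + k by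
        rw [← two_mul, mul_comm 2]; exact mul_dvd_mul_right h4 2)
      have h8 := Int.le_of_dvd (by positivity) (show (2 : ℤ) ^ (r + 2) * 2 ∣ 2 ^ (r + 2) by
        rwa [show (2 : ℤ) ^ (r + 1) + 2 ^ (r + 1) - (k + k) + (k + k) = 2 ^ (r + 2) by ring] at h7)
      have : (0 : ℤ) < 2 ^ (r + 2) := by positivity
      omega
  by_cases hne : f y * f x * (f y)⁻¹ = f x
  · have hA : ∀ a ∈ zpowers (f x) ⊔ zpowers (f b), ∀ g ∈ f.range, Commute g a := fun a ha g hg => by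
      have h1 : Commute (f y) a := by
        obtain ⟨i, j, rfl⟩ := (mem_sup_zpowers_of_commute hab.xc).1 ha
        exact (Commute.zpow_right (mul_inv_eq_iff_eq_mul.1 hne) i).mul_right (hyc.zpow_right j)
      rcases hidx g hg with h2 | h2
      · exact hab.comm h2 ha
      · simpa using (hab.comm h2 ha).mul_left h1
    have hcomm : ∀ u ∈ f.range, ∀ v ∈ f.range, u * v = v * u := fun u hu v hv => by
      by_cases h1 : v ∈ zpowers (f x) ⊔ zpowers (f b)
      · exact (hA v h1 u hu).eq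
      by_cases h2 : u ∈ zpowers (f x) ⊔ zpowers (f b)
      · exact (hA u h2 v hv).eq.symm
      · simpa using ((Commute.refl u).mul_right (hA _ (hidx.inv_mul_mem hu hv h2 h1) u hu)).eq
    refine Or.inr (Or.inl ⟨hcomm, ?_⟩)
    rw [← hab.ncard_omega]
    refine Nat.card_congr ⟨fun a => ⟨a.1.1, ?_, by
      simpa [pow_two] using congrArg Subtype.val a.2⟩, fun a => ⟨⟨a.1, hAle a.2.1⟩,
        Subtype.ext (by simpa [pow_two] using a.2.2)⟩, fun _ => rfl, fun _ => rfl⟩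
    by_contra h1
    have h2 : a.1.1 * a.1.1 = 1 := by simpa [pow_two] using congrArg Subtype.val a.2
    have h3 := pow_mem (DStar.xA (x := f x) (c := f b)) (2 ^ r)
    refine hsq _ (mul_mem (hAle h3) a.1.2) (hab.mul_not_mem h3 h1) ?_
    rw [(hA _ h3 _ a.1.2).mul_mul_mul_comm, h2, mul_one, ← pow_two, ← pow_mul, ← pow_succ]
  · refine Or.inr (Or.inr ⟨r, f x, f b, f y, hab, hrP, ⟨x, rfl⟩, ⟨b, rfl⟩, ⟨y, rfl⟩, hyc, hidx, ?_,
      hne, hsq⟩)
    rw [(hab.comm DStar.xA (hidx.conj_mem hAle ⟨y, rfl⟩ DStar.xA)).mul_mul_mul_comm, conj_mul,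
      ← map_inv, ← map_mul, ← map_mul, ← map_mul, ← map_mul, hf1]
    have h1 : ∀ g ∈ M, Commute g (y * (x * x) * y⁻¹) := fun g hg => by
      simpa [mul_assoc] using (hx2 _ (hy.conj_mem le_top (mem_top y⁻¹) hg)).conj y
    refine hcen hyM (fun g hg => (h1 g hg).mul_right (hx2 g hg)) (mul_inv_eq_iff_eq_mul.1 ?_)
    rw [← conj_mul, show y * (y * (x * x) * y⁻¹) * y⁻¹ = y * y * (x * x) * (y * y)⁻¹ by group,
      (hx2 _ (hy.sq_mem (mem_top y))).eq, mul_inv_cancel_right, (h1 _ (mul_mem hxM hxM)).eq]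

theorem exists_smallThree (hP : IsPGroup 2 P) {x : P} (h : (zpowers x).index ≤ 4) :
    ∃ ζ ∈ center P, ∀ (H : Type u) [Group H] [Finite H] (f : P →* H), f.ker = zpowers ζ →
      SmallThree f.range := by
  have key : (∃ ζ ∈ center P, ∃ g y, Idx ⊤ (zpowers g ⊔ zpowers ζ) y) →
      ∃ ζ ∈ center P, ∀ (H : Type u) [Group H] [Finite H] (f : P →* H), f.ker = zpowers ζ →
        SmallThree f.range := fun ⟨ζ, hζ, g, y, h1⟩ => ⟨ζ, hζ, fun H _ _ f hf =>
      Or.inl ⟨_, ⟨g, rfl⟩, _, ⟨y, rfl⟩, h1.map_quot (by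
        rw [← MonoidHom.mem_ker, hf]; exact mem_zpowers ζ)⟩⟩
  have hc := (zpowers x).card_mul_index
  by_cases h1 : (zpowers x).index ≤ 2
  · obtain ⟨y, -, hy⟩ := exists_idx_of_card_le (D := ⊤) (C := zpowers x) le_top
      (by rw [card_top, ← hc, mul_comm]; exact Nat.mul_le_mul_right _ h1)
    exact key ⟨1, one_mem _, x, y, hy.mono le_rfl le_sup_left⟩
  have h4 : (zpowers x).index = 4 := by
    obtain ⟨k, hk⟩ := hP.index (zpowers x)
    rcases k with _ | _ | _ | k <;> rw [hk] at h h1 ⊢ <;> omega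
  rw [h4] at hc
  have hM : ∀ M : Subgroup P, zpowers x ≤ M → Nat.card M = 2 * Nat.card (zpowers x) →
      ∃ t ∈ M, ∃ y, t ∉ zpowers x ∧ y ∉ M ∧ Idx M (zpowers x) t ∧ Idx ⊤ M y := fun M h2 h3 => by
    obtain ⟨t, ht, h5⟩ := exists_idx_of_card_le h2 h3.le
    obtain ⟨y, -, h6⟩ := exists_idx_of_card_le (D := ⊤) (C := M) le_top
      (by rw [card_top, ← hc, h3]; omega)
    have := Nat.card_pos (α := zpowers x)
    refine ⟨t, ht, y, fun h7 => ?_, fun h7 => ?_, h5, h6⟩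
    · have := card_le_of_le (h5.le_sup.trans (sup_le le_rfl (zpowers_le.2 h7)))
      omega
    · have := card_le_of_le (h6.le_sup.trans (sup_le le_rfl (zpowers_le.2 h7)))
      rw [card_top] at this
      omega
  have hne : zpowers x ≠ ⊤ := fun h2 => by rw [h2, index_top] at h4; omega
  obtain ⟨M, h2, -, h3⟩ := exists_relIndex_eq_of_lt' (isPGroup_top_iff.2 hP) hne.lt_top
  obtain ⟨t, ht, y, ht', hy', h5, h6⟩ := hM M h2 (by rw [← card_mul_relIndex h2, h3, mul_comm])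
  have hXC : zpowers x ≤ centralizer ({x} : Set P) :=
    zpowers_le.2 (mem_centralizer_singleton_iff.2 rfl)
  by_cases h7 : centralizer ({x} : Set P) = ⊤
  · exact key ⟨x, mem_center_iff.2 fun g => mem_centralizer_singleton_iff.1 (h7 ▸ mem_top g), t, y,
      h6.mono le_rfl (h5.le_sup.trans (sup_comm _ _).le)⟩
  by_cases h8 : centralizer ({x} : Set P) ≤ zpowers x
  · have hC : ∀ g, g * x * g⁻¹ = x → g ∈ zpowers x := fun g hg =>
      h8 (mem_centralizer_singleton_iff.2 (mul_inv_eq_iff_eq_mul.1 hg))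
    obtain ⟨k, hk⟩ := isPElt_of_isPGroup hP x
    rcases k with _ | n
    · exact absurd (hC t (by rw [orderOf_eq_one_iff.1 hk]; group)) ht'
    obtain ⟨s, hs⟩ := exists_conj_eq_mul hk hC (h2 (mem_zpowers x)) ht ht' h5 h6 hy'
    have : IsCyclic (center P) := isCyclic_of_le (A := zpowers x) fun g hg => hC g (by
      rw [← mem_center_iff.1 hg, mul_inv_cancel_right])
    obtain ⟨ζ, hζ⟩ := isCyclic_iff_exists_zpowers_eq.1 this
    exact ⟨ζ, hζ ▸ mem_zpowers ζ, fun H _ _ f hf => smallThree_of_selfCent hP hk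
      (by rw [← hc, Nat.card_zpowers, mul_comm]) hC hs (hf.trans hζ)⟩
  obtain ⟨a, ha, v, -, hv', h9, h10⟩ := hM _ hXC (by
    have h9 := card_lt_of_lt (lt_of_le_of_ne hXC fun h => h8 h.ge)
    have h10 := card_lt_of_ne_top h7
    obtain ⟨k, hk⟩ := card_dvd_of_le hXC
    obtain ⟨l, hl⟩ := card_subgroup_dvd_card (centralizer ({x} : Set P))
    have := Nat.card_pos (α := zpowers x)
    rw [hk, mul_comm 2]
    congr 1
    rw [← hc, hk, mul_assoc, Nat.mul_right_inj this.ne'] at hl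
    rw [hk] at h9 h10
    have h11 : 1 < k := by nlinarith
    have h12 : k < 4 := by nlinarith
    interval_cases k <;> omega)
  obtain ⟨ζ, hζ, g, h11⟩ := exists_idx_of_abelian hP (hXC (mem_zpowers x)) ha h9
    (mem_centralizer_singleton_iff.1 ha) h10 fun h11 =>
      hv' (mem_centralizer_singleton_iff.2 (mul_inv_eq_iff_eq_mul.1 h11))
  exact key ⟨ζ, hζ, g, v, h11⟩

end GT
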