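import Cfsg.Agent.Lib.Grp.CycIdx
import Cfsg.Agent.Lib.Char.Linear

/-!
# The groups `D_{2^n} × C₂`, `D_{2^n} ⋊ C₄`, ...

`DStar D n x c y`: `D` has the abelian subgroup `A = ⟨x⟩ × ⟨c⟩` of type `(2 ^ (n + 2), 2)` and
index two, `c` is central, `y` inverts `x` modulo `Ω₁(A)`, and the involution of `⟨x⟩` is not the
square of an element outside `A`.
-/

set_option autoImplicit false
set_option linter.unusedSectionVars false

namespace GT

open Cfsg Subgroup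

variable {G : Type*} [Group G] [Finite G]

theorem mem_zpowers_of_mul_self {c g : G} (hc : c * c = 1) : g ∈ zpowers c ↔ g = 1 ∨ g = c := by
  refine ⟨fun h => ?_, by rintro (rfl | rfl); exacts [one_mem _, mem_zpowers _]⟩
  obtain ⟨i, rfl⟩ := mem_zpowers_iff.1 h
  have h3 : c ^ (2 : ℤ) = 1 := by rw [zpow_two, hc]
  rcases Int.even_or_odd' i with ⟨j, rfl | rfl⟩
  · left; rw [zpow_mul, h3, one_zpow]
  · right; rw [zpow_add, zpow_mul, h3, one_zpow, one_mul, zpow_one]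

theorem zpow_of_mul_self_even {c : G} (hc : c * c = 1) (j : ℤ) : c ^ (2 * j) = 1 := by
  rw [zpow_mul, zpow_two, hc, one_zpow]

theorem zpow_of_mul_self_odd {c : G} (hc : c * c = 1) (j : ℤ) : c ^ (2 * j + 1) = c := by
  rw [zpow_add, zpow_of_mul_self_even hc, one_mul, zpow_one]

theorem mem_sup_zpowers_of_commute {x c g : G} (h : Commute x c) :
    g ∈ zpowers x ⊔ zpowers c ↔ ∃ i j : ℤ, g = x ^ i * c ^ j := by
  rw [mem_sup_of_le_normalizer_left (zpowers_le.2 (centralizer_le_normalizer _ (by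
    rintro _ ⟨i, rfl⟩; exact (h.zpow_left i).eq)))]
  exact ⟨by rintro ⟨_, ⟨i, rfl⟩, _, ⟨j, rfl⟩, rfl⟩; exact ⟨i, j, rfl⟩,
    by rintro ⟨i, j, rfl⟩; exact ⟨_, ⟨i, rfl⟩, _, ⟨j, rfl⟩, rfl⟩⟩

theorem mem_sup_zpowers_of_mul_self {x c g : G} (h : Commute x c) (hc : c * c = 1) :
    g ∈ zpowers x ⊔ zpowers c ↔ ∃ i : ℤ, g = x ^ i ∨ g = x ^ i * c := by
  rw [mem_sup_zpowers_of_commute h]
  refine exists_congr fun i => ⟨?_, ?_⟩
  · rintro ⟨j, rfl⟩
    rcases (mem_zpowers_of_mul_self hc).1 (zpow_mem (mem_zpowers c) j) with h1 | h1 <;> simp [h1]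
  · rintro (rfl | rfl)
    exacts [⟨0, by simp⟩, ⟨1, by simp⟩]

theorem DStar.xA {x c : G} : x ∈ zpowers x ⊔ zpowers c := mem_sup_left (mem_zpowers x)
theorem DStar.cA {x c : G} : c ∈ zpowers x ⊔ zpowers c := mem_sup_right (mem_zpowers c)
theorem DStar.zA {x c : G} {n : ℕ} : x ^ 2 ^ (n + 1) ∈ zpowers x ⊔ zpowers c := pow_mem DStar.xA _

/-- `⟨x⟩ × ⟨c⟩` is abelian of type `(2 ^ (n + 2), 2)`. -/
structure AbC (n : ℕ) (x c : G) : Prop where
  ord : orderOf x = 2 ^ (n + 2)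
  cc : c * c = 1
  cx : c ∉ zpowers x
  xc : Commute x c

namespace AbC

open DStar

variable {n : ℕ} {x c : G} (h : AbC n x c)
include h

local notation "A" => zpowers x ⊔ zpowers c
local notation "z" => x ^ 2 ^ (n + 1)

theorem mem_A {g : G} : g ∈ A ↔ ∃ i : ℤ, g = x ^ i ∨ g = x ^ i * c :=
  mem_sup_zpowers_of_mul_self h.xc h.cc

theorem c_ne : c ≠ 1 := fun h1 => h.cx (h1 ▸ one_mem _)

theorem c_inv : c⁻¹ = c := inv_eq_of_mul_eq_one_left h.cc

theorem comm {a b : G} (ha : a ∈ A) (hb : b ∈ A) : Commute a b := by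
  obtain ⟨i, j, rfl⟩ := (mem_sup_zpowers_of_commute h.xc).1 ha
  obtain ⟨k, l, rfl⟩ := (mem_sup_zpowers_of_commute h.xc).1 hb
  exact (((Commute.refl x).zpow_zpow i k).mul_right (h.xc.zpow_zpow i l)).mul_left
    ((h.xc.symm.zpow_zpow j k).mul_right ((Commute.refl c).zpow_zpow j l))

theorem zpow_eq_one {i : ℤ} : x ^ i = 1 ↔ (2 : ℤ) ^ (n + 2) ∣ i := by
  rw [← orderOf_dvd_iff_zpow_eq_one, h.ord]; push_cast; rfl

theorem four_dvd {i : ℤ} (h1 : x ^ i = 1) : 4 ∣ i :=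
  (show (4 : ℤ) ∣ 2 ^ (n + 2) from ⟨2 ^ n, by ring⟩).trans (h.zpow_eq_one.1 h1)

theorem zz : z * z = 1 := by rw [← pow_add, ← two_mul, ← pow_succ', ← h.ord, pow_orderOf_eq_one]

theorem z_ne : z ≠ 1 := fun h1 => by
  have := Nat.le_of_dvd (Nat.two_pow_pos _) (orderOf_dvd_of_pow_eq_one h1)
  rw [h.ord, pow_succ 2 (n + 1)] at this
  have := Nat.two_pow_pos (n + 1)
  omega

theorem eq_z {a : G} (ha : a ∈ zpowers x) (h2 : a * a = 1) : a = 1 ∨ a = z :=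
  eq_of_mul_self_of_mem_zpowers (pow_mem (mem_zpowers x) _) ha h.zz h.z_ne h2

theorem sq_mem {a : G} (ha : a ∈ A) : a * a ∈ zpowers x := by
  obtain ⟨i, rfl | rfl⟩ := h.mem_A.1 ha
  · exact mul_mem (zpow_mem (mem_zpowers x) i) (zpow_mem (mem_zpowers x) i)
  · rw [(h.xc.symm.zpow_right i).mul_mul_mul_comm, h.cc, mul_one]
    exact mul_mem (zpow_mem (mem_zpowers x) i) (zpow_mem (mem_zpowers x) i)

theorem omega_cases {a : G} (ha : a ∈ A) (h2 : a * a = 1) :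
    a = 1 ∨ a = z ∨ a = c ∨ a = z * c := by
  obtain ⟨i, rfl | rfl⟩ := h.mem_A.1 ha
  · rcases h.eq_z (zpow_mem (mem_zpowers x) i) h2 with h3 | h3 <;> simp [h3]
  · rw [(h.xc.symm.zpow_right i).mul_mul_mul_comm, h.cc, mul_one] at h2
    rcases h.eq_z (zpow_mem (mem_zpowers x) i) h2 with h3 | h3 <;> simp [h3]

theorem mul_sq {a b : G} (ha : a ∈ A) (hb : b ∈ A) (ha2 : a * a = 1) (hb2 : b * b = 1) :
    a * b * (a * b) = 1 := by
  rw [(h.comm hb ha).mul_mul_mul_comm, ha2, hb2, one_mul]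

theorem omega_pair {a b g : G} (ha : a ∈ A) (ha2 : a * a = 1) (ha1 : a ≠ 1) (hb : b ∈ A)
    (hb2 : b * b = 1) (hb1 : b ≠ 1) (hab : a ≠ b) (hg : g ∈ A) (hg2 : g * g = 1) :
    g = 1 ∨ g = a ∨ g = b ∨ g = a * b := by
  have h1 := h.zz
  have h2 := h.cc
  have h3 : c * z = z * c := (h.comm cA zA).eq
  have h4 : z * (z * c) = c := by rw [← mul_assoc, h1, one_mul]
  have h5 : c * (z * c) = z := by rw [← mul_assoc, h3, mul_assoc, h2, mul_one]
  have h6 : z * c * z = c := by rw [mul_assoc, h3, h4]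
  have h7 : z * c * c = z := by rw [mul_assoc, h2, mul_one]
  rcases h.omega_cases ha ha2 with rfl | ha | ha | ha <;>
  rcases h.omega_cases hb hb2 with rfl | hb | hb | hb <;>
  first
  | exact absurd rfl ha1
  | exact absurd rfl hb1
  | exact absurd (ha.trans hb.symm) hab
  | (rcases h.omega_cases hg hg2 with hg | hg | hg | hg <;>
      simp only [ha, hb, hg, h3, h4, h5, h6, h7, true_or, or_true])

theorem xx_ne : x * x ≠ 1 := fun h1 => by
  have := h.four_dvd (i := 2) (by rw [zpow_two, h1])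
  omega

theorem sq_eq_z {a : G} (ha : a ∈ A) (h1 : a * a ≠ 1) (h2 : a * a * (a * a) = 1) : a * a = z :=
  (h.eq_z (h.sq_mem ha) h2).resolve_left h1

theorem card_A : Nat.card ↥A = 2 ^ (n + 3) := by
  have h1 : Idx A (zpowers x) c := fun g hg => by
    obtain ⟨i, rfl | rfl⟩ := h.mem_A.1 hg
    · exact Or.inl (zpow_mem (mem_zpowers x) i)
    · right; rw [mul_inv_cancel_right]; exact zpow_mem (mem_zpowers x) i
  rw [h1.card_eq le_sup_left cA h.cx, Nat.card_zpowers, h.ord]; ring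

theorem z_ne_c : z ≠ c := fun h1 => h.cx (h1 ▸ pow_mem (mem_zpowers x) _)

theorem ncard_omega : {a | a ∈ A ∧ a * a = 1}.ncard = 4 := by
  have h1 : {a | a ∈ A ∧ a * a = 1} = {1, z, c, z * c} := by
    ext a
    refine ⟨fun ha => h.omega_cases ha.1 ha.2, ?_⟩
    rintro (rfl | rfl | rfl | rfl)
    exacts [⟨one_mem _, one_mul _⟩, ⟨zA, h.zz⟩, ⟨cA, h.cc⟩, ⟨mul_mem zA cA, h.mul_sq zA cA h.zz h.cc⟩]
  have h2 : z * c ≠ 1 := fun h2 => h.z_ne_c ((eq_inv_of_mul_eq_one_left h2).trans h.c_inv)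
  rw [h1, Set.ncard_insert_of_notMem (by simp [h.z_ne.symm, h.c_ne.symm, h2.symm]),
    Set.ncard_insert_of_notMem (by simp [h.z_ne_c, h.c_ne]),
    Set.ncard_pair (by simp [h.z_ne])]

theorem not_mem_zpowers_mul {k : ℤ} (hk : ¬ 4 ∣ k) : c ∉ zpowers (x ^ k * c) := by
  rintro ⟨i, hi⟩
  simp only at hi
  rw [(h.xc.zpow_left k).mul_zpow, ← zpow_mul] at hi
  rcases Int.even_or_odd' i with ⟨j, rfl | rfl⟩
  · rw [zpow_of_mul_self_even h.cc, mul_one] at hi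
    exact h.cx ⟨_, hi⟩
  · rw [zpow_of_mul_self_odd h.cc, mul_eq_right] at hi
    refine hk (IsCoprime.dvd_of_dvd_mul_right ?_ (h.four_dvd hi))
    exact (Int.isCoprime_two_left.2 (odd_two_mul_add_one j)).pow_left (m := 2)

theorem sup_zc : zpowers x ⊔ zpowers (z * c) = A := by
  refine le_antisymm (sup_le le_sup_left (zpowers_le.2 (mul_mem zA cA)))
    (sup_le le_sup_left (zpowers_le.2 ?_))
  exact (Subgroup.mul_mem_cancel_left _ (mem_sup_left (pow_mem (mem_zpowers x) (2 ^ (n + 1))))).1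
    (mem_sup_right (mem_zpowers _))

theorem mul_not_mem {a v : G} (ha : a ∈ A) (hv : v ∉ A) : a * v ∉ A := by
  rwa [Subgroup.mul_mem_cancel_left _ ha]

theorem conj_in {g a : G} (hg : g ∈ A) (ha : a ∈ A) : g * a * g⁻¹ = a := by
  rw [(h.comm hg ha).eq, mul_inv_cancel_right]

end AbC

structure DStar (D : Subgroup G) (n : ℕ) (x c y : G) : Prop extends AbC n x c where
  pgrp : IsPGroup 2 D
  xm : x ∈ D
  cm : c ∈ D
  ym : y ∈ D
  yc : Commute y c
  idx : Idx D (zpowers x ⊔ zpowers c) y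
  ww : y * x * y⁻¹ * x * (y * x * y⁻¹ * x) = 1
  ne : y * x * y⁻¹ ≠ x
  sq : ∀ v ∈ D, v ∉ zpowers x ⊔ zpowers c → v * v ≠ x ^ 2 ^ (n + 1)

namespace DStar

variable {D : Subgroup G} {n : ℕ} {x c y : G} (h : DStar D n x c y)
include h

local notation "A" => zpowers x ⊔ zpowers c
local notation "z" => x ^ 2 ^ (n + 1)

theorem A_le : A ≤ D := sup_le (zpowers_le.2 h.xm) (zpowers_le.2 h.cm)
theorem yA : y ∉ A := fun h1 => h.ne (by rw [(h.comm h1 xA).eq, mul_inv_cancel_right])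

theorem conj_mem {g a : G} (hg : g ∈ D) (ha : a ∈ A) : g * a * g⁻¹ ∈ A :=
  h.idx.conj_mem h.A_le hg ha

theorem conj_out {g a : G} (hg : g ∈ D) (hg' : g ∉ A) (ha : a ∈ A) :
    g * a * g⁻¹ = y * a * y⁻¹ := by
  rw [← h.conj_in ((h.idx g hg).resolve_left hg') (h.conj_mem h.ym ha)]; group

theorem wA : y * x * y⁻¹ * x ∈ A := mul_mem (h.conj_mem h.ym xA) xA

theorem conj_zpow' (i : ℤ) : y * x ^ i * y⁻¹ = (y * x * y⁻¹ * x) ^ i * x ^ (-i) := by
  rw [(h.comm (h.conj_mem h.ym xA) xA).mul_zpow, conj_zpow]; group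

theorem conj_c : y * c * y⁻¹ = c := by rw [h.yc.eq, mul_inv_cancel_right]

theorem conj_z : y * z * y⁻¹ = z := by
  have h1 : y * z * y⁻¹ * (y * z * y⁻¹) = 1 := by rw [conj_mul, h.zz]; group
  have h2 : y * z * y⁻¹ ∈ zpowers x := by
    rw [pow_succ, pow_mul, pow_two, ← conj_mul]
    exact h.sq_mem (h.conj_mem h.ym (pow_mem xA _))
  exact (h.eq_z h2 h1).resolve_left fun h3 => h.z_ne (by simpa using h3)

theorem central {a g : G} (ha : a ∈ A) (h2 : a * a = 1) (hg : g ∈ D) : Commute a g := by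
  have h1 : y * a * y⁻¹ = a := by
    rcases h.omega_cases ha h2 with rfl | rfl | rfl | rfl
    · group
    · exact h.conj_z
    · exact h.conj_c
    · rw [← conj_mul, h.conj_z, h.conj_c]
  by_cases hg' : g ∈ A
  · exact h.comm ha hg'
  · exact (mul_inv_eq_iff_eq_mul.1 ((h.conj_out hg hg' ha).trans h1)).symm

theorem fix_iff {a : G} (ha : a ∈ A) : y * a * y⁻¹ = a ↔ a * a = 1 := by
  refine ⟨fun h1 => ?_, fun h1 => by rw [← (h.central ha h1 h.ym).eq, mul_inv_cancel_right]⟩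
  have key : ∀ i : ℤ, y * x ^ i * y⁻¹ = x ^ i → x ^ i * x ^ i = 1 := fun i h2 => by
    have h3 : (y * x * y⁻¹ * x) ^ i = x ^ i * x ^ i := by
      rw [h.conj_zpow', zpow_neg] at h2; exact eq_mul_of_mul_inv_eq h2
    rcases Int.even_or_odd' i with ⟨j, rfl | rfl⟩
    · rw [← h3, zpow_of_mul_self_even h.ww]
    rw [zpow_of_mul_self_odd h.ww] at h3
    have h4 : x ^ (4 * (2 * j + 1)) = 1 := by rw [← h.ww, h3]; group
    have h5 : x ^ (4 : ℤ) = 1 := by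
      rw [h.zpow_eq_one] at h4 ⊢
      exact (IsCoprime.pow_left (Int.isCoprime_two_left.2 (odd_two_mul_add_one j))).dvd_of_dvd_mul_right h4
    refine absurd ?_ h.ne
    calc y * x * y⁻¹ = (x ^ (4 : ℤ)) ^ j * x := by rw [eq_mul_inv_of_mul_eq h3]; group
      _ = x := by rw [h5, one_zpow, one_mul]
  obtain ⟨i, rfl | rfl⟩ := h.mem_A.1 ha
  · exact key i h1
  · rw [← conj_mul, h.conj_c, mul_left_inj] at h1
    rw [(h.xc.symm.zpow_right i).mul_mul_mul_comm, h.cc, mul_one, key i h1]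

theorem mem_A_of_commute {a g : G} (ha : a ∈ A) (h2 : a * a ≠ 1) (hg : g ∈ D)
    (hc : Commute a g) : g ∈ A := by
  by_contra h1
  exact h2 ((h.fix_iff ha).1 (by rw [← h.conj_out hg h1 ha, ← hc.eq, mul_inv_cancel_right]))

theorem sq_of_commute {a v : G} (ha : a ∈ A) (hv : v ∈ D) (hv' : v ∉ A) (hc : Commute a v) :
    a * a = 1 := by
  by_contra h1
  exact hv' (h.mem_A_of_commute ha h1 hv hc)

theorem sq_out {v : G} (hv : v ∈ D) (hv' : v ∉ A) : v * v * (v * v) = 1 :=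
  h.sq_of_commute (h.idx.sq_mem hv) hv hv' ((Commute.refl v).mul_left (Commute.refl v))

theorem δA : y * x * y⁻¹ * x⁻¹ ∈ A := mul_mem (h.conj_mem h.ym xA) (inv_mem xA)

theorem δ_ne : y * x * y⁻¹ * x⁻¹ ≠ 1 := fun h1 => h.ne (mul_inv_eq_one.1 h1)

theorem δ_le : zpowers (y * x * y⁻¹ * x⁻¹) ≤ A := zpowers_le.2 h.δA

theorem δ_zpow (i : ℤ) : (y * x * y⁻¹ * x⁻¹) ^ i = y * x ^ i * y⁻¹ * (x ^ i)⁻¹ := by
  rw [(h.comm (h.conj_mem h.ym xA) (inv_mem xA)).mul_zpow, conj_zpow, inv_zpow]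

theorem conj_mul_inv_mem {a : G} (ha : a ∈ A) :
    y * a * y⁻¹ * a⁻¹ ∈ zpowers (y * x * y⁻¹ * x⁻¹) := by
  obtain ⟨i, rfl | rfl⟩ := h.mem_A.1 ha
  · exact ⟨i, h.δ_zpow i⟩
  · refine ⟨i, (h.δ_zpow i).trans ?_⟩
    rw [← conj_mul, h.conj_c]; group

theorem commutator_mem {g k : G} (hg : g ∈ D) (hk : k ∈ D) :
    g * k * g⁻¹ * k⁻¹ ∈ zpowers (y * x * y⁻¹ * x⁻¹) := by
  have h1 : ∀ {g k : G}, g ∈ D → k ∈ A → g * k * g⁻¹ * k⁻¹ ∈ zpowers (y * x * y⁻¹ * x⁻¹) :=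
    fun {g k} hg hk => by
      by_cases hg' : g ∈ A
      · rw [h.conj_in hg' hk, mul_inv_cancel]; exact one_mem _
      · rw [h.conj_out hg hg' hk]; exact h.conj_mul_inv_mem hk
  by_cases hk' : k ∈ A
  · exact h1 hg hk'
  by_cases hg' : g ∈ A
  · have := inv_mem (h1 hk hg')
    simpa [mul_assoc] using this
  · have := h1 hg (h.idx.mul_inv_mem hk hg hk' hg')
    simpa [mul_assoc] using this

theorem exists_conj_out {a v : G} (ha : a ∈ zpowers (y * x * y⁻¹ * x⁻¹)) (hv : v ∈ D)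
    (hv' : v ∉ A) : ∃ g ∈ D, g * v * g⁻¹ = a * v := by
  obtain ⟨i, rfl⟩ := mem_zpowers_iff.1 ha
  refine ⟨(x ^ i)⁻¹, inv_mem (zpow_mem h.xm i), ?_⟩
  rw [h.δ_zpow, (h.comm (h.conj_mem h.ym (zpow_mem xA i)) (inv_mem (zpow_mem xA i))).eq,
    ← h.conj_out hv hv' (zpow_mem xA i)]
  group

theorem exists_d : ∃ d ∈ zpowers (y * x * y⁻¹ * x⁻¹), d * d = 1 ∧ d ≠ 1 :=
  exists_mul_self_mem_zpowers (isPElt_of_mem h.pgrp (h.A_le h.δA)) h.δ_ne

/-- Automorphisms of odd order fix the centre. -/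
theorem conj_eq_of_regular {t : G} (ht : IsPRegular 2 t) (hN : t ∈ normalizer (D : Set G)) {a : G}
    (ha : a ∈ A) (h2 : a * a = 1) : t * a * t⁻¹ = a := by
  have hc : ∀ {u}, u ∈ D → t * u * t⁻¹ ∈ D := fun hu => (mem_normalizer_iff.1 hN _).1 hu
  have h1 : t * (y * x * y⁻¹ * x⁻¹) * t⁻¹ = y * x * y⁻¹ * x⁻¹ :=
    conj_eq_of_conj_mem_zpowers (isPElt_of_mem h.pgrp (h.A_le h.δA)) ht (by
      have := h.commutator_mem (hc h.ym) (hc h.xm)
      simpa [mul_assoc] using this)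
  obtain ⟨d, hd, hd2, hd1⟩ := h.exists_d
  have h3 : t * d * t⁻¹ = d := by
    obtain ⟨i, rfl⟩ := mem_zpowers_iff.1 hd
    rw [← conj_zpow, h1]
  have h4 : ∀ {a}, a ∈ A → a * a = 1 → t * a * t⁻¹ ∈ A := fun {a} ha h2 =>
    h.mem_A_of_commute xA h.xx_ne (hc (h.A_le ha)) (by
      have h5 := h.central ha h2 ((mem_normalizer_iff.1 (inv_mem hN) _).1 h.xm)
      have h6 := h5.symm.conj t
      simpa [mul_assoc] using h6)
  by_cases h5 : a = 1
  · rw [h5]; group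
  by_cases h6 : a = d
  · rw [h6, h3]
  have h7 : t * a * t⁻¹ = a ∨ t * a * t⁻¹ = a * d := by
    rcases h.omega_pair ha h2 h5 (h.δ_le hd) hd2 hd1 h6 (h4 ha h2)
      (by rw [conj_mul, h2]; group) with h7 | h7 | h7 | h7
    · exact absurd (by simpa using h7) h5
    · exact Or.inl h7
    · rw [← h3, mul_left_inj, mul_right_inj] at h7; exact absurd h7 h6
    · exact Or.inr h7
  refine conj_eq_of_pair ht h7 ?_
  rw [← conj_mul, h3]
  rcases h7 with h7 | h7 <;> rw [h7]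
  · exact Or.inr rfl
  · left; rw [mul_assoc, hd2, mul_one]

theorem mem_centralizer_of_le_A {R : Subgroup G} (hR : R ≤ A) {g : G} (hg : g ∈ R)
    (h2 : g * g ≠ 1) {t : G} (ht : IsPRegular 2 t) (hN : t ∈ normalizer (R : Set G)) :
    t ∈ centralizer (R : Set G) := by
  have h1 : Idx A (zpowers x) c := fun g hg => by
    obtain ⟨i, rfl | rfl⟩ := h.mem_A.1 hg
    · exact Or.inl (zpow_mem (mem_zpowers x) i)
    · right; rw [mul_inv_cancel_right]; exact zpow_mem (mem_zpowers x) i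
  exact mem_centralizer_of_abelian_idx (h.pgrp.to_le (hR.trans h.A_le))
    (fun a ha b hb => h.comm (hR ha) (hR hb)) (fun u hu v hv => h1.inv_mul_mem (hR hu) (hR hv))
    hg h2 ht hN

theorem change_y {v : G} (hv : v ∈ D) (hv' : v ∉ A) : DStar D n x c v :=
  ⟨h.toAbC, h.pgrp, h.xm, h.cm, hv, (h.central cA h.cc hv).symm,
    h.idx.change hv hv', by rw [h.conj_out hv hv' xA]; exact h.ww,
    by rw [h.conj_out hv hv' xA]; exact h.ne, h.sq⟩

theorem change_c : DStar D n x (z * c) y :=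
  ⟨⟨h.ord, h.mul_sq zA cA h.zz h.cc,
    fun h1 => h.cx ((Subgroup.mul_mem_cancel_left _ (pow_mem (mem_zpowers x) _)).1 h1),
    h.comm xA (mul_mem zA cA)⟩, h.pgrp, h.xm, h.A_le (mul_mem zA cA), h.ym, (h.central (mul_mem zA cA) (h.mul_sq zA cA h.zz h.cc) h.ym).symm,
    by rw [h.sup_zc]; exact h.idx, h.ww, h.ne, by rw [h.sup_zc]; exact h.sq⟩

theorem sq_mul_out {a v : G} (ha : a ∈ A) (hv : v ∈ D) (hv' : v ∉ A) :
    a * v * (a * v) = y * a * y⁻¹ * a * (v * v) := by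
  rw [(h.comm (h.conj_mem h.ym ha) ha).eq, ← h.conj_out hv hv' ha]; group

/-- Normal form in the presence of an involution outside `A`. -/
theorem exists_normal {v : G} (hv : v ∈ D) (hv' : v ∉ A) (h2 : v * v = 1) :
    ∃ c', DStar D n x c' v ∧ (v * x * v⁻¹ * x = 1 ∨ v * x * v⁻¹ * x = c') := by
  have h' := h.change_y hv hv'
  rcases h.omega_cases h'.wA h'.ww with h1 | h1 | h1 | h1
  · exact ⟨c, h', Or.inl h1⟩
  · refine absurd ?_ (h.sq _ (mul_mem h.xm hv) (h.mul_not_mem xA hv'))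
    rw [h'.sq_mul_out xA hv hv', h1, h2, mul_one]
  · exact ⟨c, h', Or.inr h1⟩
  · exact ⟨_, h'.change_c, Or.inr h1⟩

theorem card_D : Nat.card D = 2 ^ (n + 4) := by
  rw [h.idx.card_eq h.A_le h.ym h.yA, h.card_A]; ring

theorem inf_centralizer_in {a : G} (ha : a ∈ A) (h2 : a * a ≠ 1) :
    D ⊓ centralizer ({a} : Set G) = A :=
  le_antisymm (fun _ hg => h.mem_A_of_commute ha h2 hg.1
    (mem_centralizer_singleton_iff.1 hg.2 : Commute _ _).symm)
    fun _ hg => ⟨h.A_le hg, mem_centralizer_singleton_iff.2 (h.comm hg ha).eq⟩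

theorem card_inf_centralizer_out {v : G} (hv : v ∈ D) (hv' : v ∉ A) :
    Nat.card ↥(D ⊓ centralizer ({v} : Set G)) = 8 := by
  have h1 : Idx (D ⊓ centralizer ({v} : Set G)) (A ⊓ centralizer ({v} : Set G)) v := fun g hg =>
    ((h.idx.change hv hv') g hg.1).imp (fun h2 => ⟨h2, hg.2⟩) fun h2 => ⟨h2,
      (centralizer _).mul_mem hg.2 (inv_mem (mem_centralizer_singleton_iff.2 rfl))⟩
  rw [h1.card_eq (inf_le_inf_right _ h.A_le) ⟨hv, mem_centralizer_singleton_iff.2 rfl⟩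
    fun h2 => hv' h2.1]
  have h2 : ((A ⊓ centralizer ({v} : Set G) : Subgroup G) : Set G) = {a | a ∈ A ∧ a * a = 1} :=
    Set.ext fun a => and_congr_right fun ha => ⟨fun h2 => h.sq_of_commute ha hv hv'
      (mem_centralizer_singleton_iff.1 h2), fun h2 => mem_centralizer_singleton_iff.2
        (h.central ha h2 hv).eq⟩
  have h3 := h.ncard_omega
  rw [← h2] at h3
  exact congrArg (2 * ·) h3

theorem idx_inf_centralizer_out {v : G} (hv : v ∈ D) (hv' : v ∉ A) :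
    Idx (D ⊓ centralizer ({v} : Set G)) (zpowers c ⊔ zpowers v) z := by
  have h1 : ∀ a ∈ A, Commute a v → a ∈ zpowers c ∨ a * (z)⁻¹ ∈ zpowers c := fun a ha hc => by
    rcases h.omega_cases ha (h.sq_of_commute ha hv hv' hc) with rfl | rfl | rfl | rfl
    · exact Or.inl (one_mem _)
    · right; rw [mul_inv_cancel]; exact one_mem _
    · exact Or.inl (mem_zpowers _)
    · right; rw [(h.comm zA cA).eq, mul_inv_cancel_right]; exact mem_zpowers _
  intro g hg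
  have h2 : Commute g v := mem_centralizer_singleton_iff.1 hg.2
  rcases h.idx.change hv hv' g hg.1 with h3 | h3
  · exact (h1 g h3 h2).imp mem_sup_left mem_sup_left
  · refine (h1 _ h3 (h2.mul_left (Commute.refl v).inv_left)).imp (fun h4 => ?_) fun h4 => ?_
    · simpa using mul_mem_sup h4 (mem_zpowers v)
    · have h5 := mul_mem_sup h4 (mem_zpowers v)
      rwa [mul_assoc, (h.central zA h.zz hv).inv_left.eq, ← mul_assoc, inv_mul_cancel_right] at h5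

variable (hy : y * y = 1) (hw : y * x * y⁻¹ * x = 1 ∨ y * x * y⁻¹ * x = c)
include hw

theorem δ_eq : y * x * y⁻¹ * x⁻¹ = x ^ (-2 : ℤ) ∨ y * x * y⁻¹ * x⁻¹ = x ^ (-2 : ℤ) * c := by
  rcases hw with hw | hw
  · left; rw [eq_inv_of_mul_eq_one_left hw]; group
  · right; rw [eq_mul_inv_of_mul_eq hw, (h.xc.zpow_left _).eq]; group

theorem c_not_mem_δ : c ∉ zpowers (y * x * y⁻¹ * x⁻¹) := by
  rcases h.δ_eq hw with h1 | h1 <;> rw [h1]
  · exact fun h2 => h.cx (zpowers_le.2 (zpow_mem (mem_zpowers x) _) h2)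
  · exact h.not_mem_zpowers_mul (by norm_num)

theorem exists_rep {a : G} (ha : a ∈ A) : ∃ b ∈ zpowers (y * x * y⁻¹ * x⁻¹),
    a = b ∨ a = b * c ∨ a = b * x ∨ a = b * (x * c) := by
  have h1 : ∀ j : ℤ, ∃ b ∈ zpowers (y * x * y⁻¹ * x⁻¹), x ^ (2 * j) = b ∨ x ^ (2 * j) = b * c :=
    fun j => by
      refine ⟨_, zpow_mem (mem_zpowers _) (-j), ?_⟩
      rcases h.δ_eq hw with h1 | h1 <;> rw [h1]
      · left; group
      · rw [(h.xc.zpow_left _).mul_zpow, ← zpow_mul, show -2 * -j = 2 * j by ring]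
        rcases (mem_zpowers_of_mul_self h.cc).1 (zpow_mem (mem_zpowers c) (-j)) with h2 | h2 <;>
          rw [h2]
        · left; rw [mul_one]
        · right; rw [mul_assoc, h.cc, mul_one]
  have h2 : c * x * c = x := by rw [← h.xc.eq, mul_assoc, h.cc, mul_one]
  obtain ⟨i, hi⟩ := h.mem_A.1 ha
  rcases Int.even_or_odd' i with ⟨j, rfl | rfl⟩ <;> obtain ⟨b, hb, h3⟩ := h1 j <;>
    refine ⟨b, hb, ?_⟩
  · rcases hi with rfl | rfl <;> rcases h3 with h3 | h3 <;> simp [h3, mul_assoc, h.cc]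
  · rw [zpow_add, zpow_one] at hi
    rcases hi with rfl | rfl <;> rcases h3 with h3 | h3 <;>
      simp [h3, mul_assoc, ← h.xc.eq, h.cc]

include hy in
/-- A linear character with `c ↦ -1` which kills a prescribed set of involutions. -/
theorem exists_lin (Good : G → Prop) (hG : ∀ v ∈ D, v ∉ A → v * v = 1 → Good v → ¬ Good (c * v))
    (hG' : ∀ g ∈ D, ∀ v ∈ D, Good (g * v * g⁻¹) → Good v) :
    ∃ f : D →* ℂˣ, f ⟨c, h.cm⟩ = -1 ∧ ∀ v : D, (v : G) ∉ A → (v : G) * v = 1 → Good v → f v = 1 := by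
  have hcv : ∀ {v}, v ∈ D → v * v = 1 → c * v * (c * v) = 1 := fun {v} hv h2 => by
    rw [(h.central cA h.cc hv).symm.mul_mul_mul_comm, h.cc, h2, one_mul]
  have h1 : ∀ v ∈ D, v ∉ A → v * v = 1 → ∃ u, (u = v ∨ u = c * v) ∧ ¬ Good (c * u) :=
    fun v hv hv' h2 => by
      by_cases h3 : Good (c * v)
      · exact ⟨c * v, Or.inr rfl, hG _ (mul_mem h.cm hv) (h.mul_not_mem cA hv') (hcv hv h2) h3⟩
      · exact ⟨v, Or.inl rfl, h3⟩
  obtain ⟨u, hu, hu1⟩ := h1 y h.ym h.yA hy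
  have hu2 : u ∈ D ∧ u ∉ A ∧ u * u = 1 := by
    rcases hu with rfl | rfl
    exacts [⟨h.ym, h.yA, hy⟩, ⟨mul_mem h.cm h.ym, h.mul_not_mem cA h.yA, hcv h.ym hy⟩]
  obtain ⟨huD, huA, huu⟩ := hu2
  obtain ⟨e, he, he1, he2, he3, he4⟩ : ∃ e ∈ A, y * e * y⁻¹ = e⁻¹ ∧ c ∉ zpowers e ∧
      y * x * y⁻¹ * x⁻¹ ∈ zpowers e ∧ ∀ r, r = x ∨ r = x * c → r * u * (r * u) = 1 →
        Good (r * u) → r ∈ zpowers e := by
    rcases hw with hw' | hw'
    · have hx : y * x * y⁻¹ = x⁻¹ := eq_inv_of_mul_eq_one_left hw'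
      obtain ⟨v, hv, hv1⟩ := h1 (x * u) (mul_mem h.xm huD) (h.mul_not_mem xA huA)
        (by rw [h.sq_mul_out xA huD huA, hw', huu, one_mul])
      rcases hv with rfl | rfl
      · refine ⟨x, xA, hx, h.cx, hx.symm ▸ mul_mem (inv_mem (mem_zpowers x))
          (inv_mem (mem_zpowers x)), ?_⟩
        rintro r (rfl | rfl) - h3
        · exact mem_zpowers _
        · rw [h.xc.eq, mul_assoc] at h3; exact absurd h3 hv1
      · refine ⟨x * c, mul_mem xA cA, by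
          rw [← conj_mul, hx, h.conj_c, mul_inv_rev, h.c_inv, h.xc.inv_left.eq],
          by simpa using h.not_mem_zpowers_mul (k := 1) (by norm_num), ⟨-2, ?_⟩, ?_⟩
        · simp only
          rw [h.xc.mul_zpow, hx, show (-2 : ℤ) = 2 * -1 by norm_num, zpow_of_mul_self_even h.cc]
          group
        rintro r (rfl | rfl) - h3
        · rw [← mul_assoc, h.cc, one_mul] at hv1; exact absurd h3 hv1
        · exact mem_zpowers _
    · refine ⟨_, h.δA, ?_, h.c_not_mem_δ (Or.inr hw'), mem_zpowers _, ?_⟩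
      · calc y * (y * x * y⁻¹ * x⁻¹) * y⁻¹ = y * y * x * (y * y)⁻¹ * (y * x * y⁻¹)⁻¹ := by group
          _ = _ := by rw [hy]; group
      rintro r (rfl | rfl) h3 -
      · rw [h.sq_mul_out xA huD huA, hw', huu, mul_one] at h3
        exact absurd h3 h.c_ne
      · rw [h.sq_mul_out (mul_mem xA cA) huD huA, huu, mul_one, ← conj_mul, h.conj_c,
          h.xc.symm.mul_mul_mul_comm, hw', h.cc, mul_one] at h3
        exact absurd h3 h.c_ne
  have hδ : zpowers (y * x * y⁻¹ * x⁻¹) ≤ zpowers e ⊔ zpowers u :=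
    (zpowers_le.2 he3).trans le_sup_left
  have hc : commutator D ≤ (zpowers e ⊔ zpowers u).subgroupOf D := by
    rw [_root_.commutator_def, commutator_le]
    exact fun g _ k _ => hδ (h.commutator_mem g.2 k.2)
  have := Normal.of_commutator_le _ hc
  obtain ⟨f, hf, hf1⟩ := CT.exists_units_hom_apply_ne_one hc (g := ⟨c, h.cm⟩) (by
    rw [mem_subgroupOf, mem_sup_of_le_normalizer_left (zpowers_le.2 (mem_normalizer_fintype (by
      rintro _ ⟨i, rfl⟩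
      simp only
      rw [← conj_zpow, h.conj_out huD huA he, he1]
      exact zpow_mem (inv_mem (mem_zpowers e)) i)))]
    rintro ⟨a, ha, b, hb, h3⟩
    rcases (mem_zpowers_of_mul_self huu).1 hb with rfl | rfl
    · rw [mul_one] at h3; exact he2 ((show a = c from h3) ▸ ha)
    · exact h.mul_not_mem (zpowers_le.2 he ha) huA (h3 ▸ cA))
  refine ⟨f, ?_, fun v hv hv2 hv3 => hf ?_⟩
  · refine Units.ext ((mul_self_eq_one_iff.1 ?_).resolve_left fun h3 => hf1 (Units.ext h3))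
    rw [← Units.val_mul, Units.val_eq_one, ← map_mul, show (⟨c, h.cm⟩ * ⟨c, h.cm⟩ : D) = 1 from Subtype.ext h.cc, map_one]
  obtain ⟨b, hb, h3⟩ := h.exists_rep hw (h.idx.mul_inv_mem v.2 huD hv huA)
  have h4 : ∀ r ∈ A, v * u⁻¹ = b * r → r * u * (r * u) = 1 ∧ Good (r * u) := fun r hr h4 => by
    obtain ⟨g, hg, h5⟩ := h.exists_conj_out hb (mul_mem (h.A_le hr) huD) (h.mul_not_mem hr huA)
    rw [← mul_assoc b, ← h4, inv_mul_cancel_right] at h5
    refine ⟨?_, hG' g hg _ (mul_mem (h.A_le hr) huD) (h5 ▸ hv3)⟩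
    rw [← h5, conj_mul] at hv2
    simpa using hv2
  have h5 : ∀ r ∈ zpowers e, v * u⁻¹ = b * r → v ∈ (zpowers e ⊔ zpowers u).subgroupOf D :=
    fun r hr h5 => by
      rw [mem_subgroupOf, eq_mul_of_mul_inv_eq h5]
      exact mul_mem (mul_mem (hδ hb) (mem_sup_left hr)) (mem_sup_right (mem_zpowers u))
  rcases h3 with h3 | h3 | h3 | h3
  · exact h5 1 (one_mem _) (by rw [h3, mul_one])
  · exact absurd (h4 c cA h3).2 hu1
  · exact h5 _ (he4 _ (Or.inl rfl) (h4 _ xA h3).1 (h4 _ xA h3).2) h3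
  · exact h5 _ (he4 _ (Or.inr rfl) (h4 _ (mul_mem xA cA) h3).1 (h4 _ (mul_mem xA cA) h3).2) h3

/-- The quotient by `c` is dihedral. -/
theorem maxCl_quot {H : Type*} [Group H] [Finite H] {f : D →* H}
    (hf : ∀ g : D, f g = 1 ↔ (g : G) ∈ zpowers c) :
    MaxCl f.range (n + 1) (f ⟨x, h.xm⟩) (f ⟨y, h.ym⟩) (f ⟨x, h.xm⟩ ^ 2 ^ (n + 1)) ∧
      f ⟨y, h.ym⟩ * f ⟨x, h.xm⟩ * (f ⟨y, h.ym⟩)⁻¹ = (f ⟨x, h.xm⟩)⁻¹ := by
  have h1 : f ⟨y, h.ym⟩ * f ⟨x, h.xm⟩ * (f ⟨y, h.ym⟩)⁻¹ = (f ⟨x, h.xm⟩)⁻¹ := by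
    rw [← mul_eq_one_iff_eq_inv, ← map_inv, ← map_mul, ← map_mul, ← map_mul, hf]
    change y * x * y⁻¹ * x ∈ _
    rcases hw with hw | hw <;> rw [hw]
    exacts [one_mem _, mem_zpowers _]
  refine ⟨⟨⟨_, rfl⟩, ⟨_, rfl⟩, ?_, ?_, rfl, ?_, Or.inl h1⟩, h1⟩
  · rw [← h.ord, orderOf_eq_orderOf_iff]
    intro k
    rw [← map_pow, hf, mem_zpowers_of_mul_self h.cc]
    exact or_iff_left fun h2 => h.cx (h2 ▸ pow_mem (mem_zpowers x) k)
  · have h2 := card_map_mul_card_inf_ker f ⊤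
    have h3 : f.ker = zpowers ⟨c, h.cm⟩ := Subgroup.ext fun g => (hf g).trans
      ⟨fun ⟨i, hi⟩ => ⟨i, Subtype.ext hi⟩, fun ⟨i, hi⟩ => ⟨i, congrArg Subtype.val hi⟩⟩
    rw [inf_top_eq, h3, Nat.card_zpowers, orderOf_mk, orderOf_eq_two_of_mul_self h.cc h.c_ne,
      card_top, h.card_D, ← MonoidHom.range_eq_map, pow_succ] at h2
    exact Nat.eq_of_mul_eq_mul_right two_pos h2
  · rintro ⟨i, hi⟩
    simp only at hi
    rw [← map_zpow, ← inv_mul_eq_one, ← map_inv, ← map_mul, hf] at hi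
    exact h.mul_not_mem (inv_mem (zpow_mem xA i)) h.yA (mem_sup_right hi)

end DStar

end GT
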