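import Cfsg.Agent.Lib.Grp.PPart
import Cfsg.Agent.Lib.Grp.Core

/-!
# Uniqueness of double covers with a unique involution; the group `SL(2,5)`
-/

set_option autoImplicit false
set_option linter.unusedSectionVars false
set_option linter.style.haveILetI false

namespace GT

open Cfsg Subgroup
open scoped IsMulCommutative

/-- `f : K → Q` is a double cover with kernel `⟨z⟩`, and `z` is the unique involution. -/
structure DCov {K Q : Type*} [Group K] [Group Q] (f : K →* Q) (z : K) : Prop where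
  surj : Function.Surjective f
  ne : z ≠ 1
  ker : ∀ x, f x = 1 ↔ x = 1 ∨ x = z
  uniq : ∀ x, x * x = 1 → x = 1 ∨ x = z

namespace DCov

variable {K S Q : Type*} [Group K] [Group S] [Group Q] {f : K →* Q} {z : K} {g : S →* Q} {w : S}

theorem map_self (h : DCov f z) : f z = 1 := (h.ker z).2 (Or.inr rfl)

theorem mul_self (h : DCov f z) : z * z = 1 :=
  ((h.ker _).1 (by rw [map_mul, h.map_self, mul_one])).resolve_right fun h' =>
    h.ne (mul_eq_left.1 h')

theorem comm (h : DCov f z) (x : K) : x * z = z * x := by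
  have := ((h.ker (x * z * x⁻¹)).1 (by simp [h.map_self])).resolve_left fun h' =>
    h.ne (by simpa using h')
  rwa [mul_inv_eq_iff_eq_mul] at this

theorem mul_self_eq (h : DCov f z) {x : K} (h1 : f x * f x = 1) (h2 : f x ≠ 1) : x * x = z :=
  ((h.ker _).1 (by rwa [map_mul])).resolve_left fun h' => h2 ((h.ker x).2 (h.uniq x h'))

theorem mul_self_eq_one (h : DCov f z) {x : K} (h1 : f x = 1) : x * x = 1 := by
  rcases (h.ker x).1 h1 with rfl | rfl
  exacts [mul_one _, h.mul_self]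

theorem exists_subgroup [Finite K] [Finite S] (hf : DCov f z) (hg : DCov g w)
    (h2 : ∀ q : Q, IsPElt 2 q → q * q = 1) : ∃ L : Subgroup (K × S),
      (∀ x ∈ L, f x.1 = g x.2) ∧ (z, w) ∈ L ∧ (z, 1) ∉ L ∧
      ∀ x y : K × S, f x.1 = g x.2 → f y.1 = g y.2 → x * y * x⁻¹ * y⁻¹ ∈ L := by
  haveI : Fact (Nat.Prime 2) := Nat.fact_prime_two
  let E : Subgroup (K × S) := (f.comp (MonoidHom.fst K S)).eqLocus (g.comp (MonoidHom.snd K S))
  let d : E := ⟨(z, w), hf.map_self.trans hg.map_self.symm⟩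
  let u : E := ⟨(z, 1), hf.map_self.trans (map_one g).symm⟩
  have hd : ∀ x : E, x * d = d * x := fun x => Subtype.ext (Prod.ext (hf.comm _) (hg.comm _))
  have hu : ∀ x : E, x * u = u * x := fun x =>
    Subtype.ext (Prod.ext (hf.comm _) ((mul_one _).trans (one_mul _).symm))
  have hdd : d * d = 1 := Subtype.ext (Prod.ext hf.mul_self hg.mul_self)
  have huu : u * u = 1 := Subtype.ext (Prod.ext hf.mul_self (mul_one _))
  haveI hD : (zpowers d).Normal := ⟨fun a ha x => by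
    rwa [← (commute_of_mem_zpowers ha (hd x).symm).eq, mul_inv_cancel_right]⟩
  let π := QuotientGroup.mk' (zpowers d)
  have hπd : π d = 1 := (QuotientGroup.eq_one_iff _).2 (mem_zpowers d)
  have hsq : ∀ y : E ⧸ zpowers d, IsPElt 2 y → y * y = 1 := fun y hy => by
    obtain ⟨x, hx, rfl⟩ := hy.exists_lift (QuotientGroup.mk'_surjective _)
    have h3 := h2 _ (hx.map ((f.comp (MonoidHom.fst K S)).comp E.subtype))
    have h4 : f x.1.1 = g x.1.2 := x.2
    change f x.1.1 * f x.1.1 = 1 at h3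
    rw [← map_mul]
    by_cases h5 : f x.1.1 = 1
    · rw [show x * x = 1 from
        Subtype.ext (Prod.ext (hf.mul_self_eq_one h5) (hg.mul_self_eq_one (h4 ▸ h5))), map_one]
    · rw [show x * x = d from
        Subtype.ext (Prod.ext (hf.mul_self_eq h3 h5) (hg.mul_self_eq (h4 ▸ h3) (h4 ▸ h5)))]
      exact hπd
  obtain ⟨P⟩ : Nonempty (Sylow 2 (E ⧸ zpowers d)) := inferInstance
  have hP : ∀ a ∈ (P : Subgroup (E ⧸ zpowers d)), a * a = 1 := fun a ha =>
    hsq a (isPElt_of_mem_sylow P ha)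
  haveI : IsMulCommutative (P : Subgroup (E ⧸ zpowers d)) := ⟨⟨fun a b => Subtype.ext (by
    have h3 := hP _ (mul_mem a.2 b.2)
    rw [mul_eq_one_iff_eq_inv, mul_inv_rev, ← mul_eq_one_iff_eq_inv.1 (hP _ a.2),
      ← mul_eq_one_iff_eq_inv.1 (hP _ b.2)] at h3
    exact h3)⟩⟩
  let V := (MonoidHom.transfer (MonoidHom.id (P : Subgroup (E ⧸ zpowers d)))).comp π
  have hV : V u ≠ 1 := fun h => by
    have hc : ∀ y, Commute (π u) y := fun y => by
      obtain ⟨x, rfl⟩ := QuotientGroup.mk'_surjective _ y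
      exact (show Commute u x from (hu x).symm).map π
    simp only [V, MonoidHom.comp_apply] at h
    rw [MonoidHom.transfer_eq_pow _ _ fun k y _ => by
      rw [mul_assoc, ((hc y).pow_left k).eq, inv_mul_cancel_left]] at h
    have h3 : π u ^ (P : Subgroup (E ⧸ zpowers d)).index = 1 := congrArg Subtype.val h
    obtain ⟨k, hk⟩ : Odd (P : Subgroup (E ⧸ zpowers d)).index :=
      Nat.not_even_iff_odd.1 fun h => P.not_dvd_index h.two_dvd
    rw [hk, pow_succ, pow_mul, sq, ← map_mul, huu, map_one, one_pow, one_mul] at h3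
    obtain ⟨j, hj⟩ := mem_zpowers_iff.1 ((QuotientGroup.eq_one_iff _).1 h3)
    rcases Int.even_or_odd' j with ⟨i, rfl | rfl⟩
    · rw [zpow_mul, zpow_two, hdd, one_zpow] at hj
      exact hf.ne (congrArg (fun x : E => x.1.1) hj).symm
    · rw [zpow_add_one, zpow_mul, zpow_two, hdd, one_zpow, one_mul] at hj
      exact hg.ne (congrArg (fun x : E => x.1.2) hj)
  refine ⟨V.ker.map E.subtype, ?_, ⟨d, ?_, rfl⟩, ?_, fun x y hx hy => ?_⟩
  · rintro _ ⟨x, -, rfl⟩
    exact x.2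
  · simp [V, hπd]
  · rintro ⟨x, hx, h⟩
    exact hV ((show x = u from Subtype.ext h) ▸ hx)
  · refine ⟨⟨x, hx⟩ * ⟨y, hy⟩ * (⟨x, hx⟩ : E)⁻¹ * (⟨y, hy⟩ : E)⁻¹, ?_, rfl⟩
    simp [mul_inv_cancel_comm]

theorem bijective_fst (hf : DCov f z) (hg : DCov g w) (hQ : commutator Q = ⊤)
    {L : Subgroup (K × S)} (h1 : ∀ x ∈ L, f x.1 = g x.2) (h2 : (z, w) ∈ L) (h3 : (1, w) ∉ L)
    (h4 : ∀ x y : K × S, f x.1 = g x.2 → f y.1 = g y.2 → x * y * x⁻¹ * y⁻¹ ∈ L) :
    Function.Bijective ((MonoidHom.fst K S).comp L.subtype) := by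
  refine ⟨(injective_iff_map_eq_one _).2 fun x hx => ?_, fun k => ?_⟩
  · have h5 : x.1.1 = 1 := hx
    rcases (hg.ker x.1.2).1 (by rw [← h1 _ x.2, h5, map_one]) with h | h
    · exact Subtype.ext (Prod.ext h5 h)
    · exact absurd ((show x.1 = (1, w) from Prod.ext h5 h) ▸ x.2) h3
  have h5 : commutator Q ≤ L.map (f.comp (MonoidHom.fst K S)) := by
    rw [commutator_def, commutator_le]
    intro a _ b _
    obtain ⟨a1, rfl⟩ := hf.surj a
    obtain ⟨b1, rfl⟩ := hf.surj b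
    obtain ⟨a2, ha⟩ := hg.surj (f a1)
    obtain ⟨b2, hb⟩ := hg.surj (f b1)
    exact ⟨_, h4 (a1, a2) (b1, b2) ha.symm hb.symm, by simp [commutatorElement_def]⟩
  obtain ⟨x, hx, h6⟩ := h5 (hQ ▸ mem_top (f k))
  rcases (hf.ker (x.1⁻¹ * k)).1 (by rw [map_mul, map_inv, ← h6]; exact inv_mul_cancel _) with
    h | h
  · exact ⟨⟨x, hx⟩, inv_mul_eq_one.1 h⟩
  · exact ⟨⟨x * (z, w), mul_mem hx h2⟩, (eq_mul_of_inv_mul_eq h).symm⟩

theorem nonempty_mulEquiv [Finite K] [Finite S] (hf : DCov f z) (hg : DCov g w)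
    (hQ : commutator Q = ⊤) (h2 : ∀ q : Q, IsPElt 2 q → q * q = 1) : Nonempty (K ≃* S) := by
  obtain ⟨L, h3, h4, h5, h6⟩ := hf.exists_subgroup hg h2
  have h7 : (1, w) ∉ L := fun h => h5 (by
    have := mul_mem h4 h
    rwa [Prod.mk_mul_mk, mul_one, hg.mul_self] at this)
  let σ := MulEquiv.prodComm (M := K) (N := S)
  have h8 := hg.bijective_fst hf hQ (L := L.comap σ.symm.toMonoidHom)
    (fun x hx => (h3 _ hx).symm) h4 h5 fun x y hx hy => h6 x.swap y.swap hx.symm hy.symm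
  refine ⟨(MulEquiv.ofBijective _ (hf.bijective_fst hg hQ h3 h4 h7 h6)).symm.trans
    (MulEquiv.trans ?_ (MulEquiv.ofBijective _ h8))⟩
  exact ((σ.symm.subgroupMap _).trans
    (MulEquiv.subgroupCongr (map_comap_eq_self_of_surjective σ.symm.surjective L))).symm

end DCov

section SLTwoFive

open Matrix

local notation "SL25" => SpecialLinearGroup (Fin 2) (ZMod 5)

/-- Coordinates on `SL(2,5)`. -/
def sl25Equiv : SL25 ≃ {x : ZMod 5 × ZMod 5 × ZMod 5 × ZMod 5 //
    x.1 * x.2.2.2 - x.2.1 * x.2.2.1 = 1} where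
  toFun g := ⟨(g.1 0 0, g.1 0 1, g.1 1 0, g.1 1 1), by rw [← det_fin_two, g.2]⟩
  invFun x := ⟨!![x.1.1, x.1.2.1; x.1.2.2.1, x.1.2.2.2], by rw [det_fin_two_of, x.2]⟩
  left_inv g := Subtype.ext (eta_fin_two g.1).symm
  right_inv x := rfl

theorem card_sl25 : Nat.card SL25 = 120 := by
  rw [Nat.card_congr sl25Equiv, Nat.card_eq_fintype_card]
  decide +kernel

theorem card_conjClasses_sl25 : Nat.card (ConjClasses SL25) = 9 := by
  classical
  have h1 := card_comm_eq_card_conjClasses_mul_card SL25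
  have h2 : Nat.card {p : SL25 × SL25 // Commute p.1 p.2} = 1080 := by
    let S := {x : ZMod 5 × ZMod 5 × ZMod 5 × ZMod 5 // x.1 * x.2.2.2 - x.2.1 * x.2.2.1 = 1}
    let C : S → S → Prop := fun x y => x.1.2.1 * y.1.2.2.1 = y.1.2.1 * x.1.2.2.1 ∧
      x.1.1 * y.1.2.1 + x.1.2.1 * y.1.2.2.2 = y.1.1 * x.1.2.1 + y.1.2.1 * x.1.2.2.2 ∧
      x.1.2.2.1 * y.1.1 + x.1.2.2.2 * y.1.2.2.1 = y.1.2.2.1 * x.1.1 + y.1.2.2.2 * x.1.2.2.1
    have h3 : Nat.card {p : SL25 × SL25 // Commute p.1 p.2} =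
        Nat.card {p : S × S // C p.1 p.2} := by
      refine Nat.card_congr ((sl25Equiv.prodCongr sl25Equiv).subtypeEquiv fun p => ?_)
      refine (Matrix.SpecialLinearGroup.ext_iff (p.1 * p.2) (p.2 * p.1)).trans ?_
      simp only [Matrix.SpecialLinearGroup.coe_mul, Fin.forall_fin_two, Matrix.mul_apply,
        Fin.sum_univ_two]
      refine ⟨fun h => ⟨?_, h.1.2, h.2.1⟩, fun h => ⟨⟨?_, h.2.1⟩, h.2.2, ?_⟩⟩
      · have := h.1.1
        change p.1.1 0 1 * p.2.1 1 0 = p.2.1 0 1 * p.1.1 1 0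
        linear_combination this
      · have : p.1.1 0 1 * p.2.1 1 0 = p.2.1 0 1 * p.1.1 1 0 := h.1
        linear_combination this
      · have : p.1.1 0 1 * p.2.1 1 0 = p.2.1 0 1 * p.1.1 1 0 := h.1
        linear_combination -this
    rw [h3, Nat.card_eq_fintype_card, Fintype.card_subtype, Finset.card_filter,
      Fintype.sum_prod_type]
    decide +kernel
  rw [h2, card_sl25] at h1
  omega

theorem dCov_sl25 : DCov (QuotientGroup.mk' (center SL25)) (-1) where
  surj := QuotientGroup.mk'_surjective _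
  ne := by decide
  ker x := by
    rw [QuotientGroup.mk'_apply, QuotientGroup.eq_one_iff]
    refine ⟨fun h => ?_, ?_⟩
    · have h1 := mem_center_iff.1 h (sl25Equiv.symm ⟨(1, 1, 0, 1), by decide⟩)
      have h2 := mem_center_iff.1 h (sl25Equiv.symm ⟨(1, 0, 1, 1), by decide⟩)
      obtain ⟨y, rfl⟩ := sl25Equiv.symm.surjective x
      clear h
      revert y
      decide +kernel
    · rintro (rfl | rfl)
      · exact one_mem _
      · exact mem_center_iff.2 fun g => by simp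
  uniq x := by
    obtain ⟨y, rfl⟩ := sl25Equiv.symm.surjective x
    revert y
    decide +kernel

theorem mul_self_psl25 (q : SL25 ⧸ center SL25) (hq : IsPElt 2 q) : q * q = 1 := by
  haveI : Fact (Nat.Prime 2) := Nat.fact_prime_two
  obtain ⟨s, ⟨k, hk⟩, rfl⟩ := hq.exists_lift dCov_sl25.surj
  have h1 : orderOf s ∣ 8 := by
    have := orderOf_dvd_natCard s
    rw [card_sl25, hk] at this
    rw [hk]
    exact (Nat.Coprime.pow_left k (by norm_num : Nat.Coprime 2 15)).dvd_of_dvd_mul_right this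
  have h2 : ∀ s : SL25, s * s * (s * s) * (s * s * (s * s)) = 1 → s * s * (s * s) = 1 := by
    intro x
    obtain ⟨y, rfl⟩ := sl25Equiv.symm.surjective x
    revert y
    decide +kernel
  rw [← map_mul]
  refine (dCov_sl25.ker _).2 (dCov_sl25.uniq _ (h2 s ?_))
  rw [← orderOf_dvd_iff_pow_eq_one.1 h1]
  simp only [pow_succ, pow_zero, one_mul, mul_assoc]

theorem commutator_sl25 : commutator SL25 = ⊤ :=
  have h : (2 : ZMod 5) ≠ 0 ∧ (2 : ZMod 5) ^ 2 ≠ 1 := by decide
  haveI : Fact (Nat.Prime 5) := ⟨by norm_num⟩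
  Matrix.SL2.commutator_eq_top h.1 h.2

theorem exists_orderOf_sl25 : ∃ g : SL25, orderOf g = 10 := by
  refine ⟨sl25Equiv.symm ⟨(-1, 1, 0, -1), by decide⟩, (orderOf_eq_iff (by norm_num)).2 ⟨?_, ?_⟩⟩
  · decide +kernel
  · decide +kernel

/-- A double cover of `PSL(2,5)` with a unique involution is `SL(2,5)`. -/
theorem DCov.nonempty_mulEquiv_sl25 {K : Type*} [Group K] [Finite K] {f : K →* SL25 ⧸ center SL25}
    {z : K} (h : DCov f z) : Nonempty (K ≃* SL25) := by
  refine h.nonempty_mulEquiv dCov_sl25 ?_ mul_self_psl25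
  rw [commutator_def, ← map_top_of_surjective _ dCov_sl25.surj, ← map_commutator,
    ← commutator_def, commutator_sl25]

end SLTwoFive

end GT
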