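import Cfsg.Agent.Lib.Grp.CycFour
import Cfsg.Agent.Lib.Grp.CyclicExt

/-!
# Fusion in `2`-groups of order at most `32`
-/

set_option autoImplicit false
set_option linter.unusedSectionVars false

namespace GT

open Cfsg Subgroup

variable {P : Type*} [Group P] [Finite P]

local notation "ccard " u:max => Nat.card (centralizer ({u} : Set _))

/-- The properties of fusion of elements in a saturated fusion system. -/
structure FusRel (F : P → P → Prop) : Prop where
  refl : ∀ u, F u u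
  symm : ∀ {u v}, F u v → F v u
  trans : ∀ {u v w}, F u v → F v w → F u w
  ord : ∀ {u v}, F u v → orderOf u = orderOf v
  sq : ∀ {u v}, F u v → F (u * u) (v * v)
  cent : ∀ {u v}, F u v → u ∈ center P → v ∈ center P → ∃ α : MulAut P, α u = v
  ext : ∀ {u v} {Q : Subgroup P} (hu : u ∈ Q), Q = centralizer {u} → F u v →
    (∀ w, F v w → ccard w ≤ ccard v) → ∃ φ : Q →* P, Function.Injective φ ∧ φ ⟨u, hu⟩ = v ∧
      ∀ [Q.Normal], φ.range.Normal → ∃ (α : MulAut P) (T : Subgroup (MulAut Q)),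
        (∃ ψ ∈ T, ∀ q, (ψ q : P) = α (φ q)) ∧ (MulAut.conjNormal (G := P)).range ≤ T ∧
          ¬ 2 ∣ (MulAut.conjNormal (G := P)).range.relIndex T

theorem mem_of_odd_relIndex {L T : Subgroup P} (hL : L ≤ T) (h : ¬ 2 ∣ L.relIndex T) {s : P}
    (hs : s ∈ T) (h1 : ∀ l ∈ L, s * l * s⁻¹ ∈ L) (h2 : s * s ∈ L) : s ∈ L := by
  by_contra h3
  have h4 := (idx_sup_zpowers (mem_normalizer_of_conj_mem h1) h2).card_eq le_sup_left
    (mem_sup_right (mem_zpowers s)) h3
  have h5 := card_mul_relIndex (le_sup_left : L ≤ L ⊔ zpowers s)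
  rw [h4, mul_comm 2, mul_right_inj' Nat.card_pos.ne'] at h5
  exact h (h5 ▸ Dvd.intro _ (relIndex_mul_relIndex L _ T le_sup_left
    (sup_le hL (zpowers_le.2 hs))))

theorem card_le_ccard_mul (u : P) : Nat.card P ≤ ccard u * Nat.card (commutator P) := by
  rw [← (centralizer ({u} : Set P)).card_mul_index]
  refine Nat.mul_le_mul_left _ ?_
  rw [index_eq_card]
  refine Nat.card_le_card_of_injective (fun q => (⟨q.out * u * q.out⁻¹ * u⁻¹,
    commutator_mem_commutator (mem_top q.out) (mem_top u)⟩ : commutator P)) fun q r h => ?_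
  rw [← q.out_eq', ← r.out_eq', QuotientGroup.eq, mem_centralizer_singleton_iff]
  have h1 : q.out * u * q.out⁻¹ = r.out * u * r.out⁻¹ := mul_right_cancel (congrArg Subtype.val h)
  calc q.out⁻¹ * r.out * u = q.out⁻¹ * (r.out * u * r.out⁻¹) * r.out := by group
    _ = _ := by rw [← h1]; group

theorem index_le_ccard (u : P) : (commutator P).index ≤ ccard u := by
  have h1 := card_le_ccard_mul u
  rw [← (commutator P).index_mul_card] at h1
  exact Nat.le_of_mul_le_mul_right h1 Nat.card_pos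

theorem two_mul_card_le_of_lt {H K : Subgroup P} (h : H < K) : 2 * Nat.card H ≤ Nat.card K := by
  obtain ⟨k, hk⟩ := card_dvd_of_le h.le
  have := card_lt_of_lt h
  rw [hk] at this ⊢
  rw [mul_comm]
  refine Nat.mul_le_mul_left _ ?_
  by_contra h1
  have := Nat.mul_le_mul_left (Nat.card H) (show k ≤ 1 by omega)
  omega

theorem two_mul_ccard_le {u : P} (hu : u ∉ center P) : 2 * ccard u ≤ Nat.card P := by
  rw [← card_top (G := P)]
  refine two_mul_card_le_of_lt (lt_top_iff_ne_top.2 fun h => hu (mem_center_iff.2 fun g => ?_))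
  exact mem_centralizer_singleton_iff.1 (h ▸ mem_top g : g ∈ centralizer ({u} : Set P))

theorem ccard_of_mem_center {u : P} (hu : u ∈ center P) : ccard u = Nat.card P := by
  rw [(centralizer_eq_top_iff_subset.2 (by simpa using hu) : centralizer {u} = ⊤), card_top]

theorem ccard_le (u : P) : ccard u ≤ Nat.card P := card_le_card_group _

theorem ccard_map (α : MulAut P) (u : P) : ccard (α u) = ccard u := by
  refine (Nat.card_congr (α.toEquiv.subtypeEquiv fun g => ?_)).symm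
  simp only [mem_centralizer_singleton_iff, MulEquiv.toEquiv_eq_coe, EquivLike.coe_coe,
    ← map_mul, α.injective.eq_iff]

/-- A group with a central subgroup of index at most two is abelian. -/
theorem comm_of_card_le_two_mul {B C : Subgroup P} (h : B ≤ C) (hc : ∀ b ∈ B, ∀ g ∈ C, g * b = b * g)
    (h2 : Nat.card C ≤ 2 * Nat.card B) : ∀ a ∈ C, ∀ b ∈ C, a * b = b * a := by
  obtain ⟨y, hy, hI⟩ := exists_idx_of_card_le h h2
  intro a ha b hb
  by_cases h1 : a ∈ B
  · exact (hc a h1 b hb).symm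
  by_cases h3 : b ∈ B
  · exact hc b h3 a ha
  have h4 := hc _ (hI.mul_inv_mem ha hb h1 h3) b hb
  rw [← mul_assoc, inv_mul_cancel_right, mul_inv_eq_iff_eq_mul] at h4
  exact h4.symm

theorem center_sup_zpowers_le (u : P) : center P ⊔ zpowers u ≤ centralizer ({u} : Set P) :=
  sup_le (fun _ h => mem_centralizer_singleton_iff.2 (mem_center_iff.1 h u).symm)
    (zpowers_le.2 (mem_centralizer_singleton_iff.2 rfl))

theorem comm_centralizer_of_le {u : P} (hu : u ∉ center P) (h : ccard u ≤ 4 * Nat.card (center P)) :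
    ∀ a ∈ centralizer ({u} : Set P), ∀ b ∈ centralizer ({u} : Set P), a * b = b * a := by
  have h1 := two_mul_card_le_of_lt (left_lt_sup.2 (mt zpowers_le.1 hu) :
    center P < center P ⊔ zpowers u)
  refine comm_of_card_le_two_mul (center_sup_zpowers_le u) (fun b hb g hg => ?_) (by omega)
  have h2 : center P ⊔ zpowers u ≤ centralizer ({g} : Set P) :=
    sup_le (le_sup_left.trans (center_sup_zpowers_le g)) (zpowers_le.2
      (mem_centralizer_singleton_iff.2 (mem_centralizer_singleton_iff.1 hg).symm))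
  exact (mem_centralizer_singleton_iff.1 (h2 hb)).symm

theorem four_le_orderOf (hP : IsPGroup 2 P) {u : P} (h : u * u ≠ 1) : 4 ≤ orderOf u := by
  obtain ⟨k, hk⟩ := (IsPGroup.iff_orderOf.1 hP) u
  rcases k with _ | _ | k
  · exact absurd (by rw [orderOf_eq_one_iff.1 hk, mul_one]) h
  · exact absurd (by rw [← pow_two, ← pow_one 2, ← hk, pow_orderOf_eq_one]) h
  · rw [hk, pow_add, pow_add]; have := Nat.one_le_two_pow (n := k); omega

theorem conj_mul_inv_mem_commutator (g x : P) : g * x * g⁻¹ * x⁻¹ ∈ commutator P :=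
  commutator_mem_commutator (mem_top g) (mem_top x)

theorem normal_of_commutator_le {H : Subgroup P} (h : commutator P ≤ H) : H.Normal :=
  ⟨fun x hx g => by simpa using mul_mem (h (conj_mul_inv_mem_commutator g x)) hx⟩

theorem normal_of_card_le_two_mul {H : Subgroup P} (h : Nat.card P ≤ 2 * Nat.card H) :
    H.Normal := by
  obtain ⟨y, -, hI⟩ := exists_idx_of_card_le (le_top : H ≤ ⊤) (by rwa [card_top])
  exact ⟨fun x hx g => hI.conj_mem le_top (mem_top g) hx⟩

namespace FusRel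

variable {F : P → P → Prop} (hF : FusRel F)
include hF

theorem sq_iff {u v : P} (h : F u v) : u * u = 1 ↔ v * v = 1 := by
  rw [← orderOf_eq_one_iff, hF.ord (hF.sq h), orderOf_eq_one_iff]

theorem exists_max (u : P) : ∃ v, F u v ∧ ∀ w, F v w → ccard w ≤ ccard v := by
  obtain ⟨v, hv, h⟩ := Set.exists_max_image {v | F u v} (fun v => ccard v) (Set.toFinite _)
    ⟨u, hF.refl u⟩
  exact ⟨v, hv, fun w hw => h w (hF.trans hv hw)⟩

/-- Fusion of a noncentral element into the centre when the derived group has order two. -/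
theorem fus_center {z : P} (hz : ∀ g ∈ commutator P, g = 1 ∨ g = z) (hzc : z ∈ center P)
    (hz2 : z * z = 1) {u v : P} (hu : u ∉ center P) (hv : v ∈ center P) (h : F u v)
    {Q : Subgroup P} (hQ : Q = centralizer {u}) (hab : ∀ a ∈ Q, ∀ b ∈ Q, a * b = b * a)
    (hc : Nat.card P ≤ 2 * Nat.card Q) :
    (∃ w ∈ Q, w ∉ center P ∧ w * w = 1) ∧ ∀ q ∈ Q, q * q ≠ z := by
  have huQ : u ∈ Q := hQ ▸ mem_centralizer_singleton_iff.2 rfl
  obtain ⟨φ, hφ, hφu, hT⟩ := hF.ext huQ hQ h fun w _ => ccard_of_mem_center hv ▸ ccard_le w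
  haveI := normal_of_card_le_two_mul hc
  obtain ⟨α, T, ⟨ψ, hψT, hψ⟩, hL, hodd⟩ := hT (normal_of_card_le_two_mul (by
    rwa [← Nat.card_congr (MonoidHom.ofInjective hφ).toEquiv]))
  obtain ⟨t, -, hI⟩ := exists_idx_of_card_le (le_top : Q ≤ ⊤) (by rwa [card_top])
  let τ : MulAut Q := MulAut.conjNormal t
  let u' : Q := ⟨u, huQ⟩
  let z' : Q := ⟨z, hQ ▸ center_sup_zpowers_le u (mem_sup_left hzc)⟩
  have hin : ∀ d ∈ Q, MulAut.conjNormal d = (1 : MulAut Q) := fun d hd => by
    ext q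
    rw [MulAut.conjNormal_apply, hab d hd q q.2, mul_inv_cancel_right]; rfl
  have hLm : ∀ l ∈ (MulAut.conjNormal (G := P) (H := Q)).range, l = 1 ∨ l = τ := by
    rintro _ ⟨d, rfl⟩
    refine (hI d (mem_top d)).imp (hin d) fun h1 => ?_
    rw [← inv_mul_cancel_right d t, map_mul, hin _ h1, one_mul]
  have hfix : ∀ q : Q, τ q = q → (q : P) ∈ center P := fun q hq => mem_center_iff.2 fun g => by
    rcases hLm _ ⟨g, rfl⟩ with h1 | h1
    · simpa [mul_inv_eq_iff_eq_mul] using congrArg (fun l : MulAut Q => (l q : P)) h1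
    · have := congrArg (fun l : MulAut Q => (l q : P)) h1
      simpa [mul_inv_eq_iff_eq_mul, hq] using this
  have hfix' : ∀ q : Q, (q : P) ∈ center P → τ q = q := fun q hq => Subtype.ext (by
    rw [MulAut.conjNormal_apply, mem_center_iff.1 hq, mul_inv_cancel_right])
  have hτ : ∀ q, τ q = q ∨ τ q = z' * q := fun q =>
    (hz _ (conj_mul_inv_mem_commutator t q)).imp (fun h => Subtype.ext (mul_inv_eq_one.1 h))
      fun h => Subtype.ext (mul_inv_eq_iff_eq_mul.1 h)
  have hQc : ∀ a b : Q, a * b = b * a := fun a b => Subtype.ext (hab a a.2 b b.2)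
  have hz' : z' * z' = 1 := Subtype.ext hz2
  have hτz : τ z' = z' := hfix' _ hzc
  have hττ : τ * τ = 1 := by
    rw [← map_mul]; exact hin _ (hI.sq_mem (mem_top t))
  have hs : ∀ q, (ψ⁻¹ * τ * ψ) q = q ∨ (ψ⁻¹ * τ * ψ) q = ψ⁻¹ z' * q := fun q =>
    (hτ (ψ q)).imp (fun h => by simp [h]) fun h => by simp [h]
  have hsu : (ψ⁻¹ * τ * ψ) u' = u' := by
    have : τ (ψ u') = ψ u' := hfix' _ (by
      rw [hψ, hφu]; exact (characteristic_iff_le_comap.1 inferInstance α) hv)
    simp [this]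
  have key : ¬ (τ (ψ⁻¹ z') = ψ⁻¹ z' ∧ τ (ψ z') = ψ z') := fun ⟨h1, h2⟩ => by
    have h3 : (ψ⁻¹ * τ * ψ) z' = z' := by simp [h2]
    have h4 : ψ⁻¹ * τ * ψ * τ = τ * (ψ⁻¹ * τ * ψ) := by
      refine MulEquiv.ext fun q => ?_
      rw [MulAut.mul_apply _ _ τ, MulAut.mul_apply _ τ]
      rcases hτ q with h5 | h5 <;> rcases hs q with h6 | h6 <;>
        simp only [h5, h6, map_mul, h1, h3]
      rw [← mul_assoc, hQc z', mul_assoc]
    have h5 := mem_of_odd_relIndex hL hodd (s := ψ⁻¹ * τ * ψ)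
      (mul_mem (mul_mem (inv_mem hψT) (hL ⟨t, rfl⟩)) hψT) (fun l hl => by
        rcases hLm l hl with rfl | rfl
        · simp
        · rw [h4, mul_inv_cancel_right]; exact hl) (by
        rw [show ψ⁻¹ * τ * ψ * (ψ⁻¹ * τ * ψ) = ψ⁻¹ * (τ * τ) * ψ by group, hττ]; simp)
    rcases hLm _ h5 with h6 | h6
    · have h7 : τ = 1 := by rw [← inv_mul_cancel ψ, mul_left_inj, mul_eq_left] at h6; exact h6
      exact hu (hfix u' (by rw [h7]; rfl))
    · exact hu (hfix u' (h6 ▸ hsu))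
  have hsq : ∀ q, τ (q * q) = q * q := fun q => by
    rw [map_mul]
    rcases hτ q with h | h <;> rw [h]
    rw [mul_assoc, ← mul_assoc q, hQc q, mul_assoc, ← mul_assoc, hz', one_mul]
  refine ⟨?_, fun q hq h1 => key ?_⟩
  · rcases not_and_or.1 key with h1 | h1
    · exact ⟨_, (ψ⁻¹ z').2, fun h => h1 (hfix' _ h), by
        rw [← coe_mul, ← map_mul, hz', map_one, coe_one]⟩
    · exact ⟨_, (ψ z').2, fun h => h1 (hfix' _ h), by
        rw [← coe_mul, ← map_mul, hz', map_one, coe_one]⟩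
  · have h2 : z' = ⟨q, hq⟩ * ⟨q, hq⟩ := Subtype.ext h1.symm
    rw [h2, map_mul ψ⁻¹, map_mul ψ]
    exact ⟨hsq _, hsq _⟩

end FusRel

/-- A fully centralized element with small centralizer. -/
def GoodA (F : P → P → Prop) (u : P) : Prop :=
  (∀ w, F u w → ccard w ≤ ccard u) ∧ ccard u ≤ (commutator P).index ∧ ccard u ≤ 4 * orderOf u

/-- An abelian subgroup of index two. -/
structure AbMax (A : Subgroup P) : Prop where
  comm : ∀ a ∈ A, ∀ b ∈ A, a * b = b * a
  card : Nat.card P = 2 * Nat.card A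

/-- An element generating a normal subgroup on which `P` acts like a group of maximal class. -/
structure GoodB (a t : P) (n : ℕ) : Prop where
  ord : orderOf a = 2 ^ (n + 1)
  two_le : 2 ≤ n
  conj : t * a * t⁻¹ = a⁻¹ ∨ t * a * t⁻¹ = a⁻¹ * a ^ 2 ^ n
  ab : AbMax (centralizer {a})
  notMem : t ∉ centralizer {a}
  le : ccard a ≤ 2 * orderOf a
  full : ∀ w : P, orderOf w = orderOf a → ccard w ≤ ccard a
  bound : Nat.card (commutator P) ≤ 2 ^ n

namespace AbMax

variable {A : Subgroup P} (h : AbMax A) {t a : P}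
include h

theorem normal : A.Normal := normal_of_card_le_two_mul h.card.le

theorem exists_not_mem : ∃ t, t ∉ A := by
  by_contra! h1
  have h2 := h.card
  rw [(eq_top_iff' A).2 h1, card_top] at h2
  have := Nat.card_pos (α := P)
  omega

theorem idx (ht : t ∉ A) : Idx ⊤ A t := by
  obtain ⟨y, -, hI⟩ := exists_idx_of_card_le (le_top : A ≤ ⊤) (by rw [card_top, h.card])
  exact hI.change (mem_top t) ht

theorem sup_eq (ht : t ∉ A) : A ⊔ zpowers t = ⊤ := top_unique (h.idx ht).le_sup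

theorem exists_comm (ht : t ∉ A) {c : P} (hc : c ∈ commutator P) :
    ∃ a ∈ A, c = t * a * t⁻¹ * a⁻¹ :=
  haveI := h.normal
  exists_eq_commutator_of_abelian_sup_zpowers A h.comm t (h.sup_eq ht) c hc

theorem conj_mem (ha : a ∈ A) (g : P) : g * a * g⁻¹ ∈ A := h.normal.conj_mem a ha g

theorem commutator_le : commutator P ≤ A := fun c hc => by
  obtain ⟨t, ht⟩ := h.exists_not_mem
  obtain ⟨a, ha, rfl⟩ := h.exists_comm ht hc
  exact mul_mem (h.conj_mem ha t) (inv_mem ha)

theorem mem_center (ht : t ∉ A) (ha : a ∈ A) (h1 : t * a * t⁻¹ = a) : a ∈ center P :=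
  ((inf_centralizer_eq_inf_center_of_sup_zpowers A h.comm t (h.sup_eq ht)).le
    ⟨ha, mem_centralizer_singleton_iff.2 (mul_inv_eq_iff_eq_mul.1 h1).symm⟩).2

theorem conj_conj (ht : t ∉ A) (ha : a ∈ A) : t * (t * a * t⁻¹) * t⁻¹ = a := by
  have h1 := h.comm _ ((h.idx ht).sq_mem (mem_top t)) a ha
  calc t * (t * a * t⁻¹) * t⁻¹ = t * t * a * (t * t)⁻¹ := by group
    _ = a := by rw [h1, mul_inv_cancel_right]

theorem conj_commutator (ht : t ∉ A) {c : P} (hc : c ∈ commutator P) : t * c * t⁻¹ = c⁻¹ := by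
  obtain ⟨a, ha, rfl⟩ := h.exists_comm ht hc
  calc t * (t * a * t⁻¹ * a⁻¹) * t⁻¹ = t * (t * a * t⁻¹) * t⁻¹ * (t * a * t⁻¹)⁻¹ := by group
    _ = _ := by rw [h.conj_conj ht ha]; group

theorem sq_mem_center (ht : t ∉ A) : t * t ∈ center P :=
  h.mem_center ht ((h.idx ht).sq_mem (mem_top t)) (by group)

theorem card_le_ccard (ha : a ∈ A) : Nat.card A ≤ ccard a :=
  card_le_of_le fun b hb => mem_centralizer_singleton_iff.2 (h.comm b hb a ha)

variable (h4 : 4 ≤ Nat.card (commutator P))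
include h4

theorem center_le : center P ≤ A := fun z hz => by
  by_contra h1
  have h2 : commutator P = ⊥ := eq_bot_iff.2 fun c hc => by
    obtain ⟨a, -, rfl⟩ := h.exists_comm h1 hc
    rw [← mem_center_iff.1 hz a]; simp
  rw [h2, card_bot] at h4
  omega

theorem inf_centralizer (ht : t ∉ A) : A ⊓ centralizer {t} = center P := by
  rw [inf_centralizer_eq_inf_center_of_sup_zpowers A h.comm t (h.sup_eq ht),
    inf_eq_right.2 (h.center_le h4)]

theorem card_eq : Nat.card A = Nat.card (center P) * Nat.card (commutator P) := by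
  obtain ⟨t, ht⟩ := h.exists_not_mem
  haveI := h.normal
  rw [card_eq_card_centralizer_mul_card_commutator A h.comm t (h.sup_eq ht), h.inf_centralizer h4 ht]

theorem idx_centralizer (ht : t ∉ A) : Idx (centralizer {t}) (center P) t := fun g hg =>
  (h.idx ht g (mem_top g)).imp (fun h1 => h.inf_centralizer h4 ht ▸ ⟨h1, hg⟩) fun h1 =>
    h.inf_centralizer h4 ht ▸
      mem_inf.2 ⟨h1, mul_mem hg (inv_mem (mem_centralizer_singleton_iff.2 rfl))⟩

theorem ccard_eq (ht : t ∉ A) : ccard t = 2 * Nat.card (center P) :=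
  (h.idx_centralizer h4 ht).card_eq (le_sup_left.trans (center_sup_zpowers_le t))
    (mem_centralizer_singleton_iff.2 rfl) fun h1 => ht (h.center_le h4 h1)

theorem ccard_eq_index (ht : t ∉ A) : ccard t = (commutator P).index := by
  have h1 := (commutator P).index_mul_card
  rw [h.card, h.card_eq h4, ← mul_assoc, ← h.ccard_eq h4 ht] at h1
  exact (Nat.eq_of_mul_eq_mul_right Nat.card_pos h1).symm

theorem ccard_lt (ht : t ∉ A) (ha : a ∈ A) : ccard t < ccard a := by
  have h1 := h.card_le_ccard ha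
  have h2 := Nat.mul_le_mul_left (Nat.card (center P)) h4
  have := Nat.card_pos (α := center P)
  rw [h.card_eq h4] at h1
  rw [h.ccard_eq h4 ht]
  omega

theorem map_mem (α : MulAut P) (ha : a ∈ A) : α a ∈ A := by
  by_contra h1
  exact (h.ccard_lt h4 h1 ha).ne (ccard_map α a)

variable {F : P → P → Prop} (hF : FusRel F)
include hF

/-- The case `A ≅ C₄ × C₄`. -/
theorem not_fus (hZ : center P = commutator P)
    (hΩ : ∀ a ∈ A, a * a = 1 → a ∈ center P) (ht : t ∉ A) (ha : a ∈ A) : ¬ F t a := fun hf => by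
  obtain ⟨w, hw, hmax⟩ := hF.exists_max a
  have hwA : w ∈ A := by
    by_contra h1
    exact (h.ccard_lt h4 h1 ha).not_ge (hmax a (hF.symm hw))
  obtain ⟨Q, hQ⟩ : ∃ Q, Q = centralizer ({t} : Set P) := ⟨_, rfl⟩
  have htQ : t ∈ Q := hQ ▸ mem_centralizer_singleton_iff.2 rfl
  obtain ⟨φ, hφ, hφt, hT⟩ := hF.ext htQ hQ (hF.trans hf hw) hmax
  have hI : Idx Q (center P) t := hQ ▸ h.idx_centralizer h4 ht
  have hZQ : center P ≤ Q := hQ ▸ le_sup_left.trans (center_sup_zpowers_le t)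
  have hZ2 : ∀ z ∈ center P, z * z = 1 := fun z hz => by
    have h1 := h.conj_commutator ht (hZ ▸ hz)
    rw [mem_center_iff.1 hz t, mul_inv_cancel_right] at h1
    exact mul_eq_one_iff_eq_inv.2 h1
  have htZ : t ∉ center P := fun h1 => ht (h.center_le h4 h1)
  have hQc := comm_of_card_le_two_mul hZQ (fun b hb g _ => mem_center_iff.1 hb g) hI.card_le
  haveI : Q.Normal := normal_of_commutator_le (hZ ▸ hZQ)
  have hcQ : Nat.card φ.range = Nat.card Q := (Nat.card_congr (MonoidHom.ofInjective hφ).toEquiv).symm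
  have hZφ : center P ≤ φ.range := by
    by_cases h1 : φ.range ≤ A
    · refine (eq_of_le_of_card_ge (H := ((center P).subgroupOf Q).map φ) ?_ ?_).ge.trans
        (map_le_range _ _)
      · rintro _ ⟨z, hz, rfl⟩
        exact hΩ _ (h1 ⟨z, rfl⟩) (by rw [← map_mul, show z * z = 1 from Subtype.ext (hZ2 z hz),
          map_one])
      · rw [card_map_of_injective hφ, card_subgroupOf_of_le hZQ]
    · obtain ⟨_, ⟨x, rfl⟩, hx⟩ := SetLike.not_le_iff_exists.1 h1
      refine (le_sup_left.trans (center_sup_zpowers_le (φ x))).trans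
        (eq_of_le_of_card_ge ?_ ?_).ge
      · rintro _ ⟨y, rfl⟩
        rw [mem_centralizer_singleton_iff, ← map_mul, ← map_mul,
          show y * x = x * y from Subtype.ext (hQc _ y.2 _ x.2)]
      · rw [hcQ, h.ccard_eq h4 hx, ← h.ccard_eq h4 ht, ← hQ]
  obtain ⟨α, T, ⟨ψ, hψT, hψ⟩, hL, hodd⟩ := hT (normal_of_commutator_le (hZ ▸ hZφ))
  have hψt : (ψ ⟨t, htQ⟩ : P) ∈ center P := h.inf_centralizer h4 ht ▸
    ⟨by rw [hψ, hφt]; exact h.map_mem h4 α hwA, hQ ▸ (ψ ⟨t, htQ⟩).2⟩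
  have hinn : ∀ c ∈ center P, ∃ d : P, ∀ q ∈ Q, q ∉ center P → d * q * d⁻¹ = c * q := fun c hc => by
    obtain ⟨d, hd, h1⟩ := h.exists_comm ht (hZ ▸ inv_mem hc)
    refine ⟨d, fun q hq hq' => ?_⟩
    have h2 := (hI q hq).resolve_left hq'
    have h3 : d * t * d⁻¹ = c * t := by
      rw [← inv_inv c, h1]; group
    calc d * q * d⁻¹ = d * (q * t⁻¹) * t * d⁻¹ := by group
      _ = q * t⁻¹ * (d * t * d⁻¹) := by rw [mem_center_iff.1 h2 d]; group
      _ = c * q := by rw [h3, ← mul_assoc, mem_center_iff.1 hc]; group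
  have hLm : ∀ l : MulAut Q, l ∈ (MulAut.conjNormal (G := P)).range ↔
      ∀ z : Q, (z : P) ∈ center P → l z = z := fun l => by
    refine ⟨?_, fun hl => ?_⟩
    · rintro ⟨d, rfl⟩ z hz
      exact Subtype.ext (by rw [MulAut.conjNormal_apply, mem_center_iff.1 hz, mul_inv_cancel_right])
    · have h1 : (l ⟨t, htQ⟩ : P) ∉ center P := fun h1 =>
        htZ (by rwa [l.injective (hl _ h1)] at h1)
      obtain ⟨d, hd⟩ := hinn _ ((hI _ (l ⟨t, htQ⟩).2).resolve_left h1)
      refine ⟨d, MulEquiv.ext fun q => Subtype.ext ?_⟩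
      rw [MulAut.conjNormal_apply]
      by_cases hq : (q : P) ∈ center P
      · rw [hl q hq, mem_center_iff.1 hq, mul_inv_cancel_right]
      · have h2 := (hI q q.2).resolve_left hq
        rw [hd q q.2 hq]
        conv_rhs => rw [← inv_mul_cancel_right q ⟨t, htQ⟩, map_mul, hl _ h2]
        change _ = q * t⁻¹ * _
        rw [← mem_center_iff.1 h2, mul_assoc, ← hQc _ q.2 _ (inv_mem htQ)]
  obtain ⟨z₁, hz₁, hz₁'⟩ : ∃ z : Q, (z : P) ∈ center P ∧ (ψ z : P) ∉ center P := by
    by_contra! h1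
    have h2 : ∀ q : Q, (ψ q : P) ∈ center P := fun q => (hI q q.2).elim (h1 q) fun h3 => by
      rw [← inv_mul_cancel_right q ⟨t, htQ⟩, map_mul]
      exact mul_mem (h1 _ h3) hψt
    exact htZ (by simpa using h2 (ψ⁻¹ ⟨t, htQ⟩))
  obtain ⟨y, hy, hy1, hy'⟩ : ∃ y : Q, (y : P) ∈ center P ∧ y ≠ 1 ∧ (ψ y : P) ∈ center P := by
    obtain ⟨z₂, hz₂, h1⟩ : ∃ z ∈ center P, z ∉ zpowers (z₁ : P) := by
      by_contra! h1
      have h2 := card_le_of_le (show center P ≤ zpowers (z₁ : P) from h1)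
      have h3 : orderOf (z₁ : P) ≤ 2 := orderOf_le_of_pow_eq_one two_pos (by
        rw [pow_two, hZ2 _ hz₁])
      rw [Nat.card_zpowers, hZ] at h2
      omega
    by_cases h2 : (ψ ⟨z₂, hZQ hz₂⟩ : P) ∈ center P
    · exact ⟨⟨z₂, hZQ hz₂⟩, hz₂, fun h3 => h1 (by rw [show z₂ = 1 from congrArg Subtype.val h3]; simp),
        h2⟩
    · refine ⟨z₁ * ⟨z₂, hZQ hz₂⟩, mul_mem hz₁ hz₂, fun h3 => h1 ?_, ?_⟩
      · rw [show z₂ = (z₁ : P)⁻¹ from eq_inv_of_mul_eq_one_right (congrArg Subtype.val h3)]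
        simp
      · rw [map_mul]
        exact hI.mul_mem (ψ z₁).2 (ψ _).2 hz₁' h2
  obtain ⟨d, hd⟩ := hinn _ hy'
  classical
  have hs : ∀ q : Q, (ψ⁻¹ * MulAut.conjNormal d * ψ : MulAut Q) q =
      if (ψ q : P) ∈ center P then q else y * q := fun q => by
    rw [MulAut.mul_apply, MulAut.mul_apply, MulAut.inv_apply, MulEquiv.symm_apply_eq]
    split_ifs with h1
    · exact (hLm _).1 ⟨d, rfl⟩ _ h1
    · exact Subtype.ext (by rw [MulAut.conjNormal_apply, hd _ (ψ q).2 h1, map_mul, coe_mul])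
  have h5 := mem_of_odd_relIndex hL hodd (s := ψ⁻¹ * MulAut.conjNormal d * ψ)
    (mul_mem (mul_mem (inv_mem hψT) (hL ⟨d, rfl⟩)) hψT) (fun l hl => (hLm _).2 fun z hz => by
      rw [MulAut.mul_apply, MulAut.mul_apply, (hLm l).1 hl, MulAut.apply_inv_self]
      have h1 := hs ((ψ⁻¹ * MulAut.conjNormal d * ψ : MulAut Q)⁻¹ z)
      rw [MulAut.apply_inv_self] at h1
      split_ifs at h1
      · exact h1 ▸ hz
      · exact (mul_mem_cancel_left hy).1 (by rw [← coe_mul, ← h1]; exact hz))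
    ((hLm _).2 fun z hz => by
      rw [MulAut.mul_apply, hs z]
      split_ifs with h1
      · rw [hs, if_pos h1]
      · rw [hs, if_neg (by rwa [map_mul, coe_mul, mul_mem_cancel_left hy']), ← mul_assoc,
          show y * y = 1 from Subtype.ext (hZ2 y hy), one_mul])
  have h6 := (hLm _).1 h5 z₁ hz₁
  rw [hs, if_neg hz₁', mul_eq_right] at h6
  exact hy1 h6

variable (h32 : Nat.card P ≤ 32)
include h32

omit hF in
theorem card_center_le : Nat.card (center P) ≤ 4 := by
  have h1 := h.card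
  have h2 := Nat.mul_le_mul_left (Nat.card (center P)) h4
  rw [h.card_eq h4] at h1
  omega

theorem exists_not_fus_of_le (hZ : commutator P ≤ center P) : ∃ v ∉ A, ∀ w ∈ A, ¬ F v w := by
  obtain ⟨t, ht⟩ := h.exists_not_mem
  have hZ' : center P = commutator P :=
    (eq_of_le_of_card_ge hZ ((h.card_center_le h4 h32).trans h4)).symm
  by_contra! hall
  by_cases hΩ : ∀ a ∈ A, a * a = 1 → a ∈ center P
  · obtain ⟨w, hw, hf⟩ := hall t ht
    exact h.not_fus h4 hF hZ' hΩ ht hw hf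
  push Not at hΩ
  obtain ⟨e, he, he2, heZ⟩ := hΩ
  have hZ2 : ∀ z ∈ center P, z * z = 1 := fun z hz => by
    have h1 := h.conj_commutator ht (hZ' ▸ hz)
    rw [mem_center_iff.1 hz t, mul_inv_cancel_right] at h1
    exact mul_eq_one_iff_eq_inv.2 h1
  have hsq : ∀ a b : P, a * b = b * a → a * b * (a * b) = a * a * (b * b) := fun a b h1 => by
    rw [mul_assoc, ← mul_assoc b, ← h1]; group
  have h1 := two_mul_card_le_of_lt (left_lt_sup.2 (mt zpowers_le.1 heZ) :
    center P < center P ⊔ zpowers e)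
  have hBA : center P ⊔ zpowers e ≤ A := sup_le (h.center_le h4) (zpowers_le.2 he)
  obtain ⟨b, hb, hI⟩ := exists_idx_of_card_le hBA (by have := h.card; rw [hZ'] at h1 ⊢; omega)
  have hB : ∀ x ∈ center P ⊔ zpowers e, x * x = 1 := fun x hx =>
    (idx_sup_zpowers (le_normalizer_of_normal (mem_top e)) (he2 ▸ one_mem _) x hx).elim (hZ2 x)
      fun h2 => by
        rw [← inv_mul_cancel_right x e, hsq _ _ (mem_center_iff.1 h2 e).symm, hZ2 _ h2, he2, mul_one]
  have hY : ∀ a ∈ A, a * a ∈ zpowers (b * b) := fun a ha => (hI a ha).elim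
    (fun h2 => hB a h2 ▸ one_mem _) fun h2 => by
      rw [← inv_mul_cancel_right a b, hsq _ _ (h.comm _ (hBA h2) _ hb), hB _ h2, one_mul]
      exact mem_zpowers _
  have hY' : ∀ v ∉ A, v * v ∈ zpowers (b * b) := fun v hv => by
    obtain ⟨w, hw, hf⟩ := hall v hv
    obtain ⟨α, hα⟩ := hF.cent (hF.sq (hF.symm hf)) (h.mem_center ht (mul_mem hw hw) (by
      have h2 := conj_mul_inv_mem_commutator t w
      calc t * (w * w) * t⁻¹ = t * w * t⁻¹ * w⁻¹ * w * (t * w * t⁻¹ * w⁻¹ * w) := by group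
        _ = w * w := by rw [hsq _ _ (mem_center_iff.1 (hZ h2) w).symm, hZ2 _ (hZ h2), one_mul]))
      (h.sq_mem_center hv)
    rw [← hα, map_mul]
    exact hY _ (h.map_mem h4 α hw)
  have h2 : commutator P ≤ zpowers (b * b) := fun c hc => by
    obtain ⟨a, ha, rfl⟩ := h.exists_comm ht hc
    have h3 := hY' (t * a) (by rwa [mul_mem_cancel_right ha])
    have h5 : t * a * t⁻¹ * a⁻¹ = t * a * (t * a) * (a * a)⁻¹ * (t * t)⁻¹ := by
      calc _ = t * a * t⁻¹ * (a⁻¹ * (t * t)) * (t * t)⁻¹ := by group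
        _ = _ := by rw [mem_center_iff.1 (h.sq_mem_center ht)]; group
    rw [h5]
    exact mul_mem (mul_mem h3 (inv_mem (hY a ha))) (inv_mem (hY' t ht))
  have h3 := card_le_of_le h2
  have h5 : orderOf (b * b) ≤ 2 := orderOf_le_of_pow_eq_one two_pos (by
    rw [pow_two, hB _ (hI.sq_mem hb)])
  rw [Nat.card_zpowers] at h3
  omega

variable (hP : IsPGroup 2 P)
include hP

omit hF in
theorem exists_gen (hZ : ¬ commutator P ≤ center P) (ht : t ∉ A) :
    ∃ a ∈ A, commutator P = zpowers (t * a * t⁻¹ * a⁻¹) ∧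
      ∀ b ∈ A, ∃ i : ℤ, b * (a ^ i)⁻¹ ∈ center P := by
  haveI : IsMulCommutative (commutator P) := isMulCommutative_iff_forall.2 fun a ha b hb =>
    h.comm a (h.commutator_le ha) b (h.commutator_le hb)
  have h1 : powKer (commutator P) 2 ≤ center P := fun c hc =>
    h.mem_center ht (h.commutator_le hc.1) (by
      rw [h.conj_commutator ht hc.1, inv_eq_iff_mul_eq_one, ← pow_two, hc.2])
  have h2 := two_mul_card_le_of_lt (lt_of_le_of_ne (powKer_le (commutator P) 2)
    fun e => hZ (e ▸ h1))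
  have h3 := card_le_of_le h1
  have h5 := h.card
  rw [h.card_eq h4] at h5
  obtain ⟨c, hc⟩ := isCyclic_iff_exists_zpowers_eq.1 (isCyclic_of_card_powKer_le
    (A := commutator P) (hP.to_subgroup _) (by
      obtain ⟨k, hk⟩ := (hP.to_subgroup (powKer (commutator P) 2)).exists_card_eq
      rcases k with _ | _ | k
      · omega
      · omega
      · have := Nat.one_le_two_pow (n := k)
        rw [pow_add, pow_add] at hk
        nlinarith))
  obtain ⟨a, ha, rfl⟩ := h.exists_comm ht (hc ▸ mem_zpowers c)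
  refine ⟨a, ha, hc.symm, fun b hb => ?_⟩
  obtain ⟨i, hi⟩ := hc.ge (conj_mul_inv_mem_commutator t b)
  refine ⟨i, h.mem_center ht (mul_mem hb (inv_mem (zpow_mem ha i))) ?_⟩
  simp only at hi
  rw [Commute.mul_zpow (h.comm _ (h.conj_mem ha t) _ (inv_mem ha)), conj_zpow, inv_zpow,
    mul_inv_eq_iff_eq_mul, mul_assoc _ b⁻¹, h.comm _ (inv_mem hb) _ (zpow_mem ha i)] at hi
  calc t * (b * (a ^ i)⁻¹) * t⁻¹ = t * b * t⁻¹ * (t * a ^ i * t⁻¹)⁻¹ := by group
    _ = t * b * t⁻¹ * (b * (a ^ i)⁻¹) * (t * b * t⁻¹)⁻¹ := by rw [hi]; group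
    _ = _ := by rw [h.comm _ (h.conj_mem hb t) _ (mul_mem hb (inv_mem (zpow_mem ha i)))]; group

omit hF in
theorem goodB (ht : t ∉ A) (ha : a ∈ A) (hc : commutator P = zpowers (t * a * t⁻¹ * a⁻¹))
    (hz : t * a * t⁻¹ * a ∈ zpowers a) : ∃ n, GoodB a t n := by
  rw [hc, Nat.card_zpowers] at h4
  have hc2 : t * a * t⁻¹ * a⁻¹ * (t * a * t⁻¹ * a⁻¹) ≠ 1 := fun e => by
    have := orderOf_le_of_pow_eq_one two_pos ((pow_two _).trans e)
    omega
  obtain ⟨k, hk⟩ := IsPGroup.iff_orderOf.1 hP a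
  obtain _ | n := k
  · exact absurd (by simp [orderOf_eq_one_iff.1 hk]) hc2
  have h1 : a ^ 2 ^ n * a ^ 2 ^ n = 1 := by
    rw [← pow_add, ← two_mul, ← pow_succ', ← hk, pow_orderOf_eq_one]
  have h2 : t * a * t⁻¹ = a⁻¹ ∨ t * a * t⁻¹ = a⁻¹ * a ^ 2 ^ n := by
    rcases conj_cases_of_sq hk ((mul_mem_cancel_right (mem_zpowers a)).1 hz) (h.conj_conj ht ha)
      with h2 | h2 | h2 | h2
    · exact absurd (by simp [h2]) hc2
    · exact absurd (by rw [h2, ← h1]; group) hc2
    exacts [Or.inl h2, Or.inr h2]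
  have h3 : t * a * t⁻¹ * a⁻¹ * (t * a * t⁻¹ * a⁻¹) = (a ^ 4)⁻¹ := by
    rcases h2 with h2 | h2
    · rw [h2]; group
    · rw [h2, ← mul_one (a ^ 4)⁻¹, ← h1]; group
  have hn : 2 ≤ n := by
    by_contra h5
    refine hc2 (by
      rw [h3, inv_eq_one, ← orderOf_dvd_iff_pow_eq_one, hk]
      exact pow_dvd_pow 2 (show n + 1 ≤ 2 by omega))
  have h8 : 8 ≤ orderOf a := hk ▸ Nat.pow_le_pow_right (n := 2) two_pos (show 3 ≤ n + 1 by omega)
  have haZ : a ∉ center P := fun h5 => hc2 (by simp [mem_center_iff.1 h5 t])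
  have hA : A = centralizer {a} := eq_of_le_of_card_ge
    (fun b hb => mem_centralizer_singleton_iff.2 (h.comm b hb a ha))
    (by have := two_mul_ccard_le haZ; have := h.card; omega)
  rw [← Nat.card_zpowers, ← hc] at h4
  refine ⟨n, hk, hn, h2, hA ▸ h, hA ▸ ht, by have := two_mul_ccard_le haZ; omega,
    fun w hw => ?_, ?_⟩
  · have h5 : w ∉ center P := fun h5 => by
      have := card_le_of_le (zpowers_le.2 h5)
      have := h.card_center_le h4 h32
      rw [Nat.card_zpowers] at *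
      omega
    have := two_mul_ccard_le h5
    have := h.card
    rw [← hA]
    omega
  · rw [hc, Nat.card_zpowers]
    refine orderOf_le_of_pow_eq_one (by positivity) ?_
    obtain ⟨m, rfl⟩ : ∃ m, n = m + 1 := ⟨n - 1, by omega⟩
    rw [pow_succ', pow_mul, pow_two, h3, inv_pow, ← pow_mul, inv_eq_one,
      ← orderOf_dvd_iff_pow_eq_one, hk]
    exact ⟨1, by ring⟩

omit hF h32 in
theorem conj_mul_mem_center (ht : t ∉ A) (ha : a ∈ A) : t * a * t⁻¹ * a ∈ center P :=
  h.mem_center ht (mul_mem (h.conj_mem ha t) ha) (by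
    calc _ = t * (t * a * t⁻¹) * t⁻¹ * (t * a * t⁻¹) := by group
      _ = _ := by rw [h.conj_conj ht ha, h.comm _ ha _ (h.conj_mem ha t)])

omit hF h32 in
theorem sq_comm_eq (ht : t ∉ A) (ha : a ∈ A) : t * a * t⁻¹ * a⁻¹ * (t * a * t⁻¹ * a⁻¹) =
    t * a * t⁻¹ * a * (t * a * t⁻¹ * a) * (a ^ 4)⁻¹ := by
  calc _ = t * a * t⁻¹ * a * ((a ^ 2)⁻¹ * (t * a * t⁻¹ * a)) * (a ^ 2)⁻¹ := by group
    _ = _ := by rw [mem_center_iff.1 (h.conj_mul_mem_center h4 hP ht ha)]; group

omit hF h32 in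
theorem mem_zpowers_of_card_center (ht : t ∉ A) (ha : a ∈ A)
    (hc : commutator P = zpowers (t * a * t⁻¹ * a⁻¹)) (hZ : Nat.card (center P) ≤ 2) :
    t * a * t⁻¹ * a ∈ zpowers a := by
  have hz := h.conj_mul_mem_center h4 hP ht ha
  have h1 := h.sq_comm_eq h4 hP ht ha
  have hc2 : t * a * t⁻¹ * a⁻¹ * (t * a * t⁻¹ * a⁻¹) ≠ 1 := fun e => by
    have := orderOf_le_of_pow_eq_one two_pos ((pow_two _).trans e)
    rw [hc, Nat.card_zpowers] at h4
    omega
  obtain ⟨s, hs, hs2, hs1⟩ := exists_mul_self_mem_zpowers (IsPGroup.iff_orderOf.1 hP _) hc2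
  have hsc : s ∈ commutator P := hc ▸ zpowers_le.2 (mul_mem (mem_zpowers _) (mem_zpowers _)) hs
  have h2 : zpowers s = center P := eq_of_le_of_card_ge (zpowers_le.2 (h.mem_center ht
    (h.commutator_le hsc) (by rw [h.conj_commutator ht hsc, inv_eq_iff_mul_eq_one, hs2])))
    (by rwa [Nat.card_zpowers, orderOf_eq_two_of_mul_self hs2 hs1])
  rcases (mem_zpowers_of_mul_self hs2).1 (h2 ▸ hz) with h3 | h3
  · exact h3 ▸ one_mem _
  · rw [h3, hs2, one_mul] at h1
    rw [h1] at hs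
    exact h3 ▸ zpowers_le.2 (inv_mem (pow_mem (mem_zpowers a) 4)) hs

theorem exists_not_fus (ht : t ∉ A) (ha : a ∈ A)
    (hc : commutator P = zpowers (t * a * t⁻¹ * a⁻¹))
    (hb : ∀ b ∈ A, ∃ i : ℤ, b * (a ^ i)⁻¹ ∈ center P) (hz : t * a * t⁻¹ * a ∉ zpowers a) :
    ∃ v ∉ A, ∀ w ∈ A, ¬ F v w := by
  have hzZ := h.conj_mul_mem_center h4 hP ht ha
  have h1 := h.sq_comm_eq h4 hP ht ha
  have hct := h.conj_commutator ht (conj_mul_inv_mem_commutator t a)
  have hta : t * a * (t * a) = t * a * t⁻¹ * a * (t * t) := by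
    rw [mul_assoc (t * a * t⁻¹) a, mem_center_iff.1 (h.sq_mem_center ht) a]; group
  have hZ : 4 ≤ Nat.card (center P) := by
    obtain ⟨k, hk⟩ := (hP.to_subgroup (center P)).exists_card_eq
    have := mt (h.mem_zpowers_of_card_center h4 hP ht ha hc) hz
    rcases k with _ | _ | k
    · omega
    · omega
    · have := Nat.one_le_two_pow (n := k)
      rw [pow_add, pow_add] at hk
      omega
  have hZ' := h.card_center_le h4 h32
  generalize t * a * t⁻¹ * a⁻¹ = c at *
  generalize t * a * t⁻¹ * a = z at *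
  have ho : orderOf c = 4 := by
    have h2 := h.card
    rw [h.card_eq h4, hc, Nat.card_zpowers] at h2
    rw [hc, Nat.card_zpowers] at h4
    have := Nat.mul_le_mul_right (orderOf c) hZ
    omega
  have hy2 : c * c * (c * c) = 1 := by
    rw [← pow_orderOf_eq_one c, ho, ← pow_two, ← pow_two, ← pow_mul]
  have hy1 : c * c ≠ 1 := fun e => by
    have := orderOf_le_of_pow_eq_one two_pos ((pow_two _).trans e)
    omega
  have hyc : c * c ∈ commutator P := hc ▸ mul_mem (mem_zpowers _) (mem_zpowers _)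
  have hyZ : zpowers (c * c) ≤ center P := zpowers_le.2 (h.mem_center ht (h.commutator_le hyc)
    (by rw [h.conj_commutator ht hyc, inv_eq_iff_mul_eq_one, hy2]))
  have hY2 : ∀ y ∈ zpowers (c * c), y * y = 1 := fun y hy => by
    rcases (mem_zpowers_of_mul_self hy2).1 hy with rfl | rfl
    exacts [mul_one 1, hy2]
  have hzY : z ∉ zpowers (c * c) := fun h2 => by
    rw [hY2 z h2, one_mul] at h1
    exact hz (zpowers_le.2 (inv_mem (pow_mem (mem_zpowers a) 4)) (h1 ▸ h2))
  obtain ⟨z', -, hI⟩ := exists_idx_of_card_le hyZ (by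
    rw [Nat.card_zpowers, orderOf_eq_two_of_mul_self hy2 hy1]; omega)
  have ha4 : a ^ 4 = z * z * (c * c) := by
    rw [eq_mul_inv_iff_mul_eq] at h1
    rw [← h1, mul_assoc, mem_center_iff.1 (hyZ (mem_zpowers _)), ← mul_assoc, hy2, one_mul]
  have hsq : ∀ a b : P, a * b = b * a → a * b * (a * b) = a * a * (b * b) := fun a b h1 => by
    rw [mul_assoc, ← mul_assoc b, ← h1]; group
  have key : ∀ v ∉ A, v * v ∉ zpowers (c * c) → ∀ w ∈ A, ¬ F v w := fun v hv hvY w hw hf => by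
    have hS : ∀ w : P, ∀ j : ℤ, w * (a ^ (2 * j))⁻¹ ∈ center P → w * w ∈ zpowers (c * c) :=
      fun w j hj => by
        rw [← inv_mul_cancel_right w (a ^ (2 * j)), hsq _ _ (mem_center_iff.1 hj _).symm,
          show a ^ (2 * j) * a ^ (2 * j) = (a ^ 4) ^ j by group, ha4]
        exact mul_mem (hI.sq_mem hj) (zpow_mem (mul_mem (hI.sq_mem hzZ) (mem_zpowers _)) j)
    obtain ⟨i, hi⟩ := hb w hw
    rcases Int.even_or_odd' i with ⟨j, rfl | rfl⟩
    · have h2 := hS w j hi
      obtain ⟨α, hα⟩ := hF.cent (hF.sq (hF.symm hf)) (hyZ h2) (h.sq_mem_center hv)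
      have h3 : v * v ∈ commutator P := hα ▸ (characteristic_iff_le_comap.1 inferInstance α)
        (zpowers_le.2 hyc h2)
      rw [hc] at h3
      obtain ⟨k, hk⟩ := h3
      simp only at hk
      rcases Int.even_or_odd' k with ⟨l, rfl | rfl⟩
      · exact hvY ⟨l, by rw [← hk, zpow_mul, zpow_two]⟩
      · have h3 : c ∈ center P := (mul_mem_cancel_left (zpow_mem (hyZ (mem_zpowers _)) l)).1 (by
          rw [← zpow_two, ← zpow_mul, ← zpow_add_one, hk]; exact h.sq_mem_center hv)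
        rw [mem_center_iff.1 h3, mul_inv_cancel_right] at hct
        exact hy1 (mul_eq_one_iff_eq_inv.2 hct)
    · have h2 := hS (w * a⁻¹) j (by rwa [show w * a⁻¹ * (a ^ (2 * j))⁻¹ = w * (a ^ (2 * j + 1))⁻¹ by
        group])
      have h3 : w * w * (w * w) = z * z * (c * c) := by
        rw [← inv_mul_cancel_right w a, hsq _ _ (h.comm _ (mul_mem hw (inv_mem ha)) _ ha),
          hsq _ _ (mem_center_iff.1 (hyZ h2) _).symm, hY2 _ h2, ← ha4, one_mul, ← pow_two,
          ← pow_two, ← pow_mul]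
      have h5 := hI.mul_inv_mem (h.sq_mem_center hv) hzZ hvY hzY
      have h6 : v * v * (v * v) = z * z := by
        rw [← inv_mul_cancel_right (v * v) z, hsq _ _ (mem_center_iff.1 hzZ _), hY2 _ h5, one_mul]
      have h7 := hF.sq_iff (hF.sq hf)
      rw [h3, h6] at h7
      rcases (mem_zpowers_of_mul_self hy2).1 (hI.sq_mem hzZ) with h8 | h8 <;> rw [h8] at h7
      · exact hy1 (by simpa using h7)
      · exact hy1 (h7.2 hy2)
  by_cases h2 : t * t ∈ zpowers (c * c)
  · exact ⟨t * a, by rwa [mul_mem_cancel_right ha], key _ (by rwa [mul_mem_cancel_right ha])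
      (by rwa [hta, mul_mem_cancel_right h2])⟩
  · exact ⟨t, ht, key t ht h2⟩

theorem good : (∃ u, GoodA F u) ∨ ∃ a t n, GoodB (P := P) a t n := by
  have key : (∃ v ∉ A, ∀ w ∈ A, ¬ F v w) → ∃ u, GoodA F u := fun ⟨v, hv, h1⟩ =>
    ⟨v, fun w hw => by rw [h.ccard_eq h4 hv, h.ccard_eq h4 fun h2 => h1 w h2 hw],
      (h.ccard_eq_index h4 hv).le, by
        have := h.card_center_le h4 h32
        have := orderOf_pos v
        have := mt orderOf_eq_one_iff.1 fun e : v = 1 => hv (e ▸ one_mem A)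
        rw [h.ccard_eq h4 hv]
        omega⟩
  by_cases hZ : commutator P ≤ center P
  · exact Or.inl (key (h.exists_not_fus_of_le h4 hF h32 hZ))
  obtain ⟨t, ht⟩ := h.exists_not_mem
  obtain ⟨a, ha, hc, hb⟩ := h.exists_gen h4 h32 hP hZ ht
  by_cases hz : t * a * t⁻¹ * a ∈ zpowers a
  · exact Or.inr ⟨a, t, h.goodB h4 h32 hP ht ha hc hz⟩
  · exact Or.inl (key (h.exists_not_fus h4 hF h32 hP ht ha hc hb hz))

end AbMax

end GT
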