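import Cfsg.Agent.Lib.Grp.Ord32

/-!
# A good element in a nonabelian `2`-group of order at most `32`
-/

set_option autoImplicit false
set_option linter.unusedSectionVars false

namespace GT

open Cfsg Subgroup

variable {P : Type*} [Group P] [Finite P]

local notation "ccard " u:max => Nat.card (centralizer ({u} : Set _))

theorem exists_sq_ne_one (hna : commutator P ≠ ⊥) : ∃ u : P, u * u ≠ 1 := by
  by_contra! h
  refine hna (eq_bot_iff.2 (commutator_le.2 fun a _ b _ => ?_))
  rw [mem_bot, commutatorElement_def, inv_eq_of_mul_eq_one_right (h a),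
    inv_eq_of_mul_eq_one_right (h b), mul_assoc, h]

theorem exists_not_commute (hna : commutator P ≠ ⊥) : ∃ x y : P, x * y ≠ y * x := by
  by_contra! h
  refine hna (eq_bot_iff.2 (commutator_le.2 fun a _ b _ => ?_))
  rw [mem_bot, commutatorElement_def, h a b]
  group

theorem four_le_card_of_two_lt (hP : IsPGroup 2 P) {H : Subgroup P} (h : 2 < Nat.card H) :
    4 ≤ Nat.card H := by
  obtain ⟨k, hk⟩ := (hP.to_subgroup H).exists_card_eq
  rcases k with _ | _ | k
  · omega
  · omega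
  · have := Nat.one_le_two_pow (n := k)
    rw [pow_add, pow_add] at hk
    omega

variable (hP : IsPGroup 2 P)
include hP

theorem FusRel.goodA_of_two {F : P → P → Prop} (hF : FusRel F) (h32 : Nat.card P ≤ 32)
    (h2 : Nat.card (commutator P) = 2) : ∃ u, GoodA F u := by
  have hna : commutator P ≠ ⊥ := fun e => by rw [e, card_bot] at h2; omega
  obtain ⟨z, hz, hz1, hz2⟩ := exists_mem_pow_eq_one (p := 2) (H := commutator P) (h2 ▸ dvd_rfl)
  rw [pow_two] at hz2
  have h3 : zpowers z = commutator P := eq_of_le_of_card_ge (zpowers_le.2 hz)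
    (by rw [h2, Nat.card_zpowers, orderOf_eq_two_of_mul_self hz2 hz1])
  have hD : ∀ g ∈ commutator P, g = 1 ∨ g = z := fun g hg =>
    (mem_zpowers_of_mul_self hz2).1 (h3 ▸ hg)
  have hzc : z ∈ center P := mem_center_iff.2 fun g => by
    rcases hD _ ((inferInstance : (commutator P).Normal).conj_mem z hz g) with h | h
    · exact absurd (by simpa using h) hz1
    · exact mul_inv_eq_iff_eq_mul.1 h
  have hc : ∀ u : P, Nat.card P ≤ 2 * ccard u := fun u => by
    have := card_le_ccard_mul u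
    rw [h2] at this
    omega
  have key : ∀ u ∉ center P, u * u ≠ 1 → (∀ v ∈ center P, ¬ F u v) → ∃ u, GoodA F u :=
    fun u hu hu2 h => by
      have h4 := two_mul_ccard_le hu
      have h5 := (commutator P).index_mul_card
      have h6 := four_le_orderOf hP hu2
      rw [h2] at h5
      refine ⟨u, fun w hw => ?_, by omega, by omega⟩
      have := two_mul_ccard_le fun e => h w e hw
      have := hc u
      omega
  by_cases hZ : ∀ z ∈ center P, z * z = 1
  · obtain ⟨u, hu⟩ := exists_sq_ne_one hna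
    exact key u (fun h => hu (hZ u h)) hu fun v hv h => hu ((hF.sq_iff h).2 (hZ v hv))
  push Not at hZ
  obtain ⟨z₀, hz₀, hz₀'⟩ := hZ
  have h4 := (four_le_orderOf hP hz₀').trans (Nat.card_zpowers z₀ ▸ card_le_of_le (zpowers_le.2 hz₀))
  have hab := fun u (hu : u ∉ center P) =>
    comm_centralizer_of_le hu (by have := two_mul_ccard_le hu; omega)
  by_cases h : ∀ x ∉ center P, ∃ w ∈ centralizer ({x} : Set P), w ∉ center P ∧ w * w = 1
  · obtain ⟨x, y, hxy⟩ := exists_not_commute hna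
    have hx : x ∉ center P := fun h => hxy (mem_center_iff.1 h y).symm
    have hy : y ∉ center P := fun h => hxy (mem_center_iff.1 h x)
    obtain ⟨a, ha, haZ, ha2⟩ := h x hx
    obtain ⟨b, hb, hbZ, hb2⟩ := h y hy
    have h5 : a * b ≠ b * a := fun e => by
      have h5 := hab a haZ x (mem_centralizer_singleton_iff.2
        (mem_centralizer_singleton_iff.1 ha).symm) b (mem_centralizer_singleton_iff.2 e.symm)
      exact hxy (hab b hbZ x (mem_centralizer_singleton_iff.2 h5) y
        (mem_centralizer_singleton_iff.2 (mem_centralizer_singleton_iff.1 hb).symm))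
    have h6 : a * b * (a * b) = z := by
      have h6 := hD _ (conj_mul_inv_mem_commutator a b)
      rw [mul_inv_eq_one, mul_inv_eq_iff_eq_mul, or_iff_right h5,
        inv_eq_of_mul_eq_one_right ha2, inv_eq_of_mul_eq_one_right hb2, mul_assoc] at h6
      exact h6
    have h7 : a * b ∉ center P := fun e => h5 (by
      have := mem_center_iff.1 e a
      rwa [mul_assoc, mul_right_inj] at this)
    exact key _ h7 (h6 ▸ hz1) fun v hv hf => (hF.fus_center hD hzc hz2 h7 hv hf rfl (hab _ h7)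
      (hc _)).2 _ (mem_centralizer_singleton_iff.2 rfl) h6
  · push Not at h
    obtain ⟨x, hx, h⟩ := h
    exact key x hx (h x (mem_centralizer_singleton_iff.2 rfl) hx) fun v hv hf =>
      let ⟨w, h1, h2, h3⟩ := (hF.fus_center hD hzc hz2 hx hv hf rfl (hab _ hx) (hc _)).1
      h w h1 h2 h3

theorem exists_four (h4 : 4 ≤ Nat.card (commutator P)) : ∃ z c : P, z ∈ center P ∧ z * z = 1 ∧
    z ≠ 1 ∧ z ∈ commutator P ∧ c ∈ commutator P ∧ c ∉ zpowers z ∧
      ∀ g, g * c * g⁻¹ * c⁻¹ ∈ zpowers z := by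
  obtain ⟨M, hM, -, h1, h2, h3⟩ := exists_normal_relIndex_eq_of_lt hP (K := ⊥) (L := commutator P)
    (bot_lt_iff_ne_bot.2 fun e => by rw [e, card_bot] at h4; omega)
  rw [relIndex_bot_left] at h2
  obtain ⟨N, hN, h5, h6, h7, h8⟩ := exists_normal_relIndex_eq_of_lt hP (K := M) (L := commutator P)
    (lt_of_le_of_ne h1 fun e => by rw [← e] at h4; omega)
  obtain ⟨z, hz, hz1, hz2⟩ := exists_mem_pow_eq_one (p := 2) (H := M) (h2 ▸ dvd_rfl)
  rw [pow_two] at hz2
  have h9 : zpowers z = M := eq_of_le_of_card_ge (zpowers_le.2 hz)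
    (by rw [h2, Nat.card_zpowers, orderOf_eq_two_of_mul_self hz2 hz1])
  obtain ⟨c, hc, hc'⟩ := SetLike.not_le_iff_exists.1 fun e : N ≤ M => by
    rw [relIndex_eq_one.2 e] at h7; omega
  refine ⟨z, c, mem_center_iff.2 fun g => ?_, hz2, hz1, h1 hz, h6 hc, h9 ▸ hc', fun g => ?_⟩
  · exact (commutatorElement_eq_one_iff_mul_comm.1 (h3 (commutator_mem_commutator hz (mem_top g)))).symm
  · rw [h9, ← commutatorElement_def, ← commutatorElement_inv]
    exact inv_mem (h8 (commutator_mem_commutator hc (mem_top g)))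

omit hP in
theorem abMax_of_card_le (hna : commutator P ≠ ⊥) {A : Subgroup P}
    (h : ∀ a ∈ A, ∀ b ∈ A, a * b = b * a) (hc : Nat.card P ≤ 2 * Nat.card A) : AbMax A := by
  refine ⟨h, le_antisymm hc ?_⟩
  rw [← card_top (G := P)]
  refine two_mul_card_le_of_lt (lt_top_iff_ne_top.2 fun e => ?_)
  obtain ⟨x, y, hxy⟩ := exists_not_commute hna
  exact hxy (h x (e ▸ mem_top x) y (e ▸ mem_top y))

omit hP in
theorem card_le_two_mul_ccard {z c : P} (hz : z * z = 1)
    (h : ∀ g, g * c * g⁻¹ * c⁻¹ ∈ zpowers z) : Nat.card P ≤ 2 * ccard c := by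
  by_cases h1 : ∀ g, g * c = c * g
  · rw [ccard_of_mem_center (mem_center_iff.2 h1)]; omega
  push Not at h1
  obtain ⟨y, hy⟩ := h1
  have h2 : ∀ g, g * c ≠ c * g → g⁻¹ * c * g⁻¹⁻¹ * c⁻¹ = z := fun g hg =>
    ((mem_zpowers_of_mul_self hz).1 (h g⁻¹)).resolve_left (by
      rwa [mul_inv_eq_one, inv_inv, mul_assoc, inv_mul_eq_iff_eq_mul, eq_comm])
  rw [← card_top (G := P)]
  refine Idx.card_le (y := y) fun g _ => or_iff_not_imp_left.2 fun hg => ?_
  rw [mem_centralizer_singleton_iff] at hg ⊢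
  calc g * y⁻¹ * c = g * (y⁻¹ * c * y⁻¹⁻¹ * c⁻¹) * c * y⁻¹ := by group
    _ = _ := by rw [h2 y hy, ← h2 g hg]; group

theorem exists_abMax_of_le (h16 : Nat.card P ≤ 16) (h4 : 4 ≤ Nat.card (commutator P)) :
    ∃ A : Subgroup P, AbMax A := by
  have hna : commutator P ≠ ⊥ := fun e => by rw [e, card_bot] at h4; omega
  obtain ⟨z, c, hz, hz2, hz1, -, -, hc, h⟩ := exists_four hP h4
  have h1 := two_mul_card_le_of_lt (left_lt_sup.2 (mt zpowers_le.1 hc) :
    zpowers z < zpowers z ⊔ zpowers c)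
  rw [Nat.card_zpowers, orderOf_eq_two_of_mul_self hz2 hz1] at h1
  have h2 := card_le_of_le (zpowers_le.2 hz)
  rw [Nat.card_zpowers, orderOf_eq_two_of_mul_self hz2 hz1] at h2
  by_cases hcZ : c ∈ center P
  · obtain ⟨x, y, hxy⟩ := exists_not_commute hna
    have hx : x ∉ center P := fun h => hxy (mem_center_iff.1 h y).symm
    have h3 := card_le_of_le (sup_le (zpowers_le.2 hz) (zpowers_le.2 hcZ))
    have h5 := two_mul_card_le_of_lt (left_lt_sup.2 (mt zpowers_le.1 hx) :
      center P < center P ⊔ zpowers x)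
    have h6 := card_le_of_le (center_sup_zpowers_le x)
    exact ⟨_, abMax_of_card_le hna (comm_centralizer_of_le hx
      (by have := two_mul_ccard_le hx; omega)) (by omega)⟩
  · exact ⟨_, abMax_of_card_le hna (comm_centralizer_of_le hcZ
      (by have := two_mul_ccard_le hcZ; omega)) (card_le_two_mul_ccard hz2 h)⟩

theorem exists_abMax_of_eight (h32 : Nat.card P ≤ 32) (h8 : 8 ≤ Nat.card (commutator P)) :
    ∃ A : Subgroup P, AbMax A := by
  have hna : commutator P ≠ ⊥ := fun e => by rw [e, card_bot] at h8; omega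
  obtain ⟨z, -, hz, hz2, hz1, hzc, -⟩ := exists_four hP (by omega)
  haveI : (zpowers z).Normal := ⟨fun x hx g => by
    rwa [mem_center_iff.1 (zpowers_le.2 hz hx), mul_inv_cancel_right]⟩
  have hZ : Nat.card (zpowers z) = 2 := by
    rw [Nat.card_zpowers, orderOf_eq_two_of_mul_self hz2 hz1]
  have h1 := card_eq_card_quotient_mul_card_subgroup (zpowers z)
  have h2 := card_map_mul_card_inf_ker (QuotientGroup.mk' (zpowers z)) (commutator P)
  rw [map_commutator_eq, QuotientGroup.range_mk', QuotientGroup.ker_mk',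
    inf_eq_left.2 (zpowers_le.2 hzc), ← commutator_def, hZ] at h2
  have hQ := hP.to_quotient (zpowers z)
  rw [hZ] at h1
  have h4 : 4 ≤ Nat.card (commutator (P ⧸ zpowers z)) := by omega
  obtain ⟨A, hA⟩ := exists_abMax_of_le hQ (by omega) h4
  have h3 := hA.card
  rw [hA.card_eq h4] at h3
  have h5 := Nat.mul_le_mul_left (Nat.card (center (P ⧸ zpowers z))) h4
  obtain ⟨t, ht⟩ := hA.exists_not_mem
  obtain ⟨a, ha, hc, -⟩ := hA.exists_gen h4 (by omega) hQ
    (fun e => by have := card_le_of_le e; omega) ht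
  obtain ⟨n, hn⟩ := hA.goodB h4 (by omega) hQ ht ha hc
    (hA.mem_zpowers_of_card_center h4 hQ ht ha hc (by omega))
  refine ⟨(zpowers a).comap (QuotientGroup.mk' _), abMax_of_card_le hna ?_ ?_⟩
  · obtain ⟨b, rfl⟩ := QuotientGroup.mk'_surjective _ a
    rw [← MonoidHom.map_zpowers, comap_map_mk'_eq, sup_comm]
    haveI : IsMulCommutative (zpowers z ⊔ zpowers b : Subgroup P) := isMulCommutative_sup_zpowers
      fun x hx => (mem_center_iff.1 (zpowers_le.2 hz hx) b).symm
    exact fun x hx y hy => setLike_mul_comm hx hy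
  · rw [card_comap_mk', Nat.card_zpowers, hn.ord, hZ]
    have := Nat.pow_le_pow_right (n := 2) two_pos (show 3 ≤ n + 1 by have := hn.two_le; omega)
    omega

theorem FusRel.goodA_of_center {F : P → P → Prop} (hF : FusRel F) (h32 : Nat.card P ≤ 32)
    (h4 : Nat.card (commutator P) = 4) (hZ : 4 ≤ Nat.card (center P))
    (hA : ∀ A : Subgroup P, ¬ AbMax A) : ∃ u, GoodA F u := by
  have hna : commutator P ≠ ⊥ := fun e => by rw [e, card_bot] at h4; omega
  have h1 : ∀ x ∉ center P, 4 * ccard x ≤ Nat.card P := fun x hx => by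
    have h1 := two_mul_ccard_le hx
    have h2 := mt (abMax_of_card_le hna (comm_centralizer_of_le hx (by omega))) (hA _)
    obtain ⟨k, hk⟩ := card_subgroup_dvd_card (centralizer ({x} : Set P))
    obtain ⟨j, hj⟩ := (Nat.dvd_prime_pow Nat.prime_two).1
      (hP.exists_card_eq.choose_spec ▸ Dvd.intro_left _ hk.symm)
    rw [hk, mul_comm]
    refine Nat.mul_le_mul_left _ ?_
    rcases j with _ | _ | j
    · rw [hj.2] at hk; omega
    · rw [hj.2] at hk; omega
    · have := Nat.one_le_two_pow (n := j)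
      rw [hj.2, pow_add, pow_add]
      omega
  have h2 : ∀ x : P, x * x ∈ center P := fun x => by
    by_cases hx : x ∈ center P
    · exact mul_mem hx hx
    obtain ⟨y, -, hI⟩ := exists_idx_of_card_le (le_sup_left.trans (center_sup_zpowers_le x))
      (by have := h1 x hx; omega)
    exact hI.sq_mem (mem_centralizer_singleton_iff.2 rfl)
  have h5 : commutator P ≤ powKer (center P) 2 := commutator_le.2 fun a _ b _ => by
    rw [commutatorElement_def]
    have h5 : a * b * a⁻¹ * b⁻¹ ∈ center P := by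
      rw [show a * b * a⁻¹ * b⁻¹ = a * b * (a * b) * (b⁻¹ * (a * a)⁻¹ * b) * (b * b)⁻¹ by group]
      exact mul_mem (mul_mem (h2 _) (Normal.conj_mem' inferInstance _ (inv_mem (h2 a)) b))
        (inv_mem (h2 b))
    refine ⟨h5, ?_⟩
    calc (a * b * a⁻¹ * b⁻¹) ^ 2 = a * b * a⁻¹ * b⁻¹ * a * (b * a⁻¹ * b⁻¹) := by
          rw [pow_two]; group
      _ = a * a * b * (a * a)⁻¹ * b⁻¹ := by rw [← mem_center_iff.1 h5 a]; group
      _ = 1 := by rw [← mem_center_iff.1 (h2 a) b]; group
  obtain ⟨u, hu⟩ := exists_sq_ne_one hna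
  have h6 := (commutator P).index_mul_card
  rw [h4] at h6
  have h7 : ∀ x : P, x * x ≠ 1 → 4 * ccard x ≤ Nat.card P := fun x hx => h1 x fun hx' => by
    obtain ⟨y, w, hyw⟩ := exists_not_commute hna
    have hy : y ∉ center P := fun h => hyw (mem_center_iff.1 h w).symm
    have h7 := two_mul_card_le_of_lt (left_lt_sup.2 (mt zpowers_le.1 hy) :
      center P < center P ⊔ zpowers y)
    have h8 := card_le_of_le (center_sup_zpowers_le y)
    have h9 := h1 y hy
    exact hx ((pow_two x).symm.trans (h5 ((eq_of_le_of_card_ge (h5.trans (powKer_le _ _))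
      (by omega)).ge hx')).2)
  have h8 := card_le_ccard_mul u
  have := h7 u hu
  have := four_le_orderOf hP hu
  rw [h4] at h8
  exact ⟨u, fun w hw => by have := h7 w (mt (hF.sq_iff hw).2 hu); omega, by omega, by omega⟩

theorem FusRel.goodA_of_class_three {F : P → P → Prop} (hF : FusRel F) (h32 : Nat.card P ≤ 32)
    (h4 : Nat.card (commutator P) = 4) (hZ : Nat.card (center P) ≤ 2)
    (hA : ∀ A : Subgroup P, ¬ AbMax A) : ∃ u, GoodA F u := by
  have hna : commutator P ≠ ⊥ := fun e => by rw [e, card_bot] at h4; omega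
  obtain ⟨z, c, hz, hz2, hz1, hzc, hc, hcz, h⟩ := exists_four hP h4.ge
  have h2 : Nat.card (zpowers z) = 2 := by
    rw [Nat.card_zpowers, orderOf_eq_two_of_mul_self hz2 hz1]
  have hZ' : zpowers z = center P := eq_of_le_of_card_ge (zpowers_le.2 hz) (by omega)
  have hZm : ∀ g ∈ center P, g = 1 ∨ g = z := fun g hg => (mem_zpowers_of_mul_self hz2).1 (hZ' ▸ hg)
  obtain ⟨C, hC⟩ : ∃ C, C = centralizer ({c} : Set P) := ⟨_, rfl⟩
  have hCc : Nat.card P ≤ 2 * Nat.card C := hC ▸ card_le_two_mul_ccard hz2 h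
  have hCc' : 2 * Nat.card C ≤ Nat.card P := hC ▸ two_mul_ccard_le (hZ' ▸ hcz)
  have hI : Idx (commutator P) (center P) c := by
    obtain ⟨y, -, hI⟩ := exists_idx_of_card_le (hZ' ▸ zpowers_le.2 hzc : center P ≤ commutator P)
      (by rw [← hZ']; omega)
    exact hI.change hc (hZ' ▸ hcz)
  have hD : ∀ d ∈ commutator P, d ∉ center P → ∀ g, g * d = d * g ↔ g ∈ C := fun d hd hd' g => by
    have h1 := (hI d hd).resolve_left hd'
    rw [hC, mem_centralizer_singleton_iff, ← inv_mul_cancel_right d c, ← mul_assoc,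
      mem_center_iff.1 h1 g, mul_assoc (d * c⁻¹), mul_assoc (d * c⁻¹), mul_right_inj]
  have hD' : ∀ d ∈ commutator P, ∀ g ∈ C, g * d = d * g := fun d hd g hg => by
    by_cases h1 : d ∈ center P
    exacts [mem_center_iff.1 h1 g, (hD d hd h1 g).2 hg]
  have hDC : commutator P ≤ C := fun d hd =>
    hC ▸ mem_centralizer_singleton_iff.2 (hD' d hd c (hC ▸ mem_centralizer_singleton_iff.2 rfl)).symm
  have hCn : ∀ x ∈ C, (∀ g ∈ C, g * x = x * g) → x ∈ commutator P := fun x hx hx' => by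
    by_contra h1
    have h3 := two_mul_card_le_of_lt (left_lt_sup.2 (mt zpowers_le.1 h1) :
      commutator P < commutator P ⊔ zpowers x)
    refine hA C (abMax_of_card_le hna (comm_of_card_le_two_mul (sup_le hDC (zpowers_le.2 hx))
      (fun b hb g hg => ?_) (by omega)) hCc)
    have h5 : commutator P ⊔ zpowers x ≤ centralizer ({g} : Set P) :=
      sup_le (fun d hd => mem_centralizer_singleton_iff.2 (hD' d hd g hg).symm)
        (zpowers_le.2 (mem_centralizer_singleton_iff.2 (hx' g hg).symm))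
    exact (mem_centralizer_singleton_iff.1 (h5 hb)).symm
  obtain ⟨t, -, hJ⟩ := exists_idx_of_card_le (le_top : C ≤ ⊤) (by rwa [card_top])
  have hDW : ∀ d ∈ commutator P, ∀ g, g * d * g⁻¹ * d⁻¹ ∈ center P := fun d hd g => by
    rcases hI d hd with h1 | h1
    · simp [mem_center_iff.1 h1 g]
    · rw [← inv_mul_cancel_right d c, ← mul_assoc, mem_center_iff.1 h1 g,
        show d * c⁻¹ * g * c * g⁻¹ * (d * c⁻¹ * c)⁻¹ = d * c⁻¹ * (g * c * g⁻¹ * c⁻¹) * (d * c⁻¹)⁻¹ by
          group]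
      exact Normal.conj_mem inferInstance _ (hZ' ▸ h g) _
  have h1 : ∀ x g : P, g * x * g⁻¹ * x⁻¹ ∉ center P → 4 * ccard x ≤ Nat.card P := fun x g hg => by
    have hx : x ∉ center P := fun e => hg (by simp [mem_center_iff.1 e g])
    have h1 := two_mul_ccard_le hx
    by_contra h3
    have h5 : Nat.card P ≤ 2 * ccard x := by
      obtain ⟨k, hk⟩ := card_subgroup_dvd_card (centralizer ({x} : Set P))
      obtain ⟨j, hj⟩ := (Nat.dvd_prime_pow Nat.prime_two).1
        (hP.exists_card_eq.choose_spec ▸ Dvd.intro_left _ hk.symm)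
      rcases j with _ | _ | j
      · rw [hj.2] at hk; omega
      · rw [hj.2] at hk; omega
      · have := Nat.mul_le_mul_left (ccard x) (Nat.one_le_two_pow (n := j))
        rw [hj.2, pow_add, pow_add, ← mul_assoc, ← mul_assoc] at hk
        omega
    have h6 : centralizer {x} ≤ C := fun m hm => by
      rw [← hD _ (conj_mul_inv_mem_commutator g x) hg]
      have h6 := mem_centralizer_singleton_iff.1
        ((normal_of_card_le_two_mul h5).conj_mem' m hm g)
      have h7 := mem_centralizer_singleton_iff.1 hm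
      calc m * (g * x * g⁻¹ * x⁻¹) = g * (g⁻¹ * m * g * x) * g⁻¹ * x⁻¹ := by group
        _ = g * x * g⁻¹ * x⁻¹ * (x * m) * x⁻¹ := by rw [h6]; group
        _ = _ := by rw [← h7]; group
    have h7 := eq_of_le_of_card_ge h6 (by omega)
    exact hg (hDW x (hCn x (h6 (mem_centralizer_singleton_iff.2 rfl)) fun m hm =>
      mem_centralizer_singleton_iff.1 (h7 ▸ hm)) g)
  have key : ∀ u : P, u * u ≠ 1 → (∀ w : P, (∀ g, g * w * g⁻¹ * w⁻¹ ∈ center P) → ¬ F u w) →
      ∃ u, GoodA F u := fun u hu hw => by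
    have h5 : ∀ w, F u w → 4 * ccard w ≤ Nat.card P := fun w hf => by
      obtain ⟨g, hg⟩ := not_forall.1 fun e => hw w e hf
      exact h1 w g hg
    have h6 := (commutator P).index_mul_card
    have h8 := card_le_ccard_mul u
    have := h5 u (hF.refl u)
    have := four_le_orderOf hP hu
    rw [h4] at h6 h8
    exact ⟨u, fun w hw => by have := h5 w hw; omega, by omega, by omega⟩
  have hZ2 : ∀ g ∈ center P, g * g = 1 := fun g hg => by
    rcases hZm g hg with rfl | rfl
    exacts [mul_one 1, hz2]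
  have hW : ∀ w : P, (∀ g, g * w * g⁻¹ * w⁻¹ ∈ center P) → w * w ∈ center P := fun w hw =>
    mem_center_iff.2 fun g => by
      calc g * (w * w) = g * w * g⁻¹ * w⁻¹ * (w * (g * w * g⁻¹ * w⁻¹)) * w * g := by group
        _ = _ := by rw [mem_center_iff.1 (hw g) w, ← mul_assoc, hZ2 _ (hw g)]; group
  by_cases h8 : ∃ u : P, u * u * (u * u) ≠ 1
  · obtain ⟨u, hu⟩ := h8
    exact key u (fun e => hu (by rw [e, mul_one])) fun w hw hf =>
      hu ((hF.sq_iff (hF.sq hf)).2 (hZ2 _ (hW w hw)))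
  push Not at h8
  obtain ⟨x, hx, y, hy, hxy⟩ : ∃ x ∉ C, ∃ y ∈ C, x * y * x⁻¹ * y⁻¹ ∉ center P := by
    by_contra! h3
    obtain ⟨x, hx⟩ : ∃ x, x ∉ C := by
      by_contra! h5
      rw [(eq_top_iff' C).2 h5, card_top] at hCc'
      have := Nat.card_pos (α := P)
      omega
    refine hcz (hZ' ▸ (commutator_le.2 fun a _ b _ => ?_ : commutator P ≤ center P) hc)
    rw [commutatorElement_def]
    by_cases ha : a ∈ C <;> by_cases hb : b ∈ C
    · rw [show a * b * a⁻¹ * b⁻¹ =
        x⁻¹ * (x * a * b * (x * a)⁻¹ * b⁻¹ * (x * b * x⁻¹ * b⁻¹)⁻¹) * x by group]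
      exact Normal.conj_mem' inferInstance _ (mul_mem (h3 _ (by rwa [mul_mem_cancel_right ha]) b hb)
        (inv_mem (h3 x hx b hb))) x
    · rw [show a * b * a⁻¹ * b⁻¹ = (b * a * b⁻¹ * a⁻¹)⁻¹ by group]
      exact inv_mem (h3 b hb a ha)
    · exact h3 a ha b hb
    · rw [show a * b * a⁻¹ * b⁻¹ = a * (b * a⁻¹) * a⁻¹ * (b * a⁻¹)⁻¹ by group]
      exact h3 a ha _ (hJ.mul_inv_mem (mem_top b) (mem_top a) hb ha)
  have hd := conj_mul_inv_mem_commutator x y
  have hcomm : ∀ m ∈ C, ∀ a ∈ commutator P ⊔ zpowers m, ∀ b ∈ commutator P ⊔ zpowers m,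
      a * b = b * a := fun m hm => by
    haveI : IsMulCommutative (commutator P) :=
      isMulCommutative_iff_forall.2 fun a ha b hb => hD' b hb a (hDC ha)
    haveI : IsMulCommutative (commutator P ⊔ zpowers m : Subgroup P) :=
      isMulCommutative_sup_zpowers fun e he => (hD' e he m hm).symm
    exact fun a ha b hb => setLike_mul_comm ha hb
  have hsq : ∀ a b : P, a * b = b * a → a * b * (a * b) = a * a * (b * b) := fun a b h1 => by
    rw [mul_assoc, ← mul_assoc b, ← h1]; group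
  have hsqD : ∀ e ∈ commutator P, e ∉ center P →
      e * e = x * y * x⁻¹ * y⁻¹ * (x * y * x⁻¹ * y⁻¹) := fun e he he' => by
    have h3 := hI.mul_inv_mem he hd he' hxy
    rw [← inv_mul_cancel_right e (x * y * x⁻¹ * y⁻¹), hsq _ _ (mem_center_iff.1 h3 _).symm,
      hZ2 _ h3, one_mul]
  by_cases hd2 : x * y * x⁻¹ * y⁻¹ * (x * y * x⁻¹ * y⁻¹) = 1
  swap
  · have h3 := two_mul_card_le_of_lt (lt_of_le_of_ne (sup_le hDC (zpowers_le.2 hy)) fun e =>
      hA C (abMax_of_card_le hna (e ▸ hcomm y hy) hCc))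
    obtain ⟨_, -, hK⟩ := exists_idx_of_card_le (le_sup_left : commutator P ≤ _ ⊔ zpowers y)
      (by omega)
    refine absurd (h8 y) (hsqD _ (hK.sq_mem (mem_sup_right (mem_zpowers y))) (fun e => hd2 ?_) ▸ hd2)
    calc _ = x * y * x⁻¹ * y⁻¹ * (y * (x * y * x⁻¹ * y⁻¹)) * y * (y * y)⁻¹ := by
          rw [hD' _ hd y hy]; group
      _ = x * (y * y) * x⁻¹ * (y * y)⁻¹ := by group
      _ = 1 := by rw [mem_center_iff.1 e x]; group
  have hxx : y * (x * x) ≠ x * x * y := fun e => hx ((hD _ hd hxy x).1 (by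
    calc x * (x * y * x⁻¹ * y⁻¹) = x * x * y * (x⁻¹ * y⁻¹) := by group
      _ = (x * y * x⁻¹ * y⁻¹)⁻¹ * x := by rw [← e]; group
      _ = _ := by rw [inv_eq_of_mul_eq_one_right hd2]))
  have hxC := hJ.sq_mem (mem_top x)
  have hB := idx_sup_zpowers (C := commutator P) (le_normalizer_of_normal (mem_top (x * x)))
    (h8 x ▸ one_mem _)
  have hD2 : ∀ e ∈ commutator P, e * e = 1 := fun e he => by
    by_cases h3 : e ∈ center P
    exacts [hZ2 e h3, (hsqD e he h3).trans hd2]
  have h3 := two_mul_card_le_of_lt (left_lt_sup.2 (mt zpowers_le.1 fun e => hxx (hD' _ e y hy)) :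
    commutator P < commutator P ⊔ zpowers (x * x))
  obtain ⟨_, -, hK⟩ := exists_idx_of_card_le (sup_le hDC (zpowers_le.2 hxC)) (by omega)
  refine key x (fun e => hxx (by rw [e]; group)) fun w hw hf => hxx ?_
  rw [(hF.sq_iff hf).2 ?_]
  · group
  have hwC : w ∈ C := (hD _ hd hxy w).1 (by
    calc w * (x * y * x⁻¹ * y⁻¹) = (x * w * x⁻¹ * w⁻¹)⁻¹ * (x * ((y * w * y⁻¹ * w⁻¹)⁻¹ * (y *
          (x⁻¹ * (x * w * x⁻¹ * w⁻¹)) * y⁻¹ * (y * w * y⁻¹ * w⁻¹)))) * w := by group
      _ = (x * w * x⁻¹ * w⁻¹)⁻¹ * (x * y * x⁻¹ * (x * w * x⁻¹ * w⁻¹)) * y⁻¹ * w := by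
        rw [mem_center_iff.1 (hw y), inv_mul_cancel_left]; group
      _ = _ := by rw [mem_center_iff.1 (hw x), inv_mul_cancel_left])
  rcases hK.change hy (fun e => hxx (hcomm _ hxC _ e _ (mem_sup_right (mem_zpowers _)))) w hwC
    with h5 | h5
  · refine (hB w h5).elim (hD2 w) fun h6 => ?_
    rw [← inv_mul_cancel_right w (x * x), hsq _ _ (hD' _ h6 _ hxC).symm, hD2 _ h6, h8, mul_one]
  · refine absurd ?_ hxy
    have h6 : x * (w * y⁻¹) * x⁻¹ * (w * y⁻¹)⁻¹ ∈ center P := (hB _ h5).elim (hDW _ · x) fun h6 => by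
      rw [show x * (w * y⁻¹) * x⁻¹ * (w * y⁻¹)⁻¹ =
        x * (w * y⁻¹ * (x * x)⁻¹) * x⁻¹ * (w * y⁻¹ * (x * x)⁻¹)⁻¹ by group]
      exact hDW _ h6 x
    rw [show x * y * x⁻¹ * y⁻¹ = (w * y⁻¹)⁻¹ * ((x * (w * y⁻¹) * x⁻¹ * (w * y⁻¹)⁻¹)⁻¹ *
      (x * w * x⁻¹ * w⁻¹)) * (w * y⁻¹) by group]
    exact Normal.conj_mem' inferInstance _ (mul_mem (inv_mem h6) (hw x)) _

theorem FusRel.exists_good {F : P → P → Prop} (hF : FusRel F) (h32 : Nat.card P ≤ 32)
    (hna : commutator P ≠ ⊥) : (∃ u, GoodA F u) ∨ ∃ a t n, GoodB (P := P) a t n := by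
  by_cases h2 : Nat.card (commutator P) = 2
  · exact Or.inl (hF.goodA_of_two hP h32 h2)
  have h4 : 4 ≤ Nat.card (commutator P) := four_le_card_of_two_lt hP (by
    have := (one_lt_card_iff_ne_bot _).2 hna
    omega)
  by_cases hA : ∃ A : Subgroup P, AbMax A
  · obtain ⟨A, hA⟩ := hA
    exact hA.good h4 hF h32 hP
  have h5 : Nat.card (commutator P) = 4 := by
    have h5 := mt (exists_abMax_of_eight hP h32) hA
    obtain ⟨k, hk⟩ := (hP.to_subgroup (commutator P)).exists_card_eq
    rcases k with _ | _ | _ | k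
    · omega
    · omega
    · omega
    · have := Nat.one_le_two_pow (n := k)
      rw [pow_add, pow_add, pow_add] at hk
      omega
  by_cases hZ : Nat.card (center P) ≤ 2
  · exact Or.inl (hF.goodA_of_class_three hP h32 h5 hZ (not_exists.1 hA))
  · exact Or.inl (hF.goodA_of_center hP h32 h5 (four_le_card_of_two_lt hP (by omega))
      (not_exists.1 hA))

end GT
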