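import Cfsg.Agent.Lib.Char.BrauerPerm
import Cfsg.Agent.Lib.Block.TwoOver
import Mathlib.GroupTheory.ClassEquation

/-!
# Actions with a fixed point and two further orbits; the class equation in weighted form
-/

set_option autoImplicit false
set_option linter.unusedSectionVars false
set_option linter.style.haveILetI false

namespace GT

open Cfsg CT BT Subgroup MulAction

/-- An action with a fixed point `x₀` and exactly two further orbits. -/
structure TwoOrb (K : Type*) {X : Type*} [Group K] [MulAction K X] (x₀ x₁ x₂ : X) : Prop where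
  fix : ∀ g : K, g • x₀ = x₀
  ne₁ : x₁ ≠ x₀
  ne₂ : x₂ ≠ x₀
  ne : x₂ ∉ orbit K x₁
  cover : ∀ x, x ≠ x₀ → x ∈ orbit K x₁ ∨ x ∈ orbit K x₂

variable {K : Type*} [Group K] [Finite K] {X : Type*} [MulAction K X]

theorem index_stabilizer_eq_of_mem {x y : X} (h : y ∈ orbit K x) :
    (stabilizer K y).index = (stabilizer K x).index := by
  rw [index_stabilizer, index_stabilizer, orbit_eq_iff.2 h]

namespace TwoOrb

variable {x₀ x₁ x₂ : X} (T : TwoOrb K x₀ x₁ x₂)
include T

theorem symm : TwoOrb K x₀ x₂ x₁ :=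
  ⟨T.fix, T.ne₂, T.ne₁, fun h => T.ne (mem_orbit_symm.1 h), fun x hx => (T.cover x hx).symm⟩

theorem ne_of_mem {x y : X} (hx : x ≠ x₀) (h : y ∈ orbit K x) : y ≠ x₀ := by
  rintro rfl
  obtain ⟨g, hg⟩ := mem_orbit_symm.1 h
  exact hx (hg.symm.trans (T.fix g))

theorem not_mem {x : X} (h : x ∈ orbit K x₁) : x ∉ orbit K x₂ := fun h' =>
  T.ne (orbit_eq_iff.2 h ▸ mem_orbit_symm.1 h')

theorem three {u v w : X} (hu : u ≠ x₀) (hv : v ≠ x₀) (hw : w ≠ x₀) :
    v ∈ orbit K u ∨ w ∈ orbit K u ∨ w ∈ orbit K v := by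
  simp only [← orbit_eq_iff]
  rcases T.cover u hu with h1 | h1 <;> rcases T.cover v hv with h2 | h2 <;>
    rcases T.cover w hw with h3 | h3 <;> rw [← orbit_eq_iff] at h1 h2 h3 <;> simp [h1, h2, h3]

theorem index_eq {x : X} (hx : x ≠ x₀) : (stabilizer K x).index = (stabilizer K x₁).index ∨
    (stabilizer K x).index = (stabilizer K x₂).index :=
  (T.cover x hx).imp index_stabilizer_eq_of_mem index_stabilizer_eq_of_mem

theorem sum_eq [Fintype X] {M : Type*} [AddCommMonoid M] (f : X → M)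
    (hf : ∀ (g : K) x, f (g • x) = f x) : ∑ x, f x =
      f x₀ + (stabilizer K x₁).index • f x₁ + (stabilizer K x₂).index • f x₂ := by
  classical
  have h1 : ∀ x, f x = (if x = x₀ then f x₀ else 0) + (if x ∈ orbit K x₁ then f x₁ else 0) +
      (if x ∈ orbit K x₂ then f x₂ else 0) := fun x => by
    by_cases h : x = x₀
    · subst h
      rw [if_pos rfl, if_neg fun h => T.ne_of_mem T.ne₁ h rfl,
        if_neg fun h => T.ne_of_mem T.ne₂ h rfl, add_zero, add_zero]
    rcases T.cover x h with h2 | h2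
    · rw [if_neg h, if_pos h2, if_neg (T.not_mem h2), zero_add, add_zero]
      obtain ⟨g, rfl⟩ := h2
      exact hf g _
    · rw [if_neg h, if_pos h2, if_neg (T.symm.not_mem h2), zero_add, zero_add]
      obtain ⟨g, rfl⟩ := h2
      exact hf g _
  have h2 : ∀ y : X, ∑ x, (if x ∈ orbit K y then f y else 0) = (stabilizer K y).index • f y :=
    fun y => by
      rw [← Finset.sum_filter, Finset.sum_const, index_stabilizer, Set.ncard_eq_toFinset_card']
      congr 2
      ext
      simp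
  rw [Finset.sum_congr rfl fun x _ => h1 x, Finset.sum_add_distrib, Finset.sum_add_distrib, h2, h2]
  simp

theorem card_eq [Finite X] :
    Nat.card X = 1 + (stabilizer K x₁).index + (stabilizer K x₂).index := by
  haveI := Fintype.ofFinite X
  simpa using T.sum_eq (fun _ => (1 : ℕ)) fun _ _ => rfl

theorem card_quotient : Nat.card (orbitRel.Quotient K X) = 3 := by
  have h : ∀ x y : X, (Quotient.mk _ x : orbitRel.Quotient K X) = Quotient.mk _ y ↔
      x ∈ orbit K y := fun x y => Quotient.eq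
  rw [← Set.ncard_univ, Set.ncard_eq_three]
  refine ⟨Quotient.mk _ x₀, Quotient.mk _ x₁, Quotient.mk _ x₂,
    fun e => T.ne_of_mem T.ne₁ ((h _ _).1 e) rfl, fun e => T.ne_of_mem T.ne₂ ((h _ _).1 e) rfl,
    fun e => T.symm.ne ((h _ _).1 e), (Set.eq_univ_of_forall fun c => ?_).symm⟩
  obtain ⟨x, rfl⟩ := Quotient.exists_rep c
  simp only [Set.mem_insert_iff, Set.mem_singleton_iff, h]
  by_cases h1 : x = x₀
  · exact Or.inl (h1 ▸ mem_orbit_self _)
  · exact Or.inr (T.cover x h1)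

end TwoOrb

theorem exists_twoOrb {x₀ : X} (h0 : ∀ g : K, g • x₀ = x₀)
    (h3 : Nat.card (orbitRel.Quotient K X) = 3) : ∃ x₁ x₂, TwoOrb K x₀ x₁ x₂ := by
  have h : ∀ x y : X, (Quotient.mk _ x : orbitRel.Quotient K X) = Quotient.mk _ y ↔
      x ∈ orbit K y := fun x y => Quotient.eq
  haveI : Finite (orbitRel.Quotient K X) := Nat.finite_of_card_ne_zero (by omega)
  have h1 : ({Quotient.mk _ x₀}ᶜ : Set (orbitRel.Quotient K X)).ncard = 2 := by
    rw [Set.ncard_compl, h3, Set.ncard_singleton]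
  obtain ⟨a, b, hab, h2⟩ := Set.ncard_eq_two.1 h1
  obtain ⟨x₁, rfl⟩ := Quotient.exists_rep a
  obtain ⟨x₂, rfl⟩ := Quotient.exists_rep b
  have h4 : ∀ x, x ≠ x₀ ↔ x ∈ orbit K x₁ ∨ x ∈ orbit K x₂ := fun x => by
    rw [← h, ← h, ← Set.mem_singleton_iff (b := Quotient.mk _ x₂), ← Set.mem_insert_iff, ← h2,
      Set.mem_compl_singleton_iff, Ne, Ne, h]
    exact not_congr ⟨fun e => e ▸ mem_orbit_self _, fun ⟨g, e⟩ => e.symm.trans (h0 g)⟩
  exact ⟨x₁, x₂, h0, (h4 _).2 (Or.inl (mem_orbit_self _)), (h4 _).2 (Or.inr (mem_orbit_self _)),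
    fun e => hab ((h _ _).2 e).symm, fun x hx => (h4 x).1 hx⟩

/-- The order of the centralizer of an element of a conjugacy class. -/
noncomputable def clCent (c : ConjClasses K) : ℕ :=
  Nat.card (centralizer ({Quotient.out c} : Set K))

theorem clCent_mk (g : K) :
    clCent (ConjClasses.mk g) = Nat.card (centralizer ({g} : Set K)) :=
  (card_centralizer_eq_of_isConj (isConj_out_mk g)).symm

theorem clCent_pos (c : ConjClasses K) : 0 < clCent c := Nat.card_pos

theorem sum_inv_clCent [Fintype (ConjClasses K)] : ∑ c : ConjClasses K, (clCent c : ℚ)⁻¹ = 1 := by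
  have h1 : (Nat.card K : ℚ) ≠ 0 := Nat.cast_ne_zero.2 Nat.card_pos.ne'
  refine mul_left_cancel₀ h1 ?_
  rw [mul_one, Finset.mul_sum]
  conv_rhs => rw [← Group.sum_card_conj_classes_eq_card, finsum_eq_sum_of_fintype, Nat.cast_sum]
  refine Finset.sum_congr rfl fun c _ => ?_
  obtain ⟨g, rfl⟩ := ConjClasses.exists_rep c
  have h2 : (ConjClasses.mk g).carrier.ncard = (centralizer ({g} : Set K)).index := by
    rw [← card_conj_eq_index, ← Nat.card_coe_set_eq]
    exact Nat.card_congr (Equiv.subtypeEquivRight fun x => by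
      rw [ConjClasses.mem_carrier_iff_mk_eq, eq_comm, ConjClasses.mk_eq_mk_iff_isConj])
  rw [h2, clCent_mk, ← (centralizer ({g} : Set K)).index_mul_card, Nat.cast_mul,
    mul_inv_cancel_right₀ (Nat.cast_ne_zero.2 Nat.card_pos.ne')]

theorem two_le_card_centralizer {g : K} (hg : g ≠ 1) :
    2 ≤ Nat.card (centralizer ({g} : Set K)) :=
  (one_lt_card_iff_ne_bot _).2 fun h =>
    hg (mem_bot.1 (h ▸ mem_centralizer_singleton_iff.2 rfl))

theorem card_le_six_of_card_conjClasses_le (h : Nat.card (ConjClasses K) ≤ 3) : Nat.card K ≤ 6 := by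
  classical
  by_cases h2 : Nat.card (ConjClasses K) ≤ 2
  · have := card_le_of_card_conjClasses_le_two h2
    omega
  haveI := Fintype.ofFinite (ConjClasses K)
  have h1 : (Finset.univ.erase (ConjClasses.mk (1 : K))).card = 2 := by
    rw [Finset.card_erase_of_mem (Finset.mem_univ _), Finset.card_univ, ← Nat.card_eq_fintype_card]
    omega
  obtain ⟨a, b, hab, h3⟩ := Finset.card_eq_two.1 h1
  have h4 : ∀ c ∈ Finset.univ.erase (ConjClasses.mk (1 : K)), 2 ≤ clCent c := fun c hc => by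
    obtain ⟨g, rfl⟩ := ConjClasses.exists_rep c
    rw [clCent_mk]
    exact two_le_card_centralizer fun e => Finset.ne_of_mem_erase hc (e ▸ rfl)
  have h5 := sum_inv_clCent (K := K)
  rw [← Finset.add_sum_erase _ _ (Finset.mem_univ (ConjClasses.mk 1)), h3, Finset.sum_pair hab,
    clCent_mk, centralizer_eq_top_iff_subset.2 (by simp), card_top] at h5
  have ha := h4 a (by simp [h3])
  have hb := h4 b (by simp [h3])
  have hK : 0 < Nat.card K := Nat.card_pos
  generalize clCent a = x at *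
  generalize clCent b = y at *
  generalize Nat.card K = N at *
  have h6 : x * y + N * (x + y) = N * x * y := by
    have hx : (x : ℚ) ≠ 0 := by positivity
    have hy : (y : ℚ) ≠ 0 := by positivity
    have hN : (N : ℚ) ≠ 0 := by positivity
    field_simp at h5
    exact_mod_cast (by linarith : (x : ℚ) * y + N * (x + y) = N * x * y)
  by_contra h7
  obtain ⟨x, rfl⟩ := Nat.exists_eq_add_of_le' ha
  obtain ⟨y, rfl⟩ := Nat.exists_eq_add_of_le' hb
  obtain ⟨N, rfl⟩ := Nat.exists_eq_add_of_le' (show 7 ≤ N by omega)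
  rcases x with _ | x
  · rcases y with _ | y <;> nlinarith [Nat.zero_le N]
  · rcases y with _ | y
    · nlinarith [Nat.zero_le (N * x)]
    · nlinarith [Nat.zero_le (N * x * y), Nat.zero_le (N * x), Nat.zero_le (N * y),
        Nat.zero_le (x * y)]

theorem one_le_weighted {S₀ S₁ S₂ : Finset (ConjClasses K)} (h01 : Disjoint S₀ S₁)
    (h02 : Disjoint S₀ S₂) (h12 : Disjoint S₁ S₂) {A B C D : ℕ} (hA : 0 < A) (hB : 0 < B)
    (hC : 0 < C) (hD : 0 < D) (h0 : ∀ c ∈ S₀, A ≤ clCent c) (h1 : ∀ c ∈ S₁, B ≤ clCent c)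
    (h2 : ∀ c ∈ S₂, C ≤ clCent c) (h3 : ∀ c, c ∉ S₀ → D ≤ clCent c) :
    (1 : ℚ) ≤ Nat.card (ConjClasses K) * (D : ℚ)⁻¹ + S₀.card * ((A : ℚ)⁻¹ - (D : ℚ)⁻¹) +
      S₁.card * ((B : ℚ)⁻¹ - (D : ℚ)⁻¹) + S₂.card * ((C : ℚ)⁻¹ - (D : ℚ)⁻¹) := by
  classical
  haveI := Fintype.ofFinite (ConjClasses K)
  have key : ∀ {m : ℕ} (c : ConjClasses K), 0 < m → m ≤ clCent c →
      (clCent c : ℚ)⁻¹ ≤ (m : ℚ)⁻¹ := fun c hm h => by gcongr
  have h4 : ∀ (S : Finset (ConjClasses K)) (x : ℚ), S.card * x = ∑ c, if c ∈ S then x else 0 :=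
    fun S x => by simp
  rw [← sum_inv_clCent (K := K), h4, h4, h4, Nat.card_eq_fintype_card, ← nsmul_eq_mul,
    ← Finset.card_univ, ← Finset.sum_const, ← Finset.sum_add_distrib, ← Finset.sum_add_distrib,
    ← Finset.sum_add_distrib]
  refine Finset.sum_le_sum fun c _ => ?_
  by_cases a0 : c ∈ S₀
  · simpa [a0, Finset.disjoint_left.1 h01 a0, Finset.disjoint_left.1 h02 a0] using
      key c hA (h0 c a0)
  by_cases a1 : c ∈ S₁
  · simpa [a0, a1, Finset.disjoint_left.1 h12 a1] using key c hB (h1 c a1)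
  by_cases a2 : c ∈ S₂
  · simpa [a0, a1, a2] using key c hC (h2 c a2)
  · simpa [a0, a1, a2] using key c hD (h3 c a0)

end GT
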