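import Cfsg.Agent.Lib.Grp.Zsig

/-!
# Small Zsigmondy primes
-/

set_option autoImplicit false

namespace GT

open Polynomial

theorem not_sq_dvd_cyclotomic_eval {a n r : ℕ} (ha : 2 ≤ a) (hn : 3 ≤ n) (hr : r.Prime)
    (hrn : r ∣ n) : ¬ (r : ℤ) ^ 2 ∣ (cyclotomic n ℤ).eval (a : ℤ) := by
  intro h
  obtain ⟨k, m, h1, h2, h3, h4⟩ := zsig_aux (a := a) (n := n) (by omega) hr
    ((dvd_pow_self _ two_ne_zero).trans h)
  rcases k with _ | k
  · rw [pow_zero, one_mul] at h1
    exact h2 (h1 ▸ hrn)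
  set d := r ^ k * m with hd
  have hnd : n = d * r := by rw [h1, hd]; ring
  have hd0 : 0 < d := Nat.pos_of_ne_zero fun h0 => by rw [h0] at hnd; omega
  have hdn : d ∈ n.properDivisors := Nat.mem_properDivisors.2
    ⟨⟨r, hnd⟩, by rw [hnd]; exact lt_mul_of_one_lt_right hd0 hr.one_lt⟩
  have h5 := eval_dvd (x := (a : ℤ))
    (X_pow_sub_one_mul_cyclotomic_dvd_X_pow_sub_one_of_dvd ℤ hdn)
  simp only [eval_mul, eval_sub, eval_pow, eval_X, eval_one] at h5
  set b : ℤ := (a : ℤ) ^ d with hb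
  have hb1 : b - 1 ≠ 0 := by
    have : (1 : ℤ) < b := one_lt_pow₀ (by exact_mod_cast (by omega : 1 < a)) hd0.ne'
    omega
  rw [hnd, pow_mul, ← hb, ← mul_geom_sum b r, mul_dvd_mul_iff_left hb1, ← hnd] at h5
  have h6 : (r : ℤ) ^ 2 ∣ ∑ i ∈ Finset.range r, b ^ i := h.trans h5
  obtain ⟨c, hc⟩ := (h4 d).2 (dvd_mul_left _ _)
  rcases hr.eq_two_or_odd' with rfl | hodd
  · obtain rfl : m = 1 := Nat.dvd_one.1 h3
    rcases k with _ | k
    · omega
    have h7 : b = ((a : ℤ) ^ 2 ^ k) ^ 2 := by rw [hb, hd, ← pow_mul, mul_one, pow_succ]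
    have h8 : (4 : ℤ) ∣ 1 + b := by simpa [Finset.sum_range_succ] using h6
    rw [h7] at h8
    generalize (a : ℤ) ^ 2 ^ k = x at h8
    have h9 : x % 4 = 0 ∨ x % 4 = 1 ∨ x % 4 = 2 ∨ x % 4 = 3 := by omega
    have h10 : (1 + x ^ 2) % 4 = 0 := Int.emod_eq_zero_of_dvd h8
    rcases h9 with h9 | h9 | h9 | h9 <;> simp [pow_two, Int.add_emod, Int.mul_emod, h9] at h10
  · have h7 := odd_sq_dvd_geom_sum₂_sub (R := ℤ) 1 c hodd
    simp only [one_pow, mul_one] at h7
    rw [show 1 + (r : ℤ) * c = b by rw [hb]; linarith] at h7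
    have h8 : (r : ℤ) ^ 2 ∣ r := by simpa using (dvd_sub h6 h7)
    have h9 : r ^ 2 ∣ r := by exact_mod_cast h8
    have := Nat.le_of_dvd hr.pos h9
    nlinarith [hr.two_le]

theorem le_two_mul_totient_sq (n : ℕ) :
    n ≤ 2 * n.totient ^ 2 ∧ (¬ 2 ∣ n → n ≤ n.totient ^ 2) := by
  induction n using Nat.recOnPosPrimePosCoprime with
  | zero => simp
  | one => simp
  | prime_pow p k hp hk =>
    obtain ⟨j, rfl⟩ := Nat.exists_eq_succ_of_ne_zero hk.ne'
    rw [Nat.totient_prime_pow_succ hp]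
    have h1 : 1 ≤ p ^ j := Nat.one_le_pow _ _ hp.pos
    have key : p ≠ 2 → p ^ (j + 1) ≤ (p ^ j * (p - 1)) ^ 2 := fun h2 => by
      have h3 : 3 ≤ p := by have := hp.two_le; omega
      obtain ⟨q, rfl⟩ := Nat.exists_eq_add_of_le h3
      have : 3 + q - 1 = 2 + q := by omega
      rw [this, pow_succ, mul_pow]
      exact Nat.mul_le_mul (Nat.le_self_pow two_ne_zero _) (by nlinarith)
    refine ⟨?_, fun h => key fun h2 => h (h2 ▸ dvd_pow_self _ (by omega))⟩
    by_cases h2 : p = 2
    · subst h2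
      rw [pow_succ]
      norm_num
      nlinarith
    · exact (key h2).trans (Nat.le_mul_of_pos_left _ two_pos)
  | coprime a b ha hb hab iha ihb =>
    rw [Nat.totient_mul hab, mul_pow]
    refine ⟨?_, fun h => Nat.mul_le_mul (iha.2 fun h' => h (h'.mul_right _))
      (ihb.2 fun h' => h (h'.mul_left _))⟩
    by_cases h2 : 2 ∣ a
    · have h3 : ¬ 2 ∣ b := fun h => by
        have := Nat.eq_one_of_dvd_coprimes hab h2 h
        omega
      rw [← mul_assoc]
      exact Nat.mul_le_mul iha.1 (ihb.2 h3)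
    · rw [mul_left_comm]
      exact Nat.mul_le_mul (iha.2 h2) ihb.1

theorem thirty_mul_pow_le (t : ℕ) (ht : 14 ≤ t) : 30 * t ^ 6 ≤ 4 ^ t := by
  induction t, ht using Nat.le_induction with
  | base => norm_num
  | succ t ht ih =>
    have h1 : (t + 1) ^ 3 ≤ 2 * t ^ 3 := by nlinarith [Nat.mul_le_mul ht ht]
    have h2 : (t + 1) ^ 6 ≤ 4 * t ^ 6 := by
      calc (t + 1) ^ 6 = ((t + 1) ^ 3) ^ 2 := by ring
        _ ≤ (2 * t ^ 3) ^ 2 := Nat.pow_le_pow_left h1 2
        _ = 4 * t ^ 6 := by ring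
    rw [pow_succ 4]
    omega

theorem small_of_pow_totient_lt {n : ℕ} (hn : 3 ≤ n)
    (h : 4 ^ n.totient < n * (n + 1) * (2 * n + 1)) :
    n = 3 ∨ n = 4 ∨ n = 5 ∨ n = 6 ∨ n = 8 ∨ n = 10 ∨ n = 12 ∨ n = 14 ∨ n = 18 := by
  have h1 := (le_two_mul_totient_sq n).1
  have h2 : n.totient ≤ 13 := by
    by_contra h2
    have h3 := thirty_mul_pow_le n.totient (by omega)
    set s := n.totient ^ 2 with hs
    have h4 : n.totient ^ 6 = s ^ 3 := by rw [hs]; ring
    have h5 : 1 ≤ s := Nat.one_le_pow _ _ (by omega)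
    have h6 : n * (n + 1) * (2 * n + 1) ≤ (2 * s) * (3 * s) * (5 * s) :=
      Nat.mul_le_mul (Nat.mul_le_mul h1 (by omega)) (by omega)
    have h7 : (2 * s) * (3 * s) * (5 * s) = 30 * s ^ 3 := by ring
    omega
  have h3 : n < 339 := by nlinarith
  have h4 : ∀ n ∈ Finset.range 339, 3 ≤ n ∧ 4 ^ n.totient < n * (n + 1) * (2 * n + 1) →
      n ∈ [3, 4, 5, 6, 8, 10, 12, 14, 18] := by decide +kernel
  simpa using h4 n (Finset.mem_range.2 h3) ⟨hn, h⟩

/-- If all Zsigmondy primes of `a ^ n - 1` are `n + 1` or `2 n + 1` and divide it only once, then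
`(a, n) = (5, 6)` or `(17, 6)`. -/
theorem eq_of_zsigmondy_small {a n : ℕ} (ha : a.Prime) (h5 : 5 ≤ a) (hn : 3 ≤ n)
    (h : ∀ r : ℕ, r.Prime → r ∣ a ^ n - 1 → (∀ j, 0 < j → j < n → ¬ r ∣ a ^ j - 1) →
      (r = n + 1 ∨ r = 2 * n + 1) ∧ ¬ r ^ 2 ∣ a ^ n - 1) :
    n = 6 ∧ (a = 5 ∨ a = 17) := by
  set N := ((cyclotomic n ℤ).eval (a : ℤ)).natAbs with hN
  have hlt : (a - 1) ^ n.totient < N :=
    sub_one_pow_totient_lt_natAbs_cyclotomic_eval (by omega) (by omega)
  have hc : ∀ j, ((a ^ j - 1 : ℕ) : ℤ) = (a : ℤ) ^ j - 1 := fun j => by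
    rw [Nat.cast_sub (Nat.one_le_pow _ _ ha.pos)]; simp
  have hNd : N ∣ a ^ n - 1 := by
    rw [hN, ← Int.natCast_dvd_natCast, hc, Int.natAbs_dvd]
    simpa using eval_dvd (x := (a : ℤ)) (cyclotomic.dvd_X_pow_sub_one n ℤ)
  have hA : ∀ r : ℕ, r.Prime → r ∣ N → r ∣ n * (n + 1) * (2 * n + 1) ∧ ¬ r ^ 2 ∣ N := by
    intro r hr hrN
    by_cases hrn : r ∣ n
    · refine ⟨(hrn.mul_right _).mul_right _, fun h2 =>
        not_sq_dvd_cyclotomic_eval (a := a) (by omega) hn hr hrn ?_⟩
      exact_mod_cast Int.natCast_dvd.2 h2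
    obtain ⟨k, m, h1, h2, h3, h4⟩ := zsig_aux (a := a) (n := n) (by omega) hr
      (Int.natCast_dvd.2 hrN)
    rcases k with _ | k
    · rw [pow_zero, one_mul] at h1
      subst h1
      obtain ⟨h6, h7⟩ := h r hr (hrN.trans hNd) fun j hj0 hjn hj => by
        have := Nat.le_of_dvd hj0 ((h4 j).1 (by rw [← hc]; exact_mod_cast hj))
        omega
      refine ⟨?_, fun h8 => h7 (h8.trans hNd)⟩
      rcases h6 with rfl | rfl
      · exact (dvd_mul_left _ _).mul_right _
      · exact dvd_mul_left _ _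
    · exact absurd (h1 ▸ (dvd_pow_self r (by omega)).mul_right m) hrn
  have hN0 : N ≠ 0 := by omega
  have hd : N ∣ n * (n + 1) * (2 * n + 1) := by
    rw [← Nat.factorization_prime_le_iff_dvd hN0 (by positivity)]
    intro r hr
    by_cases hrN : r ∣ N
    · have h1 := (hr.dvd_iff_one_le_factorization (by positivity)).1 (hA r hr hrN).1
      have h2 := mt (hr.pow_dvd_iff_le_factorization hN0).2 (hA r hr hrN).2
      omega
    · rw [Nat.factorization_eq_zero_of_not_dvd hrN]
      exact Nat.zero_le _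
  have hle := hlt.trans_le (Nat.le_of_dvd (by positivity) hd)
  have key : ∀ r : ℕ, r.Prime → r ∣ a ^ n - 1 → (∀ j < n, 0 < j → ¬ r ∣ a ^ j - 1) →
      ((r ≠ n + 1 ∧ r ≠ 2 * n + 1) ∨ r ^ 2 ∣ a ^ n - 1) → False := fun r h1 h2 h3 h4 => by
    have := h r h1 h2 fun j hj0 hj => h3 j hj hj0
    tauto
  have hb : ∀ {t c : ℕ}, n.totient = t → n * (n + 1) * (2 * n + 1) ≤ c ^ t → a ≤ c := by
    intro t c h1 h2
    rw [h1] at hle
    have := lt_of_pow_lt_pow_left₀ t (Nat.zero_le _) (hle.trans_le h2)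
    omega
  rcases small_of_pow_totient_lt hn
    (lt_of_le_of_lt (Nat.pow_le_pow_left (by omega) _) hle) with
    rfl | rfl | rfl | rfl | rfl | rfl | rfl | rfl | rfl
  · have := hb (t := 2) (c := 10) (by decide) (by norm_num)
    interval_cases a <;> first | (exfalso; revert ha; decide) | skip
    · exact (key 31 (by norm_num) (by norm_num) (by decide) (by norm_num)).elim
    · exact (key 19 (by norm_num) (by norm_num) (by decide) (by norm_num)).elim
  · have := hb (t := 2) (c := 14) (by decide) (by norm_num)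
    interval_cases a <;> first | (exfalso; revert ha; decide) | skip
    · exact (key 13 (by norm_num) (by norm_num) (by decide) (by norm_num)).elim
    · exact (key 5 (by norm_num) (by norm_num) (by decide) (by norm_num)).elim
    · exact (key 61 (by norm_num) (by norm_num) (by decide) (by norm_num)).elim
    · exact (key 17 (by norm_num) (by norm_num) (by decide) (by norm_num)).elim
  · have := hb (t := 4) (c := 5) (by decide) (by norm_num)
    interval_cases a
    · exact (key 71 (by norm_num) (by norm_num) (by decide) (by norm_num)).elim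
  · have := hb (t := 2) (c := 24) (by decide) (by norm_num)
    interval_cases a <;> first | (exfalso; revert ha; decide) | simp; done | skip
    · exact (key 43 (by norm_num) (by norm_num) (by decide) (by norm_num)).elim
    · exact (key 37 (by norm_num) (by norm_num) (by decide) (by norm_num)).elim
    · exact (key 157 (by norm_num) (by norm_num) (by decide) (by norm_num)).elim
    · exact (key 7 (by norm_num) (by norm_num) (by decide) (by norm_num)).elim
    · exact (key 13 (by norm_num) (by norm_num) (by decide) (by norm_num)).elim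
  · have := hb (t := 4) (c := 6) (by decide) (by norm_num)
    interval_cases a <;> first | (exfalso; revert ha; decide) | skip
    · exact (key 313 (by norm_num) (by norm_num) (by decide) (by norm_num)).elim
  · have := hb (t := 4) (c := 7) (by decide) (by norm_num)
    interval_cases a <;> first | (exfalso; revert ha; decide) | skip
    · exact (key 521 (by norm_num) (by norm_num) (by decide) (by norm_num)).elim
    · exact (key 191 (by norm_num) (by norm_num) (by decide) (by norm_num)).elim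
  · have := hb (t := 4) (c := 8) (by decide) (by norm_num)
    interval_cases a <;> first | (exfalso; revert ha; decide) | skip
    · exact (key 601 (by norm_num) (by norm_num) (by decide) (by norm_num)).elim
    · exact (key 181 (by norm_num) (by norm_num) (by decide) (by norm_num)).elim
  · have := hb (t := 6) (c := 5) (by decide) (by norm_num)
    interval_cases a
    · exact (key 449 (by norm_num) (by norm_num) (by decide) (by norm_num)).elim
  · have := hb (t := 6) (c := 5) (by decide) (by norm_num)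
    interval_cases a
    · exact (key 5167 (by norm_num) (by norm_num) (by decide) (by norm_num)).elim

end GT
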